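import Cfsg.Agent.H802.FusCentric

/-!
# The model theorem, part 1: sets with two actions of `S` over `Aut_F(Q)` (helper771)

`F` is a saturated fusion system over `S`, `Q` a subgroup which is normal in `S` and centric.  A "model set" is
a set `X` with commuting left and right actions of `S` and a map `π : X → Aut_F(Q)`, behaving like a model
group `L ⊇ S` (with `π l = ` conjugation by `l` on `Q`).  The comparison lemma says that any two model sets are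
isomorphic, compatibly with a given map `φ : P → S` of the system, `Q ≤ P`.
-/

set_option autoImplicit false

namespace Cfsg.Agent.H771

open Cfsg Cfsg.FusionSystem Cfsg.Agent.H802

/-- Two actions of `Γ`, on `X` and `Y`, lying over the same action on `A`, transitive on the fibres and with the
same stabilizers over each point, are isomorphic. -/
theorem exists_equiv_of_stab {Γ X Y A : Type*} [Group Γ] (a : Γ →* Equiv.Perm X)
    (b : Γ →* Equiv.Perm Y) (π : X → A) (ρ : Y → A) (act : Γ → A → A)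
    (hπ : ∀ γ x, π (a γ x) = act γ (π x)) (hρ : ∀ γ y, ρ (b γ y) = act γ (ρ y))
    (hX : ∀ x x', π x = π x' → ∃ γ, a γ x = x') (hY : ∀ y y', ρ y = ρ y' → ∃ γ, b γ y = y')
    (hsurj : ∀ y, ∃ x, π x = ρ y)
    (hst : ∀ x, ∃ y, ρ y = π x ∧ ∀ γ, a γ x = x ↔ b γ y = y) :
    ∃ f : X ≃ Y, (∀ γ x, f (a γ x) = b γ (f x)) ∧ ∀ x, ρ (f x) = π x := by
  choose y hy1 hy2 using hst
  let s : Setoid X :=
    { r := fun x x' => ∃ γ, a γ x = x'
      iseqv :=
        { refl := fun x => ⟨1, by simp⟩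
          symm := by
            rintro x x' ⟨γ, rfl⟩
            exact ⟨γ⁻¹, by rw [map_inv]; exact (a γ).symm_apply_apply x⟩
          trans := by
            rintro x x' x'' ⟨γ, rfl⟩ ⟨δ, rfl⟩
            exact ⟨δ * γ, by rw [map_mul]; rfl⟩ } }
  let out : X → X := fun x => (Quotient.mk s x).out
  have hout : ∀ x, ∃ γ, a γ (out x) = x := fun x => Quotient.mk_out x
  have hout2 : ∀ x γ, out (a γ x) = out x := by
    intro x γ
    show (Quotient.mk s (a γ x)).out = (Quotient.mk s x).out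
    congr 1
    exact Quotient.sound (s.symm ⟨γ, rfl⟩)
  choose g hg using hout
  have key : ∀ x γ, a γ (out x) = x → b γ (y (out x)) = b (g x) (y (out x)) := by
    intro x γ h
    have h1 : a ((g x)⁻¹ * γ) (out x) = out x := by
      rw [map_mul, map_inv, Equiv.Perm.mul_apply, h]
      rw [Equiv.Perm.inv_eq_iff_eq]
      exact (hg x).symm
    have h2 := (hy2 _ _).1 h1
    rw [map_mul, map_inv, Equiv.Perm.mul_apply, Equiv.Perm.inv_eq_iff_eq] at h2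
    exact h2
  have keystab : ∀ x γ, a γ x = x ↔ b γ (b (g x) (y (out x))) = b (g x) (y (out x)) := by
    intro x γ
    have h1 : a γ x = x ↔ a ((g x)⁻¹ * γ * g x) (out x) = out x := by
      rw [map_mul, map_mul, map_inv, Equiv.Perm.mul_apply, Equiv.Perm.mul_apply, hg x,
        Equiv.Perm.inv_eq_iff_eq, hg x]
    have h2 : b γ (b (g x) (y (out x))) = b (g x) (y (out x)) ↔
        b ((g x)⁻¹ * γ * g x) (y (out x)) = y (out x) := by
      rw [map_mul, map_mul, map_inv, Equiv.Perm.mul_apply, Equiv.Perm.mul_apply,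
        Equiv.Perm.inv_eq_iff_eq]
    rw [h1, h2]
    exact hy2 _ _
  have hf1 : ∀ γ x, b (g (a γ x)) (y (out (a γ x))) = b γ (b (g x) (y (out x))) := by
    intro γ x
    have h1 : a (γ * g x) (out (a γ x)) = a γ x := by
      rw [hout2, map_mul, Equiv.Perm.mul_apply, hg]
    rw [← key (a γ x) (γ * g x) h1, hout2, map_mul, Equiv.Perm.mul_apply]
  have hf2 : ∀ x, ρ (b (g x) (y (out x))) = π x := by
    intro x
    rw [hρ, hy1, ← hπ, hg]
  refine ⟨Equiv.ofBijective (fun x => b (g x) (y (out x))) ⟨?_, ?_⟩, hf1, hf2⟩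
  · intro x x' hxx
    have hxx' : b (g x) (y (out x)) = b (g x') (y (out x')) := hxx
    have h1 : π x = π x' := by rw [← hf2 x, hxx', hf2 x']
    obtain ⟨γ, rfl⟩ := hX _ _ h1
    rw [hf1] at hxx'
    exact ((keystab x γ).2 hxx'.symm).symm
  · intro z
    obtain ⟨x, hx⟩ := hsurj z
    obtain ⟨γ, hγ⟩ := hY (b (g x) (y (out x))) z (by rw [hf2, hx])
    exact ⟨a γ x, (hf1 γ x).trans hγ⟩

universe u v w

variable {Ω : Type u} [Group Ω] {S : Subgroup Ω}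

/-- Conjugation of `S` on a subgroup `Q` normalized by `S`. -/
def cS {Q : Subgroup Ω} (hN : S ≤ Subgroup.normalizer (Q : Set Ω)) : ↥S →* MulAut ↥Q :=
  Q.normalizerMonoidHom.comp (Subgroup.inclusion hN)

theorem cS_apply {Q : Subgroup Ω} (hN : S ≤ Subgroup.normalizer (Q : Set Ω)) (s : S) (q : Q) :
    ((cS hN s q : Q) : Ω) = s * q * (s : Ω)⁻¹ := rfl

theorem cS_eq_one_iff {Q : Subgroup Ω} (hN : S ≤ Subgroup.normalizer (Q : Set Ω)) (s : S) :
    cS hN s = 1 ↔ (s : Ω) ∈ Subgroup.centralizer (Q : Set Ω) := by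
  constructor
  · intro h
    refine Subgroup.mem_centralizer_iff.2 fun q hq => ?_
    have h1 := cS_apply hN s ⟨q, hq⟩
    rw [h] at h1
    have h2 : q = (s : Ω) * q * (s : Ω)⁻¹ := h1
    conv_lhs => rw [h2]
    group
  · intro h
    apply MulEquiv.ext
    intro q
    apply Subtype.ext
    rw [cS_apply, ← Subgroup.mem_centralizer_iff.1 h q q.2]
    show (q : Ω) * s * (s : Ω)⁻¹ = q
    group

theorem cS_mem_autGroup (F : FusionSystem S) {Q : Subgroup Ω} (hQS : Q ≤ S)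
    (hN : S ≤ Subgroup.normalizer (Q : Set Ω)) (s : S) : cS hN s ∈ F.autGroup Q := by
  rw [mem_autGroup_iff F hQS]
  exact mem_of_apply_eq (F.conj_mem (g := s) hQS s.2) (fun x => rfl)

theorem cS_range {Q : Subgroup Ω} (hN : S ≤ Subgroup.normalizer (Q : Set Ω)) :
    (cS hN).range = autInducedBy S Q := by
  ext α
  rw [mem_autInducedBy_iff]
  constructor
  · rintro ⟨s, rfl⟩
    exact ⟨s, s.2, fun x => rfl⟩
  · rintro ⟨g, hg, h⟩
    refine ⟨⟨g, hg⟩, ?_⟩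
    apply MulEquiv.ext
    intro x
    apply Subtype.ext
    rw [h]
    rfl

/-- Model sets. -/
structure IsFSet (F : FusionSystem S) {Q : Subgroup Ω} (hN : S ≤ Subgroup.normalizer (Q : Set Ω))
    {X : Type*} (a : ↥S × ↥S →* Equiv.Perm X) (π : X → MulAut ↥Q) : Prop where
  mem : ∀ x, π x ∈ F.autGroup Q
  surj : ∀ α ∈ F.autGroup Q, ∃ x, π x = α
  map : ∀ (s t : S) (x : X), π (a (s, t) x) = cS hN s * π x * (cS hN t)⁻¹
  fib : ∀ x y, π x = π y → ∃ z : S, (z : Ω) ∈ Subgroup.centralizer (Q : Set Ω) ∧ a (1, z) x = y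
  stab : ∀ x, ∃ (P : Subgroup Ω) (ψ : P →* Ω) (hQP : Q ≤ P), ψ ∈ F.Hom P ∧
    (∀ s t : S, a (s, t) x = x ↔ ∃ h : (s : Ω) ∈ P, ψ ⟨s, h⟩ = t) ∧
    ∀ q : Q, ψ ⟨q, hQP q.2⟩ = (((π x)⁻¹ q : Q) : Ω)

namespace IsFSet

variable {F : FusionSystem S} {Q : Subgroup Ω} {hN : S ≤ Subgroup.normalizer (Q : Set Ω)}
variable {X : Type v} {a : ↥S × ↥S →* Equiv.Perm X} {π : X → MulAut ↥Q}
variable {X' : Type w} {a' : ↥S × ↥S →* Equiv.Perm X'} {π' : X' → MulAut ↥Q}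

/-- The right action is free. -/
theorem free (h : IsFSet F hN a π) {x : X} {t : S} (ht : a (1, t) x = x) : t = 1 := by
  obtain ⟨P, ψ, hQP, hψ, h1, h2⟩ := h.stab x
  obtain ⟨h3, h4⟩ := (h1 1 t).1 ht
  apply Subtype.ext
  rw [← h4]
  exact ψ.map_one

theorem mul_apply (s t s' t' : S) (x : X) : a (s, t) (a (s', t') x) = a (s * s', t * t') x := by
  rw [← Equiv.Perm.mul_apply, ← map_mul]
  rfl

/-- An element `p` belongs to the domain of the stabilizer of `x` iff `c_p π(x) ∈ π(x) Aut_S(Q)`. -/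
theorem mem_dom_iff (h : IsFSet F hN a π) {x : X} {P : Subgroup Ω} {ψ : P →* Ω}
    (h1 : ∀ s t : S, a (s, t) x = x ↔ ∃ h : (s : Ω) ∈ P, ψ ⟨s, h⟩ = t) (s : S)
    (hψ : ∀ y, ψ y ∈ S) :
    (s : Ω) ∈ P ↔ ∃ t : S, cS hN s * π x = π x * cS hN t := by
  constructor
  · intro hs
    refine ⟨⟨ψ ⟨s, hs⟩, hψ _⟩, ?_⟩
    have h2 := (h1 s ⟨ψ ⟨s, hs⟩, hψ _⟩).2 ⟨hs, rfl⟩
    have h3 := h.map s ⟨ψ ⟨s, hs⟩, hψ _⟩ x
    rw [h2] at h3
    exact (eq_mul_inv_iff_mul_eq.1 h3).symm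
  · rintro ⟨t, ht⟩
    have h3 : π (a (s, t) x) = π x := by
      rw [h.map, ht, mul_inv_cancel_right]
    obtain ⟨z, -, hz⟩ := h.fib _ _ h3
    rw [mul_apply, one_mul] at hz
    obtain ⟨h4, -⟩ := (h1 _ _).1 hz
    exact h4

/-- **Comparison lemma** for model sets. -/
theorem exists_equiv {p : ℕ} [Fact p.Prime] [Finite S] (hS : IsPGroup p S) (hF : F.IsSaturated p)
    (hQc : F.IsCentric Q) (h : IsFSet F hN a π) (h' : IsFSet F hN a' π') {P : Subgroup Ω}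
    (hQP : Q ≤ P) {φ : P →* Ω} (hφ : φ ∈ F.Hom P) {β : MulAut Q}
    (hβ : ∀ q : Q, φ ⟨q, hQP q.2⟩ = ((β q : Q) : Ω)) :
    ∃ f : X ≃ X', (∀ (s s' : S) (hs : (s : Ω) ∈ P) (t : S) (x : X), φ ⟨s, hs⟩ = s' →
      f (a (s, t) x) = a' (s', t) (f x)) ∧ ∀ x, π' (f x) = β * π x := by
  have hPS : P ≤ S := hom_le hφ
  have hQS : Q ≤ S := hQP.trans hPS
  have hβm : β ∈ F.autGroup Q := by
    rw [mem_autGroup_iff F hQS]
    exact mem_of_agree hφ hQP (fun x hx => (hβ ⟨x, hx⟩).symm)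
  let φS : P →* S := φ.codRestrict S (hom_apply_mem hφ)
  have hφS : ∀ x : P, ((φS x : S) : Ω) = φ x := fun x => rfl
  let iP : P →* S := Subgroup.inclusion hPS
  have hiP : ∀ x : P, ((iP x : S) : Ω) = x := fun x => rfl
  let A1 : ↥P × ↥S →* Equiv.Perm X := a.comp (MonoidHom.prodMap iP (MonoidHom.id S))
  let A2 : ↥P × ↥S →* Equiv.Perm X' := a'.comp (MonoidHom.prodMap φS (MonoidHom.id S))
  have hA1 : ∀ (γ : ↥P × ↥S) (x : X), A1 γ x = a (iP γ.1, γ.2) x := fun γ x => rfl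
  have hA2 : ∀ (γ : ↥P × ↥S) (x : X'), A2 γ x = a' (φS γ.1, γ.2) x := fun γ x => rfl
  -- conjugation relation
  have hconj : ∀ y : P, cS hN (φS y) * β = β * cS hN (iP y) := by
    intro y
    apply MulEquiv.ext
    intro q
    apply Subtype.ext
    rw [MulAut.mul_apply, MulAut.mul_apply, cS_apply, ← hβ, ← hβ, hφS, ← map_inv, ← map_mul,
      ← map_mul]
    rfl
  have hex := exists_equiv_of_stab A1 A2 (fun x => β * π x) π'
    (fun γ α => cS hN (φS γ.1) * α * (cS hN γ.2)⁻¹) ?_ ?_ ?_ ?_ ?_ ?_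
  · obtain ⟨f, hf1, hf2⟩ := hex
    refine ⟨f, ?_, hf2⟩
    intro s s' hs t x hss'
    have := hf1 (⟨s, hs⟩, t) x
    rw [hA1, hA2] at this
    have e1 : iP ⟨s, hs⟩ = s := Subtype.ext rfl
    have e2 : φS ⟨s, hs⟩ = s' := Subtype.ext hss'
    rw [e1, e2] at this
    exact this
  · intro γ x
    show β * π (a (iP γ.1, γ.2) x) = _
    rw [h.map, ← mul_assoc, ← mul_assoc, ← mul_assoc, ← hconj]
  · intro γ x
    show π' (a' (φS γ.1, γ.2) x) = _
    rw [h'.map]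
  · intro x x' hxx
    obtain ⟨z, -, hz⟩ := h.fib x x' (mul_left_cancel hxx)
    exact ⟨(1, z), by rw [hA1, map_one]; exact hz⟩
  · intro x x' hxx
    obtain ⟨z, -, hz⟩ := h'.fib x x' hxx
    exact ⟨(1, z), by rw [hA2, map_one]; exact hz⟩
  · intro y
    obtain ⟨x, hx⟩ := h.surj (β⁻¹ * π' y) (mul_mem (inv_mem hβm) (h'.mem y))
    exact ⟨x, by show β * π x = _; rw [hx, mul_inv_cancel_left]⟩
  · intro x
    obtain ⟨y, hy⟩ := h'.surj (β * π x) (mul_mem hβm (h.mem x))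
    obtain ⟨P₁, ψ₁, hQP₁, hψ₁, hs₁, hq₁⟩ := h.stab x
    obtain ⟨P₂, ψ₂, hQP₂, hψ₂, hs₂, hq₂⟩ := h'.stab y
    have hdom1 := fun s => mem_dom_iff h hs₁ s (hom_apply_mem hψ₁)
    have hdom2 := fun s => mem_dom_iff h' hs₂ s (hom_apply_mem hψ₂)
    -- the domains agree
    have hdom : ∀ w : P, (w : Ω) ∈ P₁ ↔ φ w ∈ P₂ := by
      intro w
      have e1 := hdom1 (iP w)
      have e2 := hdom2 (φS w)
      rw [hiP] at e1
      rw [hφS] at e2
      rw [e1, e2, hy]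
      constructor
      · rintro ⟨t, ht⟩
        exact ⟨t, by rw [← mul_assoc, hconj, mul_assoc, ht, mul_assoc]⟩
      · rintro ⟨t, ht⟩
        rw [← mul_assoc, hconj, mul_assoc, mul_assoc] at ht
        exact ⟨t, mul_left_cancel ht⟩
    -- two maps of the system on `R = P ⊓ P₁`
    set R : Subgroup Ω := P ⊓ P₁ with hR
    have hRP : R ≤ P := inf_le_left
    have hRP₁ : R ≤ P₁ := inf_le_right
    have hQR : Q ≤ R := le_inf hQP hQP₁
    have hmap : ∀ w : R, (φ.comp (Subgroup.inclusion hRP)) w ∈ P₂ :=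
      fun w => (hdom ⟨w, hRP w.2⟩).1 (hRP₁ w.2)
    obtain ⟨χ, hχ, hχe⟩ := exists_comp (restrict_mem hφ hRP) hψ₂ hmap
    have hχ₁ := restrict_mem hψ₁ hRP₁
    obtain ⟨z, hzQ, hzC, hz⟩ := exists_conj_of_agree_on_centric hS hF hQc hQR hχ₁ hχ (by
      intro q hq
      rw [hχe]
      have e1 : (φ.comp (Subgroup.inclusion hRP)) ⟨q, hQR hq⟩ = ((β ⟨q, hq⟩ : Q) : Ω) :=
        hβ ⟨q, hq⟩
      have e2 : (⟨(φ.comp (Subgroup.inclusion hRP)) ⟨q, hQR hq⟩, hmap _⟩ : P₂) =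
          ⟨(β ⟨q, hq⟩ : Q), hQP₂ (β ⟨q, hq⟩ : Q).2⟩ := Subtype.ext e1
      rw [e2, hq₂, hy]
      show ψ₁ ⟨q, _⟩ = _
      rw [hq₁ ⟨q, hq⟩, mul_inv_rev, MulAut.mul_apply, MulAut.inv_apply_self])
    -- `z' = ψ₁(z)`; then `χ w = z' ψ₁(w) z'⁻¹`
    have hzP₁ : z ∈ P₁ := hQP₁ hzQ
    have hzS : ψ₁ ⟨z, hzP₁⟩ ∈ S := hom_apply_mem hψ₁ _
    set z' : S := ⟨ψ₁ ⟨z, hzP₁⟩, hzS⟩ with hz'
    have hz'C : (z' : Ω) ∈ Subgroup.centralizer (Q : Set Ω) := by
      refine Subgroup.mem_centralizer_iff.2 fun q hq => ?_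
      have e1 := hq₁ (π x ⟨q, hq⟩)
      rw [MulAut.inv_apply_self] at e1
      have e2 := Subgroup.mem_centralizer_iff.1 hzC _ (π x ⟨q, hq⟩ : Q).2
      have e3 : (⟨(π x ⟨q, hq⟩ : Q), hQP₁ (π x ⟨q, hq⟩ : Q).2⟩ : P₁) * ⟨z, hzP₁⟩ =
          ⟨z, hzP₁⟩ * ⟨(π x ⟨q, hq⟩ : Q), hQP₁ (π x ⟨q, hq⟩ : Q).2⟩ := Subtype.ext e2
      have e4 := congrArg ψ₁ e3
      rw [map_mul, map_mul, e1] at e4
      exact e4
    have hχz : ∀ (w : Ω) (hw : w ∈ R), χ ⟨w, hw⟩ = z' * ψ₁ ⟨w, hRP₁ hw⟩ * (z' : Ω)⁻¹ := by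
      intro w hw
      have hzw : z * w * z⁻¹ ∈ R := R.mul_mem (R.mul_mem (hQR hzQ) hw) (R.inv_mem (hQR hzQ))
      rw [hz ⟨w, hw⟩ hzw]
      show ψ₁ ⟨z * w * z⁻¹, _⟩ = ψ₁ ⟨z, hzP₁⟩ * ψ₁ ⟨w, hRP₁ hw⟩ * (ψ₁ ⟨z, hzP₁⟩)⁻¹
      rw [← map_inv, ← map_mul, ← map_mul]
      rfl
    refine ⟨a' (1, z'⁻¹) y, ?_, ?_⟩
    · rw [h'.map, (cS_eq_one_iff hN z'⁻¹).2 (inv_mem hz'C), hy]
      simp
    · rintro ⟨w, t⟩
      rw [hA1, hA2]
      show a (iP w, t) x = x ↔ a' (φS w, t) (a' (1, z'⁻¹) y) = a' (1, z'⁻¹) y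
      rw [hs₁ (iP w) t]
      have e1 : a' (φS w, t) (a' (1, z'⁻¹) y) = a' (1, z'⁻¹) y ↔
          a' (φS w, z' * t * z'⁻¹) y = y := by
        rw [mul_apply, mul_one]
        constructor
        · intro e
          have e2 := congrArg (a' (1, z')) e
          rw [mul_apply, mul_apply, one_mul, mul_one, mul_inv_cancel] at e2
          rw [← mul_assoc] at e2
          rw [e2]
          have : ((1 : S), (1 : S)) = 1 := rfl
          rw [this, map_one]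
          rfl
        · intro e
          have e2 := congrArg (a' (1, z'⁻¹)) e
          rw [mul_apply, one_mul] at e2
          rw [← e2]
          congr 2
          group
      rw [e1, hs₂]
      constructor
      · rintro ⟨hw, hwt⟩
        have hwP₁ : (w : Ω) ∈ P₁ := hw
        have hwR : (w : Ω) ∈ R := ⟨w.2, hwP₁⟩
        refine ⟨(hdom w).1 hwP₁, ?_⟩
        have e3 := hχz w hwR
        rw [hχe] at e3
        have e4 : ψ₁ ⟨(w : Ω), hRP₁ hwR⟩ = t := hwt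
        rw [e4] at e3
        exact e3
      · rintro ⟨hw, hwt⟩
        have hwP₁ : (w : Ω) ∈ P₁ := (hdom w).2 hw
        have hwR : (w : Ω) ∈ R := ⟨w.2, hwP₁⟩
        refine ⟨hwP₁, ?_⟩
        have e3 := hχz w hwR
        rw [hχe] at e3
        have e4 : ψ₂ ⟨φ w, hw⟩ = z' * t * (z' : Ω)⁻¹ := hwt
        have e5 : (z' : Ω) * t * (z' : Ω)⁻¹ = z' * ψ₁ ⟨w, hRP₁ hwR⟩ * (z' : Ω)⁻¹ :=
          e4.symm.trans e3
        exact (mul_left_cancel (mul_right_cancel e5)).symm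

end IsFSet

end Cfsg.Agent.H771
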