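import Cfsg.Agent.Lib.Cores
import Cfsg.Agent.H759.FusNormal
import Cfsg.Agent.H771.ModelGroup

/-!
# The model theorem, part 3: the model group and its properties (helper771)
-/

set_option autoImplicit false

namespace Cfsg.Agent.H771

open Cfsg Cfsg.FusionSystem Cfsg.Agent.H802

universe u v w

variable {Ω : Type u} [Group Ω] {S : Subgroup Ω}

/-- The working form of "L is a model of `F` with respect to `Q`": an embedding `ι : S → L`, the action
`ρ : L → Aut(Q)` of `L` on `Q` by conjugation, with image `Aut_F(Q)` and kernel inside `ι(C_S(Q))`, and such that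
maps of the system whose source contains `Q` are induced by `L`. -/
structure IsQModel (F : FusionSystem S) {Q : Subgroup Ω}
    (hN : S ≤ Subgroup.normalizer (Q : Set Ω)) {L : Type v} [Group L] (ι : ↥S →* L)
    (ρ : L →* MulAut ↥Q) : Prop where
  inj : Function.Injective ι
  rho : ∀ s, ρ (ι s) = cS hN s
  conj : ∀ (l : L) (q : Q) (h : (q : Ω) ∈ S) (h' : ((ρ l q : Q) : Ω) ∈ S),
    l * ι ⟨q, h⟩ * l⁻¹ = ι ⟨(ρ l q : Q), h'⟩
  ker : ∀ l : L, ρ l = 1 → ∃ z : S, (z : Ω) ∈ Subgroup.centralizer (Q : Set Ω) ∧ l = ι z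
  mem : ∀ l : L, ρ l ∈ F.autGroup Q
  surj : ∀ β ∈ F.autGroup Q, ∃ l, ρ l = β
  lift : ∀ (P : Subgroup Ω) (_ : Q ≤ P) (φ : P →* Ω) (_ : φ ∈ F.Hom P),
    ∃ l : L, ∀ (x : P) (hx : (x : Ω) ∈ S) (hx' : φ x ∈ S), l * ι ⟨x, hx⟩ * l⁻¹ = ι ⟨φ x, hx'⟩

section

variable {F : FusionSystem S} {Q : Subgroup Ω} {hN : S ≤ Subgroup.normalizer (Q : Set Ω)}

theorem le_normalizer_of_isNormal (hQ : F.IsNormal Q) : S ≤ Subgroup.normalizer (Q : Set Ω) :=
  Cfsg.Agent.H759.StronglyClosed.le_normalizer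
    (Cfsg.Agent.H759.IsNormal.stronglyClosed hQ)

theorem isFullyNormalized_of_le_normalizer [Finite S] (hQS : Q ≤ S)
    (hN : S ≤ Subgroup.normalizer (Q : Set Ω)) : F.IsFullyNormalized Q := by
  refine ⟨hQS, fun R _ => ?_⟩
  have h1 : normalizerIn S Q = S := inf_eq_left.2 hN
  rw [h1]
  exact Subgroup.card_le_of_le inf_le_left

/-- A map of the system with source containing the normal subgroup `Q` restricts to an automorphism of `Q`. -/
theorem exists_aut_of_normal [Finite S] (hQ : F.IsNormal Q) {P : Subgroup Ω} (hQP : Q ≤ P)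
    {φ : P →* Ω} (hφ : φ ∈ F.Hom P) :
    ∃ β ∈ F.autGroup Q, ∀ q : Q, φ ⟨q, hQP q.2⟩ = ((β q : Q) : Ω) := by
  have hQf : Finite Q := finite_of_le hQ.1
  have hsc := Cfsg.Agent.H759.IsNormal.stronglyClosed hQ
  have h1 := restrict_mem hφ hQP
  have h2 : (φ.comp (Subgroup.inclusion hQP)).range = Q :=
    range_eq_of_mapsTo h1 (fun x => hsc.2 Q le_rfl _ h1 x)
  obtain ⟨α, hα, hαe⟩ := exists_aut h1 h2
  exact ⟨α, hα, fun q => (hαe q).symm⟩

end

namespace IsQModel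

variable {F : FusionSystem S} {Q : Subgroup Ω} {hN : S ≤ Subgroup.normalizer (Q : Set Ω)}
variable {L : Type v} [Group L] {ι : ↥S →* L} {ρ : L →* MulAut ↥Q}

theorem finite [Finite S] (h : IsQModel F hN ι ρ) (hQS : Q ≤ S) : Finite L := by
  have hQf : Finite Q := finite_of_le hQS
  have h1 : Finite ρ.ker := by
    refine Finite.of_surjective (fun z : {z : S // ρ (ι z) = 1} => (⟨ι z, z.2⟩ : ρ.ker)) ?_
    rintro ⟨l, hl⟩
    obtain ⟨z, -, rfl⟩ := h.ker l hl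
    exact ⟨⟨z, hl⟩, rfl⟩
  have h2 : Finite (L ⧸ ρ.ker) := by
    have : Finite ρ.range := inferInstance
    exact Finite.of_equiv _ (QuotientGroup.quotientKerEquivRange ρ).symm.toEquiv
  exact Finite.of_subgroup_quotient ρ.ker

theorem realized [Finite S] {p : ℕ} [Fact p.Prime] (hS : IsPGroup p S) (hF : F.IsSaturated p)
    (hQn : F.IsNormal Q) (h : IsQModel F hN ι ρ) : F.IsRealizedBy ι := by
  have hQS := hQn.1
  refine ⟨h.inj, fun P hP φ hφ => ⟨fun hφF => ?_, ?_⟩⟩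
  · obtain ⟨ψ, hψ, h1, -⟩ := hQn.2 P φ hφF
    obtain ⟨l, hl⟩ := h.lift (P ⊔ Q) le_sup_right ψ hψ
    refine ⟨l, fun x => ?_⟩
    have h2 := hl (Subgroup.inclusion le_sup_left x) (hP x.2) (by rw [h1]; exact hφ x)
    refine Eq.trans ?_ h2.symm
    congr 1
    exact Subtype.ext (h1 x).symm
  · rintro ⟨g, hg⟩
    -- the subgroup of elements of `S` conjugated into `ι(S)` by `g`
    let T : Subgroup Ω := ((ι.range.comap (MulAut.conj g).toMonoidHom).comap ι).map S.subtype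
    have hT : ∀ x : S, (x : Ω) ∈ T ↔ ∃ y : S, ι y = g * ι x * g⁻¹ := by
      intro x
      constructor
      · rintro ⟨x', ⟨y, hy⟩, hx'⟩
        have : x' = x := Subtype.ext hx'
        subst this
        exact ⟨y, hy⟩
      · rintro ⟨y, hy⟩
        exact ⟨x, ⟨y, hy⟩, rfl⟩
    have hTS : T ≤ S := Subgroup.map_subtype_le _
    have hPT : P ≤ T := fun x hx => (hT ⟨x, hP hx⟩).2 ⟨_, hg ⟨x, hx⟩⟩
    have hQT : Q ≤ T := fun x hx => (hT ⟨x, hQS hx⟩).2
      ⟨_, (h.conj g ⟨x, hx⟩ (hQS hx) (hQS (ρ g ⟨x, hx⟩ : Q).2)).symm⟩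
    set β := ρ g with hβ
    have hβm : β ∈ F.autGroup Q := h.mem g
    have hβF : Q.subtype.comp β.toMonoidHom ∈ F.Hom Q := (mem_autGroup_iff F hQS β).1 hβm
    have hfn : F.IsFullyNormalized Q := isFullyNormalized_of_le_normalizer hQS hN
    have hrec := isReceptive_of_isFullyNormalized hS hF hfn
    have hrange : (Q.subtype.comp β.toMonoidHom).range = Q := by
      ext z
      constructor
      · rintro ⟨x, rfl⟩
        exact (β x).2
      · intro hz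
        exact ⟨β.symm ⟨z, hz⟩, congrArg Subtype.val (β.apply_symm_apply ⟨z, hz⟩)⟩
    obtain ⟨ψ, hψ, hψe⟩ := hrec.2 Q _ hβF hrange
    have hTE : T ≤ extender S Q (Q.subtype.comp β.toMonoidHom) := by
      intro x hx
      have hxS := hTS hx
      obtain ⟨y, hy⟩ := (hT ⟨x, hxS⟩).1 hx
      rw [mem_extender_iff]
      refine ⟨hxS, hN hxS, y, y.2, fun q hq => ?_⟩
      show ((β ⟨x * q * x⁻¹, hq⟩ : Q) : Ω) = y * (β q : Q) * (y : Ω)⁻¹
      have e1 : (⟨x * q * x⁻¹, hq⟩ : Q) = cS hN ⟨x, hxS⟩ q := Subtype.ext rfl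
      have e2 : β * cS hN ⟨x, hxS⟩ = cS hN y * β := by
        rw [← h.rho, ← h.rho, hy, map_mul, map_mul, map_inv, ← hβ, inv_mul_cancel_right]
      rw [e1, ← MulAut.mul_apply, e2, MulAut.mul_apply, cS_apply]
    obtain ⟨l, hl⟩ := h.lift _ (hQT.trans hTE) ψ hψ
    -- `l⁻¹ g` centralizes `Q`
    have hlρ : ρ l = β := by
      apply MulEquiv.ext
      intro q
      have e1 := h.conj l q (hQS q.2) (hQS (ρ l q : Q).2)
      have hq : ψ ⟨q, hTE (hQT q.2)⟩ = (β q : Q) := hψe q q.2 _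
      have e2 := hl ⟨q, hTE (hQT q.2)⟩ (hQS q.2) (hom_apply_mem hψ _)
      have e3 := h.inj (e1.symm.trans e2)
      have e4 : ((ρ l q : Q) : Ω) = ψ ⟨q, hTE (hQT q.2)⟩ := congrArg Subtype.val e3
      exact Subtype.ext (e4.trans hq)
    obtain ⟨z, hz, hzl⟩ := h.ker (l⁻¹ * g) (by rw [map_mul, map_inv, hlρ, ← hβ, inv_mul_cancel])
    have hgl : g = l * ι z := by rw [← hzl, mul_inv_cancel_left]
    have hzQ : (z : Ω) ∈ T := by
      rw [hT, hgl]
      obtain ⟨y, hy⟩ : ∃ y : S, ι y = l * ι z * l⁻¹ := by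
        have h1 : (z : Ω) ∈ extender S Q (Q.subtype.comp β.toMonoidHom) :=
          centralizerIn_le_extender _ _ _ ⟨z.2, hz⟩
        exact ⟨⟨ψ ⟨z, h1⟩, hom_apply_mem hψ _⟩, (hl ⟨z, h1⟩ z.2 _).symm⟩
      exact ⟨y, by rw [hy]; group⟩
    -- now `φ x = ψ (z x z⁻¹)`
    have hzP : ∀ x : P, (z : Ω) * x * (z : Ω)⁻¹ ∈ extender S Q (Q.subtype.comp β.toMonoidHom) :=
      fun x => hTE (T.mul_mem (T.mul_mem hzQ (hPT x.2)) (T.inv_mem hzQ))
    obtain ⟨χ, hχ, hχe⟩ := exists_comp (F.conj_mem (g := (z : Ω)) hP z.2) hψ hzP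
    refine mem_of_apply_eq hχ (fun x => ?_)
    rw [hχe]
    have e1 := hg x
    have e2 := hl ⟨_, hzP x⟩ (S.mul_mem (S.mul_mem z.2 (hP x.2)) (S.inv_mem z.2))
      (hom_apply_mem hψ _)
    have e3 : (⟨(z : Ω) * x * (z : Ω)⁻¹, S.mul_mem (S.mul_mem z.2 (hP x.2)) (S.inv_mem z.2)⟩ : S) =
        z * ⟨x, hP x.2⟩ * z⁻¹ := rfl
    have e4 : ι ⟨φ x, hφ x⟩ = ι ⟨ψ ⟨_, hzP x⟩, hom_apply_mem hψ _⟩ := by
      rw [e1, ← e2, hgl]
      show l * ι z * ι ⟨x, _⟩ * (l * ι z)⁻¹ = l * ι (z * ⟨x, hP x.2⟩ * z⁻¹) * l⁻¹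
      rw [map_mul, map_mul, map_inv]
      group
    exact congrArg Subtype.val (h.inj e4)

/-- `ι(S)` is a Sylow `p`-subgroup of `L`. -/
theorem exists_sylow [Finite S] {p : ℕ} [Fact p.Prime] (hS : IsPGroup p S) (hF : F.IsSaturated p)
    (hQS : Q ≤ S) (h : IsQModel F hN ι ρ) : ∃ T : Sylow p L, (T : Subgroup L) = ι.range := by
  have hLf := h.finite hQS
  have hQf : Finite Q := finite_of_le hQS
  have hfn : F.IsFullyNormalized Q := isFullyNormalized_of_le_normalizer hQS hN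
  obtain ⟨-, R, hR⟩ := isFullyAutomized_of_isFullyNormalized hS hF hfn
  have hp1 : IsPGroup p ι.range := by
    rintro ⟨_, s, rfl⟩
    obtain ⟨k, hk⟩ := hS s
    exact ⟨k, Subtype.ext (by
      show ι s ^ p ^ k = 1
      rw [← map_pow, hk, map_one])⟩
  -- the projection onto `Aut_F(Q)`
  let ρ' : L →* F.autGroup Q := ρ.codRestrict _ h.mem
  have hsurj : Function.Surjective ρ' := by
    rintro ⟨β, hβ⟩
    obtain ⟨l, hl⟩ := h.surj β hβ
    exact ⟨l, Subtype.ext hl⟩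
  have hker : ρ'.ker ≤ ι.range := by
    intro l hl
    have : ρ l = 1 := congrArg Subtype.val (MonoidHom.mem_ker.1 hl)
    obtain ⟨z, -, rfl⟩ := h.ker l this
    exact ⟨z, rfl⟩
  have hmap : ι.range.map ρ' = (R : Subgroup (F.autGroup Q)) := by
    rw [hR, ← cS_range hN]
    ext β
    rw [Subgroup.mem_subgroupOf]
    constructor
    · rintro ⟨_, ⟨s, rfl⟩, rfl⟩
      exact ⟨s, (h.rho s).symm⟩
    · rintro ⟨s, hs⟩
      exact ⟨ι s, ⟨s, rfl⟩, Subtype.ext ((h.rho s).trans hs)⟩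
  have hidx : ¬ p ∣ ι.range.index := by
    have h1 : (ι.range.map ρ').index = ι.range.index := Subgroup.index_map_eq _ hsurj hker
    rw [← h1, hmap]
    exact R.not_dvd_index
  exact ⟨hp1.toSylow hidx, rfl⟩

/-- `C_L(ι(Q)) ≤ ι(Z(Q))`. -/
theorem ker_of_centralizes (h : IsQModel F hN ι ρ) (hQS : Q ≤ S) {l : L}
    (hl : ∀ q : Q, l * ι ⟨q, hQS q.2⟩ = ι ⟨q, hQS q.2⟩ * l) : ρ l = 1 := by
  apply MulEquiv.ext
  intro q
  have e1 := h.conj l q (hQS q.2) (hQS (ρ l q : Q).2)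
  rw [hl, mul_inv_cancel_right] at e1
  have e2 : (⟨(q : Ω), hQS q.2⟩ : S) = ⟨((ρ l q : Q) : Ω), hQS (ρ l q : Q).2⟩ := h.inj e1
  have e3 : (q : Ω) = ((ρ l q : Q) : Ω) := Subtype.mk.inj e2
  exact Subtype.ext e3.symm

/-- `ι(Q)` is normal in `L`. -/
theorem normal (h : IsQModel F hN ι ρ) (hQS : Q ≤ S) : ((Q.subgroupOf S).map ι).Normal := by
  refine ⟨?_⟩
  rintro _ ⟨q, hq, rfl⟩ l
  have e1 := h.conj l ⟨q, hq⟩ q.2 (hQS (ρ l ⟨q, hq⟩ : Q).2)
  have e2 : (⟨((⟨(q : Ω), hq⟩ : Q) : Ω), q.2⟩ : S) = q := rfl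
  rw [e2] at e1
  rw [e1]
  exact ⟨_, (ρ l ⟨q, hq⟩ : Q).2, rfl⟩

theorem centralizer_le (h : IsQModel F hN ι ρ) (hQS : Q ≤ S) (hQc : centralizerIn S Q ≤ Q) :
    Subgroup.centralizer (((Q.subgroupOf S).map ι : Subgroup L) : Set L) ≤
      (Q.subgroupOf S).map ι := by
  intro l hl
  have h1 : ρ l = 1 := h.ker_of_centralizes hQS (fun q =>
    (Subgroup.mem_centralizer_iff.1 hl (ι ⟨q, hQS q.2⟩) ⟨_, q.2, rfl⟩).symm)
  obtain ⟨z, hz, rfl⟩ := h.ker l h1
  exact ⟨z, hQc ⟨z.2, hz⟩, rfl⟩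

/-- A `Q`-model is a model. -/
theorem isModel [Finite S] {p : ℕ} [Fact p.Prime] (hS : IsPGroup p S) (hF : F.IsSaturated p)
    (hQn : F.IsNormal Q) (hQc : F.IsCentric Q) (h : IsQModel F hN ι ρ) : F.IsModel p L ι := by
  have hQS := hQn.1
  have hQc' : centralizerIn S Q ≤ Q := hQc.2 Q (isConj_refl F hQS)
  refine ⟨h.finite hQS, h.realized hS hF hQn, h.exists_sylow hS hF hQS, ?_⟩
  have hQp : IsPGroup p ((Q.subgroupOf S).map ι : Subgroup L) :=
    ((hS.to_subgroup (Q.subgroupOf S)).map ι)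
  have hle : (Q.subgroupOf S).map ι ≤ pCore p L :=
    Cfsg.Agent.Lib.Cores.le_pCore (h.normal hQS) hQp
  exact (Subgroup.centralizer_le hle).trans ((h.centralizer_le hQS hQc').trans hle)

end IsQModel

/-! ### The model group of a model set -/

namespace IsFSet

variable {F : FusionSystem S} {Q : Subgroup Ω} {hN : S ≤ Subgroup.normalizer (Q : Set Ω)}
variable {X : Type v} {a : ↥S × ↥S →* Equiv.Perm X} {π : X → MulAut ↥Q}

/-- The number of right orbits is prime to `p`. -/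
theorem coprime_orbits [Finite S] [Finite X] {p : ℕ} [Fact p.Prime] (hS : IsPGroup p S)
    (hF : F.IsSaturated p) (hQS : Q ≤ S) (h : IsFSet F hN a π) :
    ¬ p ∣ Nat.card (Quotient (rset a)) := by
  have hQf : Finite Q := finite_of_le hQS
  have hfn : F.IsFullyNormalized Q := isFullyNormalized_of_le_normalizer hQS hN
  obtain ⟨-, R, hR⟩ := isFullyAutomized_of_isFullyNormalized hS hF hfn
  have hRm : ∀ β : F.autGroup Q, β ∈ (R : Subgroup (F.autGroup Q)) ↔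
      ∃ t : S, cS hN t = β := by
    intro β
    rw [hR, Subgroup.mem_subgroupOf, ← cS_range hN]
    rfl
  let f : Quotient (rset a) → F.autGroup Q ⧸ (R : Subgroup (F.autGroup Q)) :=
    Quotient.lift (fun x => QuotientGroup.mk ⟨π x, h.mem x⟩) (by
      rintro x y ⟨t, rfl⟩
      rw [QuotientGroup.eq, hRm]
      refine ⟨t⁻¹, ?_⟩
      show cS hN t⁻¹ = (π x)⁻¹ * π (a (1, t) x)
      rw [h.map, map_one, one_mul, inv_mul_cancel_left, map_inv])
  have hf : ∀ x, f (Quotient.mk (rset a) x) = QuotientGroup.mk ⟨π x, h.mem x⟩ := fun x => rfl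
  have hbij : Function.Bijective f := by
    constructor
    · intro o o'
      induction o using Quotient.inductionOn with
      | _ x =>
      induction o' using Quotient.inductionOn with
      | _ y =>
      intro hxy
      rw [hf, hf, QuotientGroup.eq, hRm] at hxy
      obtain ⟨t, ht⟩ := hxy
      have ht' : cS hN t = (π x)⁻¹ * π y := ht
      have h1 : π (a (1, t⁻¹) x) = π y := by
        rw [h.map, map_one, one_mul, map_inv, inv_inv, ht', mul_inv_cancel_left]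
      obtain ⟨z, -, hz⟩ := h.fib _ _ h1
      rw [mul_apply, one_mul] at hz
      exact Quotient.sound ⟨_, hz⟩
    · intro o
      induction o using QuotientGroup.induction_on with
      | _ β =>
      obtain ⟨x, hx⟩ := h.surj β.1 β.2
      exact ⟨Quotient.mk _ x, by rw [hf]; congr 1; exact Subtype.ext hx⟩
  have hcard : Nat.card (Quotient (rset a)) = (R : Subgroup (F.autGroup Q)).index :=
    Nat.card_congr (Equiv.ofBijective f hbij)
  rw [hcard]
  exact R.not_dvd_index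

/-- Every map of the system with source containing `Q` is realized by an element of `G`. -/
theorem exists_grp [Finite S] {p : ℕ} [Fact p.Prime] (hS : IsPGroup p S) (hF : F.IsSaturated p)
    (hQS : Q ≤ S) (hQc : F.IsCentric Q) (h : IsFSet F hN a π) {P : Subgroup Ω} (hQP : Q ≤ P)
    {φ : P →* Ω} (hφ : φ ∈ F.Hom P) {β : MulAut Q}
    (hβ : ∀ q : Q, φ ⟨q, hQP q.2⟩ = ((β q : Q) : Ω)) :
    ∃ g : grp F a π, prA F a π g = β ∧ ∀ (x : P) (hx : (x : Ω) ∈ S) (hx' : φ x ∈ S),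
      g * lam h hQS ⟨x, hx⟩ * g⁻¹ = lam h hQS ⟨φ x, hx'⟩ := by
  obtain ⟨f, hf1, hf2⟩ := h.exists_equiv hS hF hQc h hQP hφ hβ
  have hβm : β ∈ F.autGroup Q := by
    rw [mem_autGroup_iff F hQS]
    exact mem_of_agree hφ hQP (fun x hx => (hβ ⟨x, hx⟩).symm)
  have hmem : ((f, β) : Equiv.Perm X × MulAut Q) ∈ grp F a π := by
    refine ⟨hβm, fun t x => ?_, hf2⟩
    exact hf1 1 1 (by exact P.one_mem) t x (by exact φ.map_one)
  refine ⟨⟨(f, β), hmem⟩, rfl, fun x hx hx' => ?_⟩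
  rw [mul_inv_eq_iff_eq_mul]
  apply Subtype.ext
  refine Prod.ext ?_ ?_
  · apply Equiv.ext
    intro y
    show f (a (⟨x, hx⟩, 1) y) = a (⟨φ x, hx'⟩, 1) (f y)
    exact hf1 ⟨x, hx⟩ ⟨φ x, hx'⟩ x.2 1 y rfl
  · show β * cS hN ⟨x, hx⟩ = cS hN ⟨φ x, hx'⟩ * β
    apply MulEquiv.ext
    intro q
    apply Subtype.ext
    rw [MulAut.mul_apply, MulAut.mul_apply, cS_apply, ← hβ, ← hβ]
    show φ ⟨x * q * (x : Ω)⁻¹, _⟩ = φ x * φ ⟨q, _⟩ * (φ x)⁻¹
    rw [← map_inv, ← map_mul, ← map_mul]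
    rfl

theorem lam_mem_ker [Finite X] {n : ℕ} (h : IsFSet F hN a π) (hQS : Q ≤ S)
    (hQc : centralizerIn S Q ≤ Q) (hn : Nat.card (Quotient (rset a)) = n)
    (hcop : ∀ z : Q, z ^ n = 1 → z = 1) {s : S} (hs : lam h hQS s ∈ h.ker hQc) : s = 1 := by
  obtain ⟨h1, h2⟩ := hs
  rw [prA_lam, cS_eq_one_iff] at h1
  have hsQ : (s : Ω) ∈ Q := hQc ⟨s.2, h1⟩
  have h3 := h.tr_lam hQS (z := ⟨s, hsQ⟩) h1 (h.val_mem_center hQc (g := lam h hQS s)
    (by rw [prA_lam, cS_eq_one_iff]; exact h1))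
  have h4 : ((1 : Subgroup.center ↥Q) : Q) = (⟨(s : Ω), hsQ⟩ : Q)⁻¹ ^ n := by
    rw [← hn, ← h3]
    congr 1
    exact h2.symm
  have h5 := hcop _ h4.symm
  rw [inv_eq_one] at h5
  have h6 := congrArg (fun w : Q => (w : Ω)) h5
  exact Subtype.ext h6

theorem exists_lam_mul [Finite X] [Finite S] {n : ℕ} (h : IsFSet F hN a π) (hQS : Q ≤ S)
    (hQc : centralizerIn S Q ≤ Q) (hn : Nat.card (Quotient (rset a)) = n)
    (hcop : ∀ z : Q, z ^ n = 1 → z = 1) {g : grp F a π} (hg : prA F a π g = 1) :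
    ∃ z : S, (z : Ω) ∈ Subgroup.centralizer (Q : Set Ω) ∧
      (lam h hQS z)⁻¹ * g ∈ h.ker hQc := by
  have hQf : Finite Q := finite_of_le hQS
  -- the map `z ↦ z⁻ⁿ` on `Z(Q)` is bijective
  let m : Subgroup.center ↥Q → Subgroup.center ↥Q := fun z => (z⁻¹) ^ n
  have hm : Function.Injective m := by
    intro z w hzw
    have hc : Commute z⁻¹ w := Subtype.ext (Subgroup.mem_center_iff.1 w.2 ((z⁻¹ :
      Subgroup.center ↥Q) : Q))
    have h1 : (z⁻¹ * w) ^ n = 1 := by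
      rw [hc.mul_pow, inv_pow]
      have h2 : (z⁻¹) ^ n = (w⁻¹) ^ n := hzw
      rw [inv_pow, inv_pow] at h2
      rw [h2, inv_mul_cancel]
    have h3 := hcop ((z⁻¹ * w : Subgroup.center ↥Q) : Q) (by
      have := congrArg Subtype.val h1
      exact this)
    have h4 : z⁻¹ * w = 1 := Subtype.ext h3
    exact inv_mul_eq_one.1 h4
  have hm2 : Function.Surjective m := Finite.surjective_of_injective hm
  obtain ⟨z, hz⟩ := hm2 (h.tr g.1.1 (h.val_mem_center hQc hg))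
  have hzC : ((z : Q) : Ω) ∈ Subgroup.centralizer (Q : Set Ω) := centralizer_of_mem_center z.2
  have hl : prA F a π (lam h hQS ⟨z, hQS (z : Q).2⟩) = 1 := by
    rw [prA_lam, cS_eq_one_iff]
    exact hzC
  have hli : prA F a π (lam h hQS ⟨z, hQS (z : Q).2⟩)⁻¹ = 1 := by rw [map_inv, hl, inv_one]
  refine ⟨⟨z, hQS (z : Q).2⟩, hzC, by rw [map_mul, hli, hg, mul_one], ?_⟩
  have h1 := h.tr_mul hQc hli hg
  refine h1.trans ?_
  have h2 := h.tr_mul hQc hli hl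
  have h3 : h.tr (lam h hQS ⟨z, hQS (z : Q).2⟩).1.1 (h.val_mem_center hQc hl) =
      h.tr g.1.1 (h.val_mem_center hQc hg) := by
    rw [← hz]
    apply Subtype.ext
    rw [h.tr_lam hQS hzC, hn]
    rfl
  rw [← h3, ← h2]
  have h4 := h.tr_mul hQc (g := 1) (g' := 1) (map_one _) (map_one _)
  have h5 : (1 * 1 : grp F a π) = 1 := mul_one 1
  simp only [h5] at h4
  have h6 := left_eq_mul.1 h4
  have h7 : (lam h hQS ⟨z, hQS (z : Q).2⟩)⁻¹ * lam h hQS ⟨z, hQS (z : Q).2⟩ = 1 :=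
    inv_mul_cancel _
  simp only [h7]
  exact h6

/-- **The model group of a model set.** -/
theorem exists_qmodel [Finite S] [Finite X] {p : ℕ} [Fact p.Prime] (hS : IsPGroup p S)
    (hF : F.IsSaturated p) (hQn : F.IsNormal Q) (hQc : F.IsCentric Q) (h : IsFSet F hN a π) :
    ∃ (L : Type (max u v)) (_ : Group L) (ι : ↥S →* L) (ρ : L →* MulAut ↥Q),
      IsQModel F hN ι ρ ∧ ∃ q : ↥(grp F a π) →* L,
        (∀ s, q (lam h hQn.1 s) = ι s) ∧ ∀ g, ρ (q g) = prA F a π g := by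
  have hQS := hQn.1
  have hQf : Finite Q := finite_of_le hQS
  have hQc' : centralizerIn S Q ≤ Q := hQc.2 Q (isConj_refl F hQS)
  have hcop : ∀ z : Q, z ^ Nat.card (Quotient (rset a)) = 1 → z = 1 := by
    intro z hz
    have h1 : orderOf z ∣ Nat.card (Quotient (rset a)) := orderOf_dvd_of_pow_eq_one hz
    obtain ⟨k, hk⟩ : ∃ k : ℕ, orderOf z = p ^ k :=
      (IsPGroup.iff_orderOf.1 (hS.to_le hQS)) z
    rcases Nat.eq_zero_or_pos k with hk0 | hk0
    · rw [hk0, pow_zero] at hk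
      exact orderOf_eq_one_iff.1 hk
    · exact absurd ((dvd_pow_self p hk0.ne').trans (hk ▸ h1)) (h.coprime_orbits hS hF hQS)
  have hnorm : (h.ker hQc').Normal := h.ker_normal hQc'
  let K := h.ker hQc'
  let q : ↥(grp F a π) →* ↥(grp F a π) ⧸ K := QuotientGroup.mk' K
  have hq1 : ∀ g, q g = 1 ↔ g ∈ K := fun g => QuotientGroup.eq_one_iff g
  let ρ : ↥(grp F a π) ⧸ K →* MulAut ↥Q := QuotientGroup.lift K (prA F a π) (by
    rintro g ⟨hg, -⟩
    exact hg)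
  have hρq : ∀ g, ρ (q g) = prA F a π g := fun g => rfl
  have hqs : Function.Surjective q := QuotientGroup.mk'_surjective K
  refine ⟨↥(grp F a π) ⧸ K, inferInstance, q.comp (lam h hQS), ρ, ?_, q, fun s => rfl, hρq⟩
  refine ⟨?_, fun s => rfl, ?_, ?_, ?_, ?_, ?_⟩
  · rw [injective_iff_map_eq_one]
    intro s hs
    exact h.lam_mem_ker hQS hQc' rfl hcop ((hq1 _).1 hs)
  · intro l x hx hx'
    obtain ⟨g, rfl⟩ := hqs l
    have h1 := congrArg q (h.conj_lam hQS g x)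
    rw [map_mul, map_mul, map_inv] at h1
    exact h1
  · intro l hl
    obtain ⟨g, rfl⟩ := hqs l
    obtain ⟨z, hz, hz'⟩ := h.exists_lam_mul hQS hQc' rfl hcop (g := g) hl
    refine ⟨z, hz, ?_⟩
    have h1 := (hq1 _).2 hz'
    rw [map_mul, map_inv, inv_mul_eq_one] at h1
    exact h1.symm
  · intro l
    obtain ⟨g, rfl⟩ := hqs l
    exact prA_mem g
  · intro β hβ
    have hβF : Q.subtype.comp β.toMonoidHom ∈ F.Hom Q := (mem_autGroup_iff F hQS β).1 hβ
    obtain ⟨g, hg, -⟩ := h.exists_grp hS hF hQS hQc le_rfl hβF (β := β) (fun q => rfl)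
    exact ⟨q g, hg⟩
  · intro P hQP φ hφ
    obtain ⟨β, hβ, hβe⟩ := exists_aut_of_normal hQn hQP hφ
    obtain ⟨g, hg, hge⟩ := h.exists_grp hS hF hQS hQc hQP hφ hβe
    refine ⟨q g, fun x hx hx' => ?_⟩
    have h1 := congrArg q (hge x hx hx')
    rw [map_mul, map_mul, map_inv] at h1
    exact h1

end IsFSet

end Cfsg.Agent.H771
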