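import Mathlib.Algebra.Group.Action.Sigma
import Cfsg.Agent.H771.ModelCore

/-!
# The model theorem, part 4: construction of a model set (helper771)
-/

set_option autoImplicit false

namespace Cfsg.Agent.H771

open Cfsg Cfsg.FusionSystem Cfsg.Agent.H802

universe u v w

variable {Ω : Type u} [Group Ω] {S : Subgroup Ω}

section constr

variable {F : FusionSystem S} {Q : Subgroup Ω} (hN : S ≤ Subgroup.normalizer (Q : Set Ω))

/-- The graph subgroup of a homomorphism `ψ : P → Ω`. -/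
def graphOf (S : Subgroup Ω) (P : Subgroup Ω) (ψ : P →* Ω) : Subgroup (↥S × ↥S) where
  carrier := {x | ∃ h : (x.1 : Ω) ∈ P, ψ ⟨x.1, h⟩ = x.2}
  mul_mem' := by
    rintro ⟨s, t⟩ ⟨s', t'⟩ ⟨h, e⟩ ⟨h', e'⟩
    refine ⟨P.mul_mem h h', ?_⟩
    have : (⟨(s : Ω) * s', P.mul_mem h h'⟩ : P) = ⟨s, h⟩ * ⟨s', h'⟩ := rfl
    show ψ ⟨(s : Ω) * s', P.mul_mem h h'⟩ = t * t'
    rw [this, map_mul]
    exact congrArg₂ _ e e'
  one_mem' := ⟨P.one_mem, ψ.map_one⟩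
  inv_mem' := by
    rintro ⟨s, t⟩ ⟨h, e⟩
    refine ⟨P.inv_mem h, ?_⟩
    have : (⟨(s : Ω)⁻¹, P.inv_mem h⟩ : P) = (⟨s, h⟩)⁻¹ := rfl
    show ψ ⟨(s : Ω)⁻¹, P.inv_mem h⟩ = (t : Ω)⁻¹
    rw [this, map_inv]
    exact congrArg _ e

theorem mem_graphOf {P : Subgroup Ω} {ψ : P →* Ω} {s t : S} :
    (s, t) ∈ graphOf S P ψ ↔ ∃ h : (s : Ω) ∈ P, ψ ⟨s, h⟩ = t := Iff.rfl

/-- Extension of every element of `Aut_F(Q)`: for `α ∈ Aut_F(Q)`, a map of the system whose restriction to `Q` is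
`α⁻¹`, and whose source consists of all `s` with `c_s α ∈ α Aut_S(Q)`. -/
theorem exists_ext [Finite S] {p : ℕ} [Fact p.Prime] (hS : IsPGroup p S) (hF : F.IsSaturated p)
    (hQS : Q ≤ S) (hN : S ≤ Subgroup.normalizer (Q : Set Ω)) {α : MulAut Q}
    (hα : α ∈ F.autGroup Q) :
    ∃ (P : Subgroup Ω) (ψ : P →* Ω) (hQP : Q ≤ P), ψ ∈ F.Hom P ∧
      (∀ q : Q, ψ ⟨q, hQP q.2⟩ = ((α⁻¹ q : Q) : Ω)) ∧
      ∀ s t : S, cS hN s * α = α * cS hN t → (s : Ω) ∈ P := by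
  have hαi : α⁻¹ ∈ F.autGroup Q := inv_mem hα
  have hβF : Q.subtype.comp (α⁻¹).toMonoidHom ∈ F.Hom Q := (mem_autGroup_iff F hQS α⁻¹).1 hαi
  have hfn : F.IsFullyNormalized Q := isFullyNormalized_of_le_normalizer hQS hN
  have hrec := isReceptive_of_isFullyNormalized hS hF hfn
  have hrange : (Q.subtype.comp (α⁻¹).toMonoidHom).range = Q := by
    ext z
    constructor
    · rintro ⟨x, rfl⟩
      exact (α⁻¹ x).2
    · intro hz
      exact ⟨α ⟨z, hz⟩, congrArg Subtype.val (MulAut.inv_apply_self _ α ⟨z, hz⟩)⟩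
  obtain ⟨ψ, hψ, hψe⟩ := hrec.2 Q _ hβF hrange
  have hQE : Q ≤ extender S Q (Q.subtype.comp (α⁻¹).toMonoidHom) :=
    le_extender hQS (hom_apply_mem hβF)
  refine ⟨_, ψ, hQE, hψ, fun q => hψe q q.2 _, fun s t hst => ?_⟩
  rw [mem_extender_iff]
  refine ⟨s.2, hN s.2, t, t.2, fun q hq => ?_⟩
  show ((α⁻¹ ⟨(s : Ω) * q * (s : Ω)⁻¹, hq⟩ : Q) : Ω) = t * (α⁻¹ q : Q) * (t : Ω)⁻¹
  have e1 : (⟨(s : Ω) * q * (s : Ω)⁻¹, hq⟩ : Q) = cS hN s q := Subtype.ext rfl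
  have e2 : α⁻¹ * cS hN s = cS hN t * α⁻¹ := by
    rw [inv_mul_eq_iff_eq_mul, ← mul_assoc, ← hst, mul_inv_cancel_right]
  rw [e1, ← MulAut.mul_apply, e2, MulAut.mul_apply, cS_apply]

/-- The relation between a map extending `α⁻¹` and `α`. -/
theorem cS_mul_of_graph (hQS : Q ≤ S) {α : MulAut Q} {P : Subgroup Ω} {ψ : P →* Ω} (hQP : Q ≤ P)
    (hψ : ∀ q : Q, ψ ⟨q, hQP q.2⟩ = ((α⁻¹ q : Q) : Ω)) {s t : S} (h : (s : Ω) ∈ P)
    (ht : ψ ⟨s, h⟩ = t) : cS hN s * α = α * cS hN t := by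
  rw [← inv_mul_eq_iff_eq_mul]
  apply MulEquiv.ext
  intro q
  apply Subtype.ext
  rw [MulAut.mul_apply, MulAut.mul_apply, cS_apply, ← hψ]
  have e1 : (⟨(cS hN s (α q) : Q), hQP (cS hN s (α q) : Q).2⟩ : P) =
      ⟨s, h⟩ * ⟨(α q : Q), hQP (α q : Q).2⟩ * ⟨s, h⟩⁻¹ := Subtype.ext rfl
  rw [e1, map_mul, map_mul, map_inv, ht, hψ, MulAut.inv_apply_self]

/-- **Existence of a model set.** -/
theorem exists_isFSet [Finite S] {p : ℕ} [Fact p.Prime] (hS : IsPGroup p S) (hF : F.IsSaturated p)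
    (hQS : Q ≤ S) : ∃ (X : Type u) (_ : Finite X) (a : ↥S × ↥S →* Equiv.Perm X)
      (π : X → MulAut ↥Q), IsFSet F hN a π := by
  have hQf : Finite Q := finite_of_le hQS
  -- double cosets of `Aut_S(Q)` in `Aut_F(Q)`
  let s₀ : Setoid ↥(F.autGroup Q) :=
    { r := fun α β => ∃ s t : S, (β : MulAut Q) = cS hN s * α * (cS hN t)⁻¹
      iseqv :=
        { refl := fun α => ⟨1, 1, by simp⟩
          symm := by
            rintro α β ⟨s, t, h⟩
            refine ⟨s⁻¹, t⁻¹, ?_⟩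
            rw [h, map_inv, map_inv]
            group
          trans := by
            rintro α β γ ⟨s, t, h⟩ ⟨s', t', h'⟩
            refine ⟨s' * s, t' * t, ?_⟩
            rw [h', h, map_mul, map_mul]
            group } }
  let I : Type u := Quotient s₀
  let rep : I → MulAut Q := fun i => (i.out : MulAut Q)
  have hrep : ∀ i, rep i ∈ F.autGroup Q := fun i => i.out.2
  have hrep2 : ∀ α ∈ F.autGroup Q, ∃ (i : I) (s t : S),
      α = cS hN s * rep i * (cS hN t)⁻¹ := by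
    intro α hα
    have h1 : s₀ (Quotient.mk s₀ ⟨α, hα⟩).out ⟨α, hα⟩ := Quotient.mk_out (s := s₀) ⟨α, hα⟩
    obtain ⟨s, t, h⟩ := h1
    exact ⟨Quotient.mk s₀ ⟨α, hα⟩, s, t, h⟩
  have hrep3 : ∀ (i j : I) (s t : S), rep j = cS hN s * rep i * (cS hN t)⁻¹ → i = j := by
    intro i j s t h
    have h1 : s₀ i.out j.out := ⟨s, t, h⟩
    have h2 := Quotient.sound (s := s₀) h1
    rwa [Quotient.out_eq, Quotient.out_eq] at h2
  choose P ψ hQP hψ hψQ hdom using fun i => exists_ext hS hF hQS hN (hrep i)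
  let Γ : I → Subgroup (↥S × ↥S) := fun i => graphOf S (P i) (ψ i)
  have hΓ : ∀ (i : I) (s t : S), (s, t) ∈ Γ i → cS hN s * rep i = rep i * cS hN t := by
    rintro i s t ⟨h, ht⟩
    exact cS_mul_of_graph hN hQS (hQP i) (hψQ i) h ht
  let X : Type u := Σ i : I, (↥S × ↥S) ⧸ Γ i
  let a : ↥S × ↥S →* Equiv.Perm X := MulAction.toPermHom (↥S × ↥S) X
  let π : X → MulAut ↥Q := fun x => Quotient.liftOn' x.2
    (fun g => cS hN g.1 * rep x.1 * (cS hN g.2)⁻¹) (by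
      rintro ⟨s, t⟩ ⟨s', t'⟩ h
      rw [QuotientGroup.leftRel_apply] at h
      have h1 := hΓ x.1 (s⁻¹ * s') (t⁻¹ * t') h
      rw [map_mul, map_mul, map_inv, map_inv] at h1
      show cS hN s * rep x.1 * (cS hN t)⁻¹ = cS hN s' * rep x.1 * (cS hN t')⁻¹
      have h2 : cS hN s' * rep x.1 = cS hN s * (rep x.1 * ((cS hN t)⁻¹ * cS hN t')) := by
        rw [← h1]
        group
      rw [h2]
      group)
  have ha : ∀ (s t : S) (i : I) (g : ↥S × ↥S),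
      a (s, t) ⟨i, (g : (↥S × ↥S) ⧸ Γ i)⟩ = ⟨i, (((s, t) * g : ↥S × ↥S) : (↥S × ↥S) ⧸ Γ i)⟩ :=
    fun s t i g => rfl
  have hπ : ∀ (i : I) (s t : S), π ⟨i, (((s, t) : ↥S × ↥S) : (↥S × ↥S) ⧸ Γ i)⟩ =
      cS hN s * rep i * (cS hN t)⁻¹ := fun i s t => rfl
  have hind : ∀ (C : X → Prop), (∀ (i : I) (s t : S),
      C ⟨i, (((s, t) : ↥S × ↥S) : (↥S × ↥S) ⧸ Γ i)⟩) → ∀ x, C x := by
    rintro C h ⟨i, x⟩
    induction x using QuotientGroup.induction_on with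
    | _ g => exact h i g.1 g.2
  have hI : Finite I := Quotient.finite s₀
  refine ⟨X, inferInstance, a, π, ?_⟩
  refine ⟨?_, ?_, ?_, ?_, ?_⟩
  · refine hind _ fun i s t => ?_
    rw [hπ]
    exact mul_mem (mul_mem (cS_mem_autGroup F hQS hN s) (hrep i))
      (inv_mem (cS_mem_autGroup F hQS hN t))
  · intro α hα
    obtain ⟨i, s, t, h⟩ := hrep2 α hα
    exact ⟨⟨i, (((s, t) : ↥S × ↥S) : (↥S × ↥S) ⧸ Γ i)⟩, h.symm⟩
  · intro s t
    refine hind _ fun i s' t' => ?_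
    rw [ha]
    show π ⟨i, (((s * s', t * t') : ↥S × ↥S) : (↥S × ↥S) ⧸ Γ i)⟩ = _
    rw [hπ, hπ, map_mul, map_mul]
    group
  · refine hind _ fun i s t => ?_
    refine hind _ fun j s' t' => ?_
    intro h
    rw [hπ, hπ] at h
    have hij : i = j := by
      refine hrep3 i j (s'⁻¹ * s) (t'⁻¹ * t) ?_
      rw [map_mul, map_mul, map_inv, map_inv]
      have h2 : rep j = (cS hN s')⁻¹ * (cS hN s' * rep j * (cS hN t')⁻¹) * cS hN t' := by group
      rw [h2, ← h]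
      group
    subst hij
    -- `u = s'⁻¹ s`, `v = t'⁻¹ t`
    have h1 : cS hN (s'⁻¹ * s) * rep i = rep i * cS hN (t'⁻¹ * t) := by
      rw [map_mul, map_mul, map_inv, map_inv]
      have h2 : cS hN s * rep i = cS hN s' * rep i * (cS hN t')⁻¹ * cS hN t := by
        rw [← h]
        group
      rw [mul_assoc, h2]
      group
    have hu : ((s'⁻¹ * s : S) : Ω) ∈ P i := hdom i _ _ h1
    let w : S := ⟨ψ i ⟨_, hu⟩, hom_apply_mem (hψ i) _⟩
    have hw : (s'⁻¹ * s, w) ∈ Γ i := ⟨hu, rfl⟩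
    have hw2 := hΓ i _ _ hw
    rw [h1] at hw2
    have hw3 : cS hN w = cS hN (t'⁻¹ * t) := (mul_left_cancel hw2).symm
    refine ⟨t' * w * t⁻¹, ?_, ?_⟩
    · rw [← cS_eq_one_iff hN, map_mul, map_mul, hw3, map_mul, map_inv, map_inv]
      group
    · rw [ha]
      congr 1
      rw [QuotientGroup.eq]
      have h3 : (((1, t' * w * t⁻¹) * (s, t) : ↥S × ↥S))⁻¹ * (s', t') = (s'⁻¹ * s, w)⁻¹ := by
        apply Prod.ext
        · show (1 * s)⁻¹ * s' = (s'⁻¹ * s)⁻¹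
          group
        · show (t' * w * t⁻¹ * t)⁻¹ * t' = w⁻¹
          group
      rw [h3]
      exact inv_mem hw
  · refine hind _ fun i s t => ?_
    have hPS : P i ≤ S := hom_le (hψ i)
    -- the conjugated source and map
    have hPS' : (P i).map (MulAut.conj (s : Ω)).toMonoidHom ≤ S := by
      rintro _ ⟨x, hx, rfl⟩
      exact S.mul_mem (S.mul_mem s.2 (hPS hx)) (S.inv_mem s.2)
    have hmem : ∀ y : Ω, y ∈ (P i).map (MulAut.conj (s : Ω)).toMonoidHom ↔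
        (s : Ω)⁻¹ * y * s ∈ P i := by
      intro y
      constructor
      · rintro ⟨x, hx, rfl⟩
        have : (s : Ω)⁻¹ * ((MulAut.conj (s : Ω)).toMonoidHom x) * s = x := by
          show (s : Ω)⁻¹ * (s * x * (s : Ω)⁻¹) * s = x
          group
        rw [this]
        exact hx
      · intro hy
        refine ⟨_, hy, ?_⟩
        show (s : Ω) * ((s : Ω)⁻¹ * y * s) * (s : Ω)⁻¹ = y
        group
    obtain ⟨χ, hχ, hχe⟩ := exists_comp (F.conj_mem (g := (s : Ω)⁻¹) hPS' (S.inv_mem s.2)) (hψ i)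
      (fun x => by
        show (s : Ω)⁻¹ * x * (s : Ω)⁻¹⁻¹ ∈ P i
        rw [inv_inv]
        exact (hmem x).1 x.2)
    obtain ⟨ω, hω, hωe⟩ := exists_comp hχ (F.conj_mem (g := (t : Ω)) le_rfl t.2)
      (hom_apply_mem hχ)
    have hωx : ∀ (x : Ω) (hx : x ∈ (P i).map (MulAut.conj (s : Ω)).toMonoidHom)
        (hx' : (s : Ω)⁻¹ * x * s ∈ P i), ω ⟨x, hx⟩ = t * ψ i ⟨(s : Ω)⁻¹ * x * s, hx'⟩ * (t : Ω)⁻¹ := by
      intro x hx hx'
      rw [hωe]
      show (t : Ω) * χ ⟨x, hx⟩ * (t : Ω)⁻¹ = _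
      rw [hχe]
      congr 3
      apply Subtype.ext
      show (s : Ω)⁻¹ * x * (s : Ω)⁻¹⁻¹ = (s : Ω)⁻¹ * x * s
      rw [inv_inv]
    have hQP' : Q ≤ (P i).map (MulAut.conj (s : Ω)).toMonoidHom := by
      intro q hq
      rw [hmem]
      have := (Subgroup.mem_normalizer_iff.1 (hN (S.inv_mem s.2)) q).1 hq
      rw [inv_inv] at this
      exact hQP i this
    refine ⟨_, ω, hQP', hω, ?_, ?_⟩
    · intro s' t'
      rw [ha]
      constructor
      · intro h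
        have h1 : (((s', t') * (s, t) : ↥S × ↥S) : (↥S × ↥S) ⧸ Γ i) = ((s, t) : ↥S × ↥S) := by
          have := Sigma.mk.inj_iff.1 h
          exact eq_of_heq this.2
        rw [QuotientGroup.eq] at h1
        obtain ⟨h2, h3⟩ := inv_mem h1
        have h4 : ((((s', t') * (s, t) : ↥S × ↥S)⁻¹ * (s, t))⁻¹).1 = s⁻¹ * s' * s := by
          show ((s' * s)⁻¹ * s)⁻¹ = s⁻¹ * s' * s
          group
        have h5 : ((((s', t') * (s, t) : ↥S × ↥S)⁻¹ * (s, t))⁻¹).2 = t⁻¹ * t' * t := by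
          show ((t' * t)⁻¹ * t)⁻¹ = t⁻¹ * t' * t
          group
        have h6 : (s : Ω)⁻¹ * s' * s ∈ P i := by
          rw [h4] at h2
          exact h2
        refine ⟨(hmem _).2 h6, ?_⟩
        rw [hωx _ _ h6]
        have h7 : ψ i ⟨(s : Ω)⁻¹ * s' * s, h6⟩ = (t : Ω)⁻¹ * t' * t := by
          have e1 : ((((((s', t') * (s, t) : ↥S × ↥S)⁻¹ * (s, t))⁻¹).2 : S) : Ω) =
            (t : Ω)⁻¹ * t' * t := by rw [h5]; rfl
          rw [← e1, ← h3]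
          congr 1
          apply Subtype.ext
          show _ = (((((s', t') * (s, t) : ↥S × ↥S)⁻¹ * (s, t))⁻¹).1 : Ω)
          rw [h4]
          rfl
        rw [h7]
        group
      · rintro ⟨h1, h2⟩
        have h6 : (s : Ω)⁻¹ * s' * s ∈ P i := (hmem _).1 h1
        rw [hωx _ _ h6] at h2
        congr 1
        rw [QuotientGroup.eq]
        have h3 : (((s', t') * (s, t) : ↥S × ↥S))⁻¹ * (s, t) = (s⁻¹ * s' * s, t⁻¹ * t' * t)⁻¹ := by
          apply Prod.ext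
          · show (s' * s)⁻¹ * s = (s⁻¹ * s' * s)⁻¹
            group
          · show (t' * t)⁻¹ * t = (t⁻¹ * t' * t)⁻¹
            group
        rw [h3]
        refine inv_mem ⟨h6, ?_⟩
        show ψ i ⟨(s : Ω)⁻¹ * s' * s, h6⟩ = (t : Ω)⁻¹ * t' * t
        rw [← h2]
        group
    · intro q
      have h6 : (s : Ω)⁻¹ * q * s ∈ P i := (hmem _).1 (hQP' q.2)
      have h7 : (s : Ω)⁻¹ * q * s ∈ Q := by
        have := (Subgroup.mem_normalizer_iff.1 (hN (S.inv_mem s.2)) q).1 q.2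
        rwa [inv_inv] at this
      rw [hωx _ _ h6, hπ]
      have h8 := hψQ i ⟨_, h7⟩
      have h9 : ψ i ⟨(s : Ω)⁻¹ * q * s, h6⟩ = (((rep i)⁻¹ ⟨(s : Ω)⁻¹ * q * s, h7⟩ : Q) : Ω) := h8
      rw [h9]
      have h10 : (⟨(s : Ω)⁻¹ * q * s, h7⟩ : Q) = (cS hN s)⁻¹ q := by
        rw [← map_inv]
        apply Subtype.ext
        rw [cS_apply]
        show (s : Ω)⁻¹ * q * s = (s : Ω)⁻¹ * q * (s : Ω)⁻¹⁻¹
        rw [inv_inv]
      rw [h10, mul_inv_rev, inv_inv, mul_inv_rev, MulAut.mul_apply, cS_apply, MulAut.mul_apply]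

end constr

end Cfsg.Agent.H771
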