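import Mathlib.GroupTheory.Transfer
import Cfsg.Agent.H771.ModelConstr

/-!
# The model theorem, part 5: existence and uniqueness of models (helper771)
-/

set_option autoImplicit false

namespace Cfsg.Agent.H771

open Cfsg Cfsg.FusionSystem Cfsg.Agent.H802

universe u v w

variable {Ω : Type u} [Group Ω] {S : Subgroup Ω}
variable {F : FusionSystem S} {Q : Subgroup Ω} {hN : S ≤ Subgroup.normalizer (Q : Set Ω)}

/-- **Existence of a `Q`-model**, `Q` normal and centric in the saturated system `F`. -/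
theorem exists_qmodel [Finite S] {p : ℕ} [Fact p.Prime] (hS : IsPGroup p S)
    (hF : F.IsSaturated p) (hQn : F.IsNormal Q) (hQc : F.IsCentric Q)
    (hN : S ≤ Subgroup.normalizer (Q : Set Ω)) :
    ∃ (L : Type u) (_ : Group L) (ι : ↥S →* L) (ρ : L →* MulAut ↥Q), IsQModel F hN ι ρ := by
  obtain ⟨X, hX, a, π, h⟩ := exists_isFSet (F := F) hN hS hF hQn.1
  obtain ⟨L, hL, ι, ρ, h1, -⟩ := h.exists_qmodel hS hF hQn hQc
  exact ⟨L, hL, ι, ρ, h1⟩

/-- **Existence of models** for constrained fusion systems. -/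
theorem exists_model [Finite S] {p : ℕ} [Fact p.Prime] (hS : IsPGroup p S)
    (hF : F.IsSaturated p) (hQn : F.IsNormal Q) (hQc : F.IsCentric Q) :
    ∃ (L : Type u) (_ : Group L) (ι : ↥S →* L), F.IsModel p L ι ∧
      ((Q.subgroupOf S).map ι).Normal ∧
      Subgroup.centralizer (((Q.subgroupOf S).map ι : Subgroup L) : Set L) ≤
        (Q.subgroupOf S).map ι := by
  obtain ⟨L, hL, ι, ρ, h⟩ := exists_qmodel hS hF hQn hQc (le_normalizer_of_isNormal hQn)
  exact ⟨L, hL, ι, h.isModel hS hF hQn hQc, h.normal hQn.1,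
    h.centralizer_le hQn.1 (hQc.2 Q (isConj_refl F hQn.1))⟩

namespace IsQModel

variable {L : Type v} [Group L] {ι : ↥S →* L} {ρ : L →* MulAut ↥Q}

/-- The permutation action of `S × S` on a `Q`-model. -/
def act (ι : ↥S →* L) : ↥S × ↥S →* Equiv.Perm L where
  toFun x :=
    { toFun := fun l => ι x.1 * l * (ι x.2)⁻¹
      invFun := fun l => (ι x.1)⁻¹ * l * ι x.2
      left_inv := fun l => by group
      right_inv := fun l => by group }
  map_one' := by
    apply Equiv.ext
    intro l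
    show ι 1 * l * (ι 1)⁻¹ = l
    simp
  map_mul' x y := by
    apply Equiv.ext
    intro l
    show ι (x.1 * y.1) * l * (ι (x.2 * y.2))⁻¹ = ι x.1 * (ι y.1 * l * (ι y.2)⁻¹) * (ι x.2)⁻¹
    rw [map_mul, map_mul]
    group

theorem act_apply (s t : S) (l : L) : act ι (s, t) l = ι s * l * (ι t)⁻¹ := rfl

/-- A `Q`-model is a model set. -/
theorem isFSet [Finite S] {p : ℕ} [Fact p.Prime] (hS : IsPGroup p S) (hF : F.IsSaturated p)
    (hQn : F.IsNormal Q) (h : IsQModel F hN ι ρ) : IsFSet F hN (act ι) ρ := by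
  have hQS := hQn.1
  have hreal := h.realized hS hF hQn
  refine ⟨h.mem, h.surj, ?_, ?_, ?_⟩
  · intro s t l
    rw [act_apply, map_mul, map_mul, map_inv, h.rho, h.rho]
  · intro l l' hll
    obtain ⟨z, hz, hz'⟩ := h.ker (l⁻¹ * l') (by rw [map_mul, map_inv, hll, inv_mul_cancel])
    refine ⟨z⁻¹, inv_mem hz, ?_⟩
    rw [act_apply, map_inv, inv_inv, map_one, one_mul, ← hz', mul_inv_cancel_left]
  · intro l
    -- the subgroup of all `s` with `l⁻¹ s l ∈ S`
    let T : Subgroup Ω := ((ι.range.comap (MulAut.conj l⁻¹).toMonoidHom).comap ι).map S.subtype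
    have hT : ∀ x : S, (x : Ω) ∈ T ↔ ∃ y : S, ι y = l⁻¹ * ι x * l := by
      intro x
      constructor
      · rintro ⟨x', ⟨y, hy⟩, hx'⟩
        have : x' = x := Subtype.ext hx'
        subst this
        refine ⟨y, hy.trans ?_⟩
        show l⁻¹ * ι x' * l⁻¹⁻¹ = _
        rw [inv_inv]
      · rintro ⟨y, hy⟩
        refine ⟨x, ⟨y, hy.trans ?_⟩, rfl⟩
        show _ = l⁻¹ * ι x * l⁻¹⁻¹
        rw [inv_inv]
    have hTS : T ≤ S := Subgroup.map_subtype_le _
    -- the map
    have hch : ∀ x : T, ∃ y : S, ι y = l⁻¹ * ι ⟨x, hTS x.2⟩ * l := fun x => (hT ⟨x, hTS x.2⟩).1 x.2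
    choose f hf using hch
    let ψ : T →* Ω :=
      { toFun := fun x => f x
        map_one' := by
          have h1 := hf 1
          have h2 : f 1 = 1 := by
            apply h.inj
            rw [h1, map_one]
            have : (⟨((1 : T) : Ω), hTS (1 : T).2⟩ : S) = 1 := rfl
            rw [this, map_one]
            group
          rw [h2]
          rfl
        map_mul' := fun x y => by
          have h1 : f (x * y) = f x * f y := by
            apply h.inj
            rw [hf, map_mul, hf, hf]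
            have : (⟨((x * y : T) : Ω), hTS (x * y).2⟩ : S) = ⟨x, hTS x.2⟩ * ⟨y, hTS y.2⟩ := rfl
            rw [this, map_mul]
            group
          rw [h1]
          rfl }
    have hψS : ∀ x : T, ψ x ∈ S := fun x => (f x).2
    have hψF : ψ ∈ F.Hom T := by
      rw [hreal.2 T hTS ψ hψS]
      refine ⟨l⁻¹, fun x => ?_⟩
      show ι (f x) = _
      rw [hf, inv_inv]
    have hQT : Q ≤ T := by
      intro q hq
      rw [hT ⟨q, hQS hq⟩]
      have h1 := h.conj l⁻¹ ⟨q, hq⟩ (hQS hq) (hQS (ρ l⁻¹ ⟨q, hq⟩ : Q).2)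
      rw [inv_inv] at h1
      exact ⟨_, h1.symm⟩
    refine ⟨T, ψ, hQT, hψF, ?_, ?_⟩
    · intro s t
      rw [act_apply]
      constructor
      · intro e
        have e1 : ι t = l⁻¹ * ι s * l := by
          rw [mul_inv_eq_iff_eq_mul] at e
          rw [mul_assoc, e]
          group
        have hs : (s : Ω) ∈ T := (hT s).2 ⟨t, e1⟩
        refine ⟨hs, ?_⟩
        show ((f ⟨s, hs⟩ : S) : Ω) = t
        have e2 : f ⟨s, hs⟩ = t := by
          apply h.inj
          rw [hf, e1]
        rw [e2]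
      · rintro ⟨hs, e⟩
        have e2 : f ⟨s, hs⟩ = t := Subtype.ext e
        have e3 := hf ⟨s, hs⟩
        rw [e2] at e3
        have e4 : (⟨((⟨(s : Ω), hs⟩ : T) : Ω), hTS hs⟩ : S) = s := rfl
        rw [e4] at e3
        rw [e3]
        group
    · intro q
      have h1 := h.conj l⁻¹ q (hQS q.2) (hQS (ρ l⁻¹ q : Q).2)
      rw [inv_inv] at h1
      have h2 := hf ⟨q, hQT q.2⟩
      have h3 := h.inj (h2.trans h1)
      show ((f ⟨q, hQT q.2⟩ : S) : Ω) = _
      rw [h3, map_inv]

/-- Comparison of a `Q`-model with the model group of a model set. -/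
theorem exists_iso_of_isFSet [Finite S] {p : ℕ} [Fact p.Prime] (hS : IsPGroup p S)
    (hF : F.IsSaturated p) (hQn : F.IsNormal Q) (hQc : F.IsCentric Q) (h : IsQModel F hN ι ρ)
    {X : Type u} {a : ↥S × ↥S →* Equiv.Perm X} {π : X → MulAut ↥Q}
    (hX : IsFSet F hN a π) {M : Type w} [Group M] {ιM : ↥S →* M} {ρM : M →* MulAut ↥Q}
    (hM : IsQModel F hN ιM ρM) (q : ↥(grp F a π) →* M)
    (hq1 : ∀ s, q (lam hX hQn.1 s) = ιM s) (hq2 : ∀ g, ρM (q g) = prA F a π g) :
    ∃ e : L ≃* M, (∀ s, e (ι s) = ιM s) ∧ ∀ l, ρM (e l) = ρ l := by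
  have hQS := hQn.1
  have hL := h.isFSet hS hF hQn
  have hSQ : F.IsCentric Q := hQc
  obtain ⟨f, hf1, hf2⟩ := hL.exists_equiv hS hF hSQ hX hQS (subtype_mem F le_rfl) (β := 1)
    (fun q => rfl)
  have hf1' : ∀ (s t : S) (l : L), f (act ι (s, t) l) = a (s, t) (f l) :=
    fun s t l => hf1 s s s.2 t l rfl
  have hf2' : ∀ l, π (f l) = ρ l := fun l => by rw [hf2, one_mul]
  -- the homomorphism `L → G`
  let m : L →* ↥(grp F a π) :=
    { toFun := fun l => ⟨(((f.symm.trans (Equiv.mulLeft l)).trans f), ρ l), h.mem l, fun t x => by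
        show f (l * f.symm (a (1, t) x)) = a (1, t) (f (l * f.symm x))
        have h1 : f.symm (a (1, t) x) = act ι (1, t) (f.symm x) := by
          rw [Equiv.symm_apply_eq, hf1', Equiv.apply_symm_apply]
        rw [h1, ← hf1', act_apply, act_apply, map_one, one_mul, one_mul, mul_assoc], fun x => by
        show π (f (l * f.symm x)) = ρ l * π x
        rw [hf2', map_mul, ← hf2' (f.symm x), Equiv.apply_symm_apply]⟩
      map_one' := by
        apply Subtype.ext
        apply Prod.ext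
        · apply Equiv.ext
          intro x
          show f (1 * f.symm x) = x
          rw [one_mul, Equiv.apply_symm_apply]
        · exact map_one ρ
      map_mul' := fun l l' => by
        apply Subtype.ext
        apply Prod.ext
        · apply Equiv.ext
          intro x
          show f (l * l' * f.symm x) = f (l * f.symm (f (l' * f.symm x)))
          rw [Equiv.symm_apply_apply, mul_assoc]
        · exact map_mul ρ l l' }
  have hm1 : ∀ s, m (ι s) = lam hX hQS s := by
    intro s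
    apply Subtype.ext
    apply Prod.ext
    · apply Equiv.ext
      intro x
      show f (ι s * f.symm x) = a (s, 1) x
      have h1 := hf1' s 1 (f.symm x)
      rw [act_apply, map_one, inv_one, mul_one, Equiv.apply_symm_apply] at h1
      exact h1
    · exact h.rho s
  have hm2 : ∀ l, prA F a π (m l) = ρ l := fun l => rfl
  let e0 : L →* M := q.comp m
  have he1 : ∀ s, e0 (ι s) = ιM s := fun s => by
    show q (m (ι s)) = _
    rw [hm1, hq1]
  have he2 : ∀ l, ρM (e0 l) = ρ l := fun l => by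
    show ρM (q (m l)) = _
    rw [hq2, hm2]
  have hinj : Function.Injective e0 := by
    rw [injective_iff_map_eq_one]
    intro l hl
    have h1 : ρ l = 1 := by rw [← he2, hl, map_one]
    obtain ⟨z, -, rfl⟩ := h.ker l h1
    rw [he1] at hl
    have h2 : z = 1 := hM.inj (by rw [hl, map_one])
    rw [h2, map_one]
  have hsurj : Function.Surjective e0 := by
    intro y
    obtain ⟨l, hl⟩ := h.surj (ρM y) (hM.mem y)
    have h1 : ρM ((e0 l)⁻¹ * y) = 1 := by rw [map_mul, map_inv, he2, hl, inv_mul_cancel]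
    obtain ⟨z, -, hz⟩ := hM.ker _ h1
    refine ⟨l * ι z, ?_⟩
    rw [map_mul, he1, ← hz, mul_inv_cancel_left]
  exact ⟨MulEquiv.ofBijective e0 ⟨hinj, hsurj⟩, he1, he2⟩

/-- **Uniqueness of `Q`-models.** -/
theorem exists_iso [Finite S] {p : ℕ} [Fact p.Prime] (hS : IsPGroup p S)
    (hF : F.IsSaturated p) (hQn : F.IsNormal Q) (hQc : F.IsCentric Q) (h : IsQModel F hN ι ρ)
    {L' : Type w} [Group L'] {ι' : ↥S →* L'} {ρ' : L' →* MulAut ↥Q} (h' : IsQModel F hN ι' ρ') :
    ∃ e : L ≃* L', (∀ s, e (ι s) = ι' s) ∧ ∀ l, ρ' (e l) = ρ l := by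
  obtain ⟨X, hXf, a, π, hX⟩ := exists_isFSet (F := F) hN hS hF hQn.1
  obtain ⟨M, hM, ιM, ρM, h1, q, hq1, hq2⟩ := hX.exists_qmodel hS hF hQn hQc
  obtain ⟨e, he1, he2⟩ := h.exists_iso_of_isFSet hS hF hQn hQc hX h1 q hq1 hq2
  obtain ⟨e', he1', he2'⟩ := h'.exists_iso_of_isFSet hS hF hQn hQc hX h1 q hq1 hq2
  refine ⟨e.trans e'.symm, fun s => ?_, fun l => ?_⟩
  · show e'.symm (e (ι s)) = ι' s
    rw [he1, ← he1', MulEquiv.symm_apply_apply]
  · show ρ' (e'.symm (e l)) = ρ l
    rw [← he2', MulEquiv.apply_symm_apply, he2]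

end IsQModel

/-! ### Models are `Q`-models -/

section ofModel

variable {L : Type v} [Group L] {ι : ↥S →* L}

/-- In a finite group with a central Sylow `p`-subgroup `P` of a normal subgroup `C`, the `p'`-elements of `C` form a
characteristic complement; if `O_{p'}`-type normal subgroups are trivial then `C = P`. -/
theorem le_of_central_sylow {G : Type*} [Group G] [Finite G] {p : ℕ} [Fact p.Prime]
    {C : Subgroup G} (hC : C.Normal) (P : Sylow p C)
    (hcen : ∀ x ∈ (P : Subgroup C), ∀ y : C, x * y = y * x)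
    (htriv : ∀ N : Subgroup G, N.Normal → N ≤ C → ¬ p ∣ Nat.card N → N = ⊥) :
    (P : Subgroup C) = ⊤ := by
  have hle : Subgroup.normalizer ((P : Subgroup C) : Set C) ≤
      Subgroup.centralizer ((P : Subgroup C) : Set C) := by
    intro x _
    exact Subgroup.mem_centralizer_iff.2 fun y hy => hcen y hy x
  have hcomp := MonoidHom.ker_transferSylow_isComplement' P hle
  have hN : (((MonoidHom.transferSylow P hle).ker).map C.subtype).Normal := by
    have hch : ((MonoidHom.transferSylow P hle).ker).Characteristic := by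
      -- the kernel consists of the elements of order prime to `p`
      have hcop : ∀ x : C, x ∈ (MonoidHom.transferSylow P hle).ker ↔ ¬ p ∣ orderOf x := by
        intro x
        constructor
        · intro hx hdvd
          have h1 : ¬ p ∣ Nat.card (MonoidHom.transferSylow P hle).ker :=
            MonoidHom.not_dvd_card_ker_transferSylow P hle
          exact h1 (hdvd.trans ((Subgroup.orderOf_mk x hx).symm ▸ orderOf_dvd_natCard _))
        · intro hx
          rw [MonoidHom.mem_ker]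
          have h1 : orderOf (MonoidHom.transferSylow P hle x) ∣ orderOf x :=
            orderOf_map_dvd _ x
          obtain ⟨k, hk⟩ := (IsPGroup.iff_orderOf.1 P.2) (MonoidHom.transferSylow P hle x)
          rcases Nat.eq_zero_or_pos k with hk0 | hk0
          · rw [hk0, pow_zero] at hk
            exact orderOf_eq_one_iff.1 hk
          · exact absurd ((dvd_pow_self p hk0.ne').trans (hk ▸ h1)) hx
      refine Subgroup.characteristic_iff_comap_eq.2 fun φ => ?_
      ext x
      rw [Subgroup.mem_comap, hcop, hcop]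
      show ¬ p ∣ orderOf (φ x) ↔ _
      rw [MulEquiv.orderOf_eq φ x]
    exact ConjAct.normal_of_characteristic_of_normal
  have hbot := htriv _ hN (Subgroup.map_subtype_le _) (by
    rw [Subgroup.card_map_of_injective C.subtype_injective]
    exact MonoidHom.not_dvd_card_ker_transferSylow P hle)
  rw [Subgroup.map_eq_bot_iff_of_injective _ C.subtype_injective] at hbot
  rw [hbot] at hcomp
  exact Subgroup.isComplement'_bot_left.1 hcomp

/-- In a model, the image of a normal subgroup of the system is normal. -/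
theorem normal_of_isModel [Finite S] {p : ℕ} [Fact p.Prime]
    (hQn : F.IsNormal Q) (hM : F.IsModel p L ι) : ((Q.subgroupOf S).map ι).Normal := by
  obtain ⟨hfin, ⟨hinj, hreal⟩, ⟨T, hT⟩, hcen⟩ := hM
  have hQS := hQn.1
  have hsc := Cfsg.Agent.H759.IsNormal.stronglyClosed hQn
  have hN : S ≤ Subgroup.normalizer (Q : Set Ω) := le_normalizer_of_isNormal hQn
  have hRle : pCore p L ≤ ι.range := by
    rw [← hT]
    exact Cfsg.Agent.Lib.Cores.pCore_le_sylow T
  have hRn : (pCore p L).Normal := Cfsg.Agent.Lib.Cores.pCore_normal p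
  -- the preimage of `O_p(L)`
  let R : Subgroup Ω := ((pCore p L).comap ι).map S.subtype
  have hRS : R ≤ S := Subgroup.map_subtype_le _
  have hRm : ∀ x : S, (x : Ω) ∈ R ↔ ι x ∈ pCore p L := by
    intro x
    constructor
    · rintro ⟨x', hx', e⟩
      have : x' = x := Subtype.ext e
      subst this
      exact hx'
    · intro hx
      exact ⟨x, hx, rfl⟩
  -- it is enough that `l Q l⁻¹ ≤ Q`
  have key : ∀ (l : L) (q : S), (q : Ω) ∈ Q → ∃ q' : S, (q' : Ω) ∈ Q ∧ l * ι q * l⁻¹ = ι q' := by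
    intro l q hq
    have hch : ∀ x : R, ∃ y : S, ι y = l * ι ⟨x, hRS x.2⟩ * l⁻¹ := by
      intro x
      have h1 : l * ι ⟨x, hRS x.2⟩ * l⁻¹ ∈ pCore p L :=
        hRn.conj_mem _ ((hRm ⟨x, hRS x.2⟩).1 x.2) l
      exact hRle h1
    choose f hf using hch
    let φ : R →* Ω :=
      { toFun := fun x => f x
        map_one' := by
          have h2 : f 1 = 1 := by
            apply hinj
            rw [hf, map_one]
            have : (⟨((1 : R) : Ω), hRS (1 : R).2⟩ : S) = 1 := rfl
            rw [this, map_one]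
            group
          rw [h2]
          rfl
        map_mul' := fun x y => by
          have h1 : f (x * y) = f x * f y := by
            apply hinj
            rw [hf, map_mul, hf, hf]
            have : (⟨((x * y : R) : Ω), hRS (x * y).2⟩ : S) = ⟨x, hRS x.2⟩ * ⟨y, hRS y.2⟩ := rfl
            rw [this, map_mul]
            group
          rw [h1]
          rfl }
    have hφS : ∀ x : R, φ x ∈ S := fun x => (f x).2
    have hφF : φ ∈ F.Hom R := by
      rw [hreal R hRS φ hφS]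
      exact ⟨l, fun x => hf x⟩
    obtain ⟨ψ, hψ, hψ1, hψ2⟩ := hQn.2 R φ hφF
    obtain ⟨g, hg⟩ := (hreal _ (hom_le hψ) ψ (hom_apply_mem hψ)).1 hψ
    -- `g⁻¹ l` centralizes `O_p(L)`
    have hgl : g⁻¹ * l ∈ pCore p L := by
      refine hcen (Subgroup.mem_centralizer_iff.2 fun y hy => ?_)
      obtain ⟨x, rfl⟩ := hRle hy
      have hxR : (x : Ω) ∈ R := (hRm x).2 hy
      have h1 := hg (Subgroup.inclusion le_sup_left ⟨x, hxR⟩)
      have h2 : ι ⟨ψ (Subgroup.inclusion le_sup_left ⟨x, hxR⟩), hom_apply_mem hψ _⟩ =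
          ι (f ⟨x, hxR⟩) := by
        congr 1
        exact Subtype.ext (hψ1 ⟨x, hxR⟩)
      rw [h2, hf] at h1
      have h3 : l * ι x * l⁻¹ = g * ι x * g⁻¹ := h1
      calc ι x * (g⁻¹ * l) = g⁻¹ * (g * ι x * g⁻¹) * l := by group
        _ = g⁻¹ * (l * ι x * l⁻¹) * l := by rw [h3]
        _ = g⁻¹ * l * ι x := by group
    obtain ⟨r, hr⟩ := hRle hgl
    -- `l ι(q) l⁻¹ = g ι(r q r⁻¹) g⁻¹ = ι(ψ(r q r⁻¹))`
    have hrq : (r : Ω) * q * (r : Ω)⁻¹ ∈ Q := (Subgroup.mem_normalizer_iff.1 (hN r.2) q).1 hq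
    have h4 := hg ⟨(r : Ω) * q * (r : Ω)⁻¹, (le_sup_right : Q ≤ R ⊔ Q) hrq⟩
    refine ⟨⟨ψ ⟨(r : Ω) * q * (r : Ω)⁻¹, (le_sup_right : Q ≤ R ⊔ Q) hrq⟩, hom_apply_mem hψ _⟩,
      ?_, ?_⟩
    · have h6 : ψ ⟨(r : Ω) * q * (r : Ω)⁻¹, (le_sup_right : Q ≤ R ⊔ Q) hrq⟩ ∈
          (Q.subgroupOf (R ⊔ Q)).map ψ := ⟨_, hrq, rfl⟩
      exact (SetLike.ext_iff.1 hψ2 _).1 h6
    · rw [h4]
      have h5 : (⟨(r : Ω) * q * (r : Ω)⁻¹, hQS hrq⟩ : S) = r * q * r⁻¹ := rfl
      show _ = g * ι ⟨(r : Ω) * q * (r : Ω)⁻¹, hQS hrq⟩ * g⁻¹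
      rw [h5, map_mul, map_mul, map_inv, hr]
      group
  refine ⟨?_⟩
  rintro _ ⟨q, hq, rfl⟩ l
  obtain ⟨q', hq', e⟩ := key l q hq
  rw [e]
  exact ⟨q', hq', rfl⟩

/-- A model is a `Q`-model, for `Q` normal and centric in the system. -/
theorem exists_isQModel [Finite S] {p : ℕ} [Fact p.Prime]
    (hQn : F.IsNormal Q) (hQc : F.IsCentric Q) (hM : F.IsModel p L ι)
    (hN : S ≤ Subgroup.normalizer (Q : Set Ω)) :
    ∃ ρ : L →* MulAut ↥Q, IsQModel F hN ι ρ := by
  have hnorm : ((Q.subgroupOf S).map ι).Normal := normal_of_isModel hQn hM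
  obtain ⟨hfin, ⟨hinj, hreal⟩, ⟨T, hT⟩, hcen⟩ := hM
  have hQS := hQn.1
  have hQf : Finite Q := finite_of_le hQS
  have hQc' : centralizerIn S Q ≤ Q := hQc.2 Q (isConj_refl F hQS)
  set N : Subgroup L := (Q.subgroupOf S).map ι with hNdef
  -- the isomorphism `Q ≃ N`
  let i₀ : Q →* N := (ι.comp (Subgroup.inclusion hQS)).codRestrict N (fun q => ⟨_, q.2, rfl⟩)
  have hi₀ : ∀ q : Q, ((i₀ q : N) : L) = ι ⟨q, hQS q.2⟩ := fun q => rfl
  have hbij : Function.Bijective i₀ := by
    constructor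
    · intro q q' h
      have h1 : ι ⟨q, hQS q.2⟩ = ι ⟨q', hQS q'.2⟩ := congrArg Subtype.val h
      exact Subtype.ext (Subtype.mk.inj (hinj h1))
    · rintro ⟨_, q, hq, rfl⟩
      exact ⟨⟨q, hq⟩, rfl⟩
  let e : Q ≃* N := MulEquiv.ofBijective i₀ hbij
  have he : ∀ q : Q, ((e q : N) : L) = ι ⟨q, hQS q.2⟩ := fun q => rfl
  let ρ : L →* MulAut ↥Q := (MulAut.congr e.symm).toMonoidHom.comp MulAut.conjNormal
  have hρ : ∀ (l : L) (q : Q), ι ⟨(ρ l q : Q), hQS (ρ l q : Q).2⟩ = l * ι ⟨q, hQS q.2⟩ * l⁻¹ := by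
    intro l q
    rw [← he, ← he]
    have h1 : ρ l q = e.symm (MulAut.conjNormal l (e q)) := rfl
    rw [h1, MulEquiv.apply_symm_apply]
    exact MulAut.conjNormal_apply l (e q)
  have hρ1 : ∀ l : L, ρ l = 1 ↔ ∀ q : Q, l * ι ⟨q, hQS q.2⟩ = ι ⟨q, hQS q.2⟩ * l := by
    intro l
    constructor
    · intro h q
      have h1 := hρ l q
      rw [h] at h1
      have h2 : ι ⟨((1 : MulAut Q) q : Q), hQS ((1 : MulAut Q) q : Q).2⟩ = ι ⟨q, hQS q.2⟩ := rfl
      rw [h2] at h1
      conv_rhs => rw [h1]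
      group
    · intro h
      apply MulEquiv.ext
      intro q
      have h1 := hρ l q
      rw [h q, mul_inv_cancel_right] at h1
      exact Subtype.ext (Subtype.mk.inj (hinj h1))
  refine ⟨ρ, hinj, ?_, fun l q h h' => (hρ l q).symm, ?_, ?_, ?_, ?_⟩
  · intro s
    apply MulEquiv.ext
    intro q
    apply Subtype.ext
    have h1 := hρ (ι s) q
    rw [← map_inv, ← map_mul, ← map_mul] at h1
    exact Subtype.mk.inj (hinj h1)
  · -- the centralizer of `ι(Q)`
    let C : Subgroup L := ρ.ker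
    have hCn : C.Normal := inferInstance
    -- a Sylow subgroup of `C`
    have hTC : ∀ x : L, x ∈ (T : Subgroup L) → x ∈ C →
        ∃ z : S, (z : Ω) ∈ Subgroup.centralizer (Q : Set Ω) ∧ x = ι z := by
      intro x hxT hxC
      rw [hT] at hxT
      obtain ⟨z, rfl⟩ := hxT
      refine ⟨z, Subgroup.mem_centralizer_iff.2 fun q hq => ?_, rfl⟩
      have h1 := (hρ1 (ι z)).1 hxC ⟨q, hq⟩
      rw [← map_mul, ← map_mul] at h1
      exact (Subtype.mk.inj (hinj h1)).symm
    have hTCz : ∀ x : L, x ∈ (T : Subgroup L) → x ∈ C → ∀ y ∈ C, x * y = y * x := by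
      intro x hxT hxC y hy
      obtain ⟨z, hz, rfl⟩ := hTC x hxT hxC
      have hzQ : (z : Ω) ∈ Q := hQc' ⟨z.2, hz⟩
      exact ((hρ1 y).1 hy ⟨z, hzQ⟩).symm
    -- every `p`-element of `C` is conjugate into `ι(Z(Q))`
    have hconj : ∀ x ∈ C, (∃ k : ℕ, x ^ p ^ k = 1) → ∃ g : L, g * x * g⁻¹ ∈ (T : Subgroup L) := by
      intro x _ hx
      obtain ⟨k, hk⟩ := hx
      have hzp : IsPGroup p (Subgroup.zpowers x) := by
        rintro ⟨y, hy⟩
        obtain ⟨n, rfl⟩ := Subgroup.mem_zpowers_iff.1 hy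
        refine ⟨k, Subtype.ext ?_⟩
        show (x ^ n) ^ p ^ k = 1
        rw [← zpow_natCast, ← zpow_mul, mul_comm, zpow_mul, zpow_natCast, hk, one_zpow]
      obtain ⟨T', hT'⟩ := hzp.exists_le_sylow
      obtain ⟨g, hg⟩ := MulAction.exists_smul_eq L T' T
      refine ⟨g, ?_⟩
      rw [← hg]
      exact Subgroup.smul_mem_pointwise_smul x (MulAut.conj g) (T' : Subgroup L)
        (hT' (Subgroup.mem_zpowers x))
    let P : Sylow p C := default
    have hPtop : (P : Subgroup C) = ⊤ := by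
      refine le_of_central_sylow hCn P ?_ ?_
      · intro x hx y
        obtain ⟨k, hk⟩ := P.2 ⟨x, hx⟩
        have hk' : (x : L) ^ p ^ k = 1 := by
          have := congrArg (fun w : P => ((w : C) : L)) hk
          exact this
        obtain ⟨g, hg⟩ := hconj x x.2 ⟨k, hk'⟩
        have h1 := hTCz _ hg (hCn.conj_mem _ x.2 g) (g * y * g⁻¹) (hCn.conj_mem _ y.2 g)
        apply Subtype.ext
        show (x : L) * y = y * x
        calc (x : L) * y = g⁻¹ * (g * x * g⁻¹ * (g * y * g⁻¹)) * g := by group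
          _ = g⁻¹ * (g * y * g⁻¹ * (g * x * g⁻¹)) * g := by rw [h1]
          _ = y * x := by group
      · intro N' hN' hN'C hN'p
        -- `N'` is a normal `p'`-subgroup, so it centralizes `O_p(L)`
        have hRn : (pCore p L).Normal := Cfsg.Agent.Lib.Cores.pCore_normal p
        have hRp : IsPGroup p (pCore p L) := Cfsg.Agent.Lib.Cores.pCore_isPGroup p
        have hdisj : Disjoint N' (pCore p L) := by
          rw [Subgroup.disjoint_def]
          intro x hx hxR
          obtain ⟨k, hk⟩ := (IsPGroup.iff_orderOf.1 hRp) ⟨x, hxR⟩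
          rw [Subgroup.orderOf_mk] at hk
          rcases Nat.eq_zero_or_pos k with hk0 | hk0
          · rw [hk0, pow_zero] at hk
            exact orderOf_eq_one_iff.1 hk
          · have h1 : orderOf x ∣ Nat.card N' := by
              rw [← Subgroup.orderOf_mk x hx]
              exact orderOf_dvd_natCard _
            exact absurd ((dvd_pow_self p hk0.ne').trans (hk ▸ h1)) hN'p
        have hcomm : N' ≤ Subgroup.centralizer (pCore p L : Set L) := by
          intro x hx
          refine Subgroup.mem_centralizer_iff.2 fun y hy => ?_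
          exact (Subgroup.commute_of_normal_of_disjoint N' (pCore p L) hN' hRn hdisj x y hx hy).symm
        have h2 : N' ≤ pCore p L := hcomm.trans hcen
        rw [eq_bot_iff]
        intro x hx
        exact Subgroup.disjoint_def.1 hdisj hx (h2 hx)
    intro l hl
    have hlP : (⟨l, hl⟩ : C) ∈ (P : Subgroup C) := by
      rw [hPtop]
      trivial
    obtain ⟨k, hk⟩ := P.2 ⟨⟨l, hl⟩, hlP⟩
    have hk' : l ^ p ^ k = 1 := by
      have := congrArg (fun w : P => ((w : C) : L)) hk
      exact this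
    obtain ⟨g, hg⟩ := hconj l hl ⟨k, hk'⟩
    obtain ⟨z, hz, hz'⟩ := hTC _ hg (hCn.conj_mem _ hl g)
    have hzQ : (z : Ω) ∈ Q := hQc' ⟨z.2, hz⟩
    have h3 : l ∈ N := by
      have h4 := hnorm.conj_mem (ι z) ⟨z, hzQ, rfl⟩ g⁻¹
      rw [← hz'] at h4
      have h5 : g⁻¹ * (g * l * g⁻¹) * g⁻¹⁻¹ = l := by group
      rwa [h5] at h4
    obtain ⟨w, hw, hwl⟩ := h3
    refine ⟨w, Subgroup.mem_centralizer_iff.2 fun q hq => ?_, hwl.symm⟩
    have h6 := (hρ1 l).1 hl ⟨q, hq⟩
    rw [← hwl, ← map_mul, ← map_mul] at h6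
    exact (Subtype.mk.inj (hinj h6)).symm
  · intro l
    rw [mem_autGroup_iff F hQS, hreal Q hQS _ (fun x => hQS (ρ l x : Q).2)]
    exact ⟨l, fun x => hρ l x⟩
  · intro β hβ
    rw [mem_autGroup_iff F hQS, hreal Q hQS _ (fun x => hQS (β x : Q).2)] at hβ
    obtain ⟨l, hl⟩ := hβ
    refine ⟨l, ?_⟩
    apply MulEquiv.ext
    intro q
    have h1 := (hρ l q).trans (hl q).symm
    exact Subtype.ext (Subtype.mk.inj (hinj h1))
  · intro P hQP φ hφ
    obtain ⟨l, hl⟩ := (hreal P (hom_le hφ) φ (hom_apply_mem hφ)).1 hφ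
    exact ⟨l, fun x hx hx' => (hl x).symm⟩

/-- **Uniqueness of models** of constrained fusion systems: two models are isomorphic by an isomorphism compatible
with the embeddings of `S`. -/
theorem exists_iso_of_isModel [Finite S] {p : ℕ} [Fact p.Prime] (hS : IsPGroup p S)
    (hF : F.IsSaturated p) (hQn : F.IsNormal Q) (hQc : F.IsCentric Q)
    (hM : F.IsModel p L ι) {L' : Type w} [Group L'] {ι' : ↥S →* L'} (hM' : F.IsModel p L' ι') :
    ∃ e : L ≃* L', ∀ s, e (ι s) = ι' s := by
  obtain ⟨ρ, h⟩ := exists_isQModel hQn hQc hM (le_normalizer_of_isNormal hQn)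
  obtain ⟨ρ', h'⟩ := exists_isQModel hQn hQc hM' (le_normalizer_of_isNormal hQn)
  obtain ⟨e, he, -⟩ := h.exists_iso hS hF hQn hQc h'
  exact ⟨e, he⟩

end ofModel

end Cfsg.Agent.H771
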