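import Cfsg.Agent.H256.SporB
import Cfsg.Agent.NotCT.Orders
import Cfsg.Agent.KFacts.Co3.Syl
import Cfsg.Agent.KFacts.Co3D4.Model

/-!
# The `Z*_p` theorem, `p` odd: the row `Co3` (helper771)

`C(Z) = 2.Sp6(2)`.
-/

set_option autoImplicit false

namespace Cfsg.Agent.H771.RowCo3

open Subgroup Cfsg Cfsg.Agent.H256.ZBasic Cfsg.Agent.H256.ZRed Cfsg.Agent.H256.ZTool
  Cfsg.Agent.H256.OddInner Cfsg.Agent.H256.Spor
open Cfsg.Agent.SporRec.TwoSp6.Sp (S)

universe u v

variable {K : Type v} [Group K] {p : ℕ}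

theorem co3 (h : Spor.IsoCo3 K) (hp : p.Prime) (hp2 : p ≠ 2) : Row.{u} p K := by
  have hf : Fact p.Prime := ⟨hp⟩
  refine @row_spor K _ p hp hp2 (H256.OddInner.co3 h) fun hfin _ _ _ hc y hy => ?_
  obtain ⟨e⟩ := h
  have e' : K ≃* SporRec.Co3.Chain.G3 := e.trans SporRec.Co3.Model.equivCo3.symm
  have hfG : Finite SporRec.Co3.Chain.G3 := Finite.of_equiv _ e'.toEquiv
  have hy' := MinCex.map hy e'
  obtain ⟨π, N⟩ := KFacts.Co3D4.exists_NS_G3
  have hS : IsSimpleGroup S := Co2Type.Setup.isSimpleGroup_sp6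
  have hcS : Nat.card S = 1451520 := SporRec.TwoSp6.Sp.card_S
  rw [Nat.card_congr e'.toEquiv, SporRec.Co3.Chain.isCo3_G3.2] at hc
  have hd : p ∣ Nat.card S := by
    rw [hcS]
    obtain ⟨q, hq, hqp⟩ := mem_of_cube hp [(2, 10), (3, 7), (5, 3), (7, 1), (11, 1), (23, 1)] (by decide +kernel)
      (by norm_num) ((dvd_pow_self p three_ne_zero).trans hc)
    fin_cases hq <;> simp only at hqp <;> subst hqp <;>
      first | exact absurd rfl hp2 | (norm_num; done) | exact absurd hc (by norm_num)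
  refine false_of_hom hy' hp2 SporRec.Co3.Ident.Z_sq KFacts.Co3D4.Z_ne ?_ ?_
    (fun x hx => mem_centralizer_singleton_iff.1 hx)
    (fun a b ha _ haP _ => absurd (mem_centralizer_singleton_iff.2 ha) haP) ?_ hd π N.surj ?_
  · obtain ⟨T, h1, h2, h3⟩ := KFacts.Co3.Syl.syl
    exact ⟨T, h1, h2, fun w hw _ => h3 w hw⟩
  · intro htop
    have h1 := KFacts.Co3.Syl.card_Z
    rw [htop, card_top, SporRec.Co3.Chain.isCo3_G3.2] at h1
    omega
  · by_contra hcon
    push Not at hcon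
    have h1 : Nat.card S = 1 := by
      rw [Nat.card_eq_one_iff_unique]
      refine ⟨⟨fun a b => ?_⟩, ⟨1⟩⟩
      rw [KFacts.Co3.AutM.center_S (g := a) (fun x => hcon x a), KFacts.Co3.AutM.center_S (g := b) (fun x => hcon x b)]
    omega
  · intro x hx ho
    rcases N.ker x hx with h | h
    · rw [h, orderOf_one] at ho
      exact hp.one_lt.ne ho
    · rw [h, orderOf_eq_prime (p := 2) (by rw [pow_two]; exact N.z_sq) N.z_ne] at ho
      exact hp2 ho.symm

end Cfsg.Agent.H771.RowCo3
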