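import Cfsg.Agent.H256.SporB
import Cfsg.Agent.NotCT.Orders
import Cfsg.Agent.H799.MTSyl
import Cfsg.Agent.TypeM.FactsMcL
import Cfsg.Agent.TypeM.FactsLy
import Cfsg.Agent.TypeM.FactsAut

/-!
# The `Z*_p` theorem, `p` odd: the rows `McL` and `Ly` (helper771)

The Sylow 2-subgroups are self-normalizing (`H799.MTSyl`).
-/

set_option autoImplicit false

namespace Cfsg.Agent.H771.RowMT

open Subgroup Cfsg Cfsg.Agent.H256.ZBasic Cfsg.Agent.H256.ZRed Cfsg.Agent.H256.ZTool
  Cfsg.Agent.H256.OddInner Cfsg.Agent.H256.Spor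

universe u v

variable {K : Type v} [Group K] {p : ℕ}

theorem mcl (h : Spor.IsoMcL K) (hp : p.Prime) (hp2 : p ≠ 2) : Row.{u} p K := by
  have hf : Fact p.Prime := ⟨hp⟩
  refine @row_spor K _ p hp hp2 (H256.OddInner.mcl h) fun hfin _ _ _ hc y hy => ?_
  obtain ⟨-, -, hcard, ⟨L⟩⟩ := TypeM.FactsMcL.facts h
  refine false_of_selfN (K := K) hy hp2 (H799.MTSyl.normalizer_le (by norm_num) (by norm_num) L) L.t_mul_t L.t_ne ?_
  rw [TypeM.FactsAut.card_centralizer L (by norm_num)]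
  rw [hcard] at hc
  obtain ⟨q, hq, hqp⟩ := mem_of_cube hp [(2, 7), (3, 6), (5, 3), (7, 1), (11, 1)] (by decide +kernel) (by norm_num)
    ((dvd_pow_self p three_ne_zero).trans hc)
  fin_cases hq <;> simp only at hqp <;> subst hqp <;>
    first | exact absurd rfl hp2 | (norm_num [Nat.factorial]; done) | exact absurd hc (by norm_num)

theorem ly (h : Spor.IsoLy K) (hp : p.Prime) (hp2 : p ≠ 2) : Row.{u} p K := by
  have hf : Fact p.Prime := ⟨hp⟩
  refine @row_spor K _ p hp hp2 (H256.OddInner.ly h) fun hfin _ _ _ hc y hy => ?_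
  obtain ⟨-, -, hcard, ⟨L⟩⟩ := TypeM.FactsLy.facts h
  refine false_of_selfN (K := K) hy hp2 (H799.MTSyl.normalizer_le (by norm_num) (by norm_num) L) L.t_mul_t L.t_ne ?_
  rw [TypeM.FactsAut.card_centralizer L (by norm_num)]
  rw [hcard] at hc
  obtain ⟨q, hq, hqp⟩ := mem_of_cube hp [(2, 8), (3, 7), (5, 6), (7, 1), (11, 1), (31, 1), (37, 1), (67, 1)]
    (by decide +kernel) (by norm_num) ((dvd_pow_self p three_ne_zero).trans hc)
  fin_cases hq <;> simp only at hqp <;> subst hqp <;>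
    first | exact absurd rfl hp2 | (norm_num [Nat.factorial]; done) | exact absurd hc (by norm_num)

end Cfsg.Agent.H771.RowMT
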