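import Cfsg.Agent.H771.KTools
import Cfsg.Agent.KFacts.Co1.InCo1
import Cfsg.Agent.NotCT.Orders

/-!
# `12 ≤ k(G)` for `G = Co1` (helper771)
-/

set_option autoImplicit false

namespace Cfsg.Agent.H771.KCo1

open Subgroup Cfsg Cfsg.Agent.H92.KTools Cfsg.Agent.H771.KTools
open Cfsg.Agent.CoOneType.SignFacts (wt)
open Cfsg.Agent.CoOneType.ClosingFacts (mk)
open Cfsg.Agent.SporadicA.Co0Mono
open Cfsg.Agent.KFacts.Co1.Perf Cfsg.Agent.KFacts.Co1.InCo1
open Cfsg.Agent.CoOneType.CentOctad (C0 mem_C0 sign_mem perm_mem xi_mem)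

theorem co1 {G : Type*} [Group G] (h : Spor.IsoCo1 G) : 12 ≤ Nat.card (ConjClasses G) := by
  have hcardG := NotCT.Orders.co1 h
  have hfinG : Finite G := Nat.finite_of_card_ne_zero (by rw [hcardG]; norm_num)
  obtain ⟨e⟩ := h
  have hfin : Finite Spor.Co1 := Finite.of_equiv _ e.toEquiv
  have hcard : Nat.card Spor.Co1 = 4157776806543360000 := by rw [← Nat.card_congr e.toEquiv, hcardG]
  rw [card_classes_congr e]
  obtain ⟨o, ho⟩ := Cfsg.Agent.CoOneType.ClosingCo1.exists_octad
  set z : Spor.Co1 := mk (signCo0 o) with hz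
  have hL := large ho
  -- the order of the centralizer
  have hc : ∃ k, Nat.card (centralizer ({z} : Set Spor.Co1)) = 660602880 * k := by
    have h1 : (centralizer ({z} : Set Spor.Co1)).index = (C0 o).index := by
      rw [← comap_cent ho, Subgroup.index_comap_of_surjective _
        (QuotientGroup.mk'_surjective (Subgroup.center Co0))]
    have h2 : (C0 o).index ∣ 6293912625 := by
      rw [← index_inf ho]
      exact Subgroup.index_dvd_of_le inf_le_right
    obtain ⟨k, hk⟩ := h2
    refine ⟨k, ?_⟩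
    have h3 := (centralizer ({z} : Set Spor.Co1)).card_mul_index
    rw [h1, hcard] at h3
    have h4 : Nat.card (centralizer ({z} : Set Spor.Co1)) * 6293912625 = 660602880 * k * 6293912625 := by
      rw [hk, ← mul_assoc, h3]
      have : (4157776806543360000 : ℕ) = 660602880 * 6293912625 := by norm_num
      rw [this, hk]
      ring
    exact Nat.eq_of_mul_eq_mul_right (by norm_num) h4
  obtain ⟨k, hk⟩ := hc
  have h2d : ∀ p, p.Prime → p ≠ 2 → p ∣ 660602880 → HasOrd Spor.Co1 (2 * p) := fun p hp hp2 hd =>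
    two_mul_prime hL.z_sq hL.z_ne hp hp2 (by rw [hk]; exact Dvd.dvd.mul_right hd k)
  have hd : ∀ p, p.Prime → p ∣ 4157776806543360000 → HasOrd Spor.Co1 p := fun p hp hd =>
    hasOrd_prime hp (by rwa [hcard])
  have h4 : HasOrd Spor.Co1 4 := by
    refine HasOrd.of_subgroup (K := centralizer ({z} : Set Spor.Co1)) ?_
    refine four_of_central (z := ⟨z, mem_centralizer_singleton_iff.2 rfl⟩) (Subtype.ext hL.z_sq)
      (fun h => hL.z_ne (congrArg Subtype.val h)) (fun g => Subtype.ext (mem_centralizer_singleton_iff.1 g.2)) ?_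
    rw [commutator_eq_top ho]
    trivial
  refine le_trans (by decide) (orders_le (G := Spor.Co1) {1, 2, 3, 5, 7, 11, 13, 23, 4, 6, 10, 14} ?_)
  intro m hm
  simp only [Finset.mem_insert, Finset.mem_singleton] at hm
  rcases hm with rfl | rfl | rfl | rfl | rfl | rfl | rfl | rfl | rfl | rfl | rfl | rfl
  · exact hasOrd_one _
  · exact hd 2 (by norm_num) (by norm_num)
  · exact hd 3 (by norm_num) (by norm_num)
  · exact hd 5 (by norm_num) (by norm_num)
  · exact hd 7 (by norm_num) (by norm_num)
  · exact hd 11 (by norm_num) (by norm_num)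
  · exact hd 13 (by norm_num) (by norm_num)
  · exact hd 23 (by norm_num) (by norm_num)
  · exact h4
  · exact h2d 3 (by norm_num) (by norm_num) (by norm_num)
  · exact h2d 5 (by norm_num) (by norm_num) (by norm_num)
  · exact h2d 7 (by norm_num) (by norm_num) (by norm_num)

end Cfsg.Agent.H771.KCo1
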