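import Cfsg.Agent.H771.KSp6
import Cfsg.Agent.KFacts.Co3.Syl
import Cfsg.Agent.KFacts.Co3D4.Model
import Cfsg.Agent.KFacts.CoTwo.QuotInst
import Cfsg.Agent.NotCT.Orders

/-!
# `12 ≤ k(G)` for `G = Co2`, `Co3` (helper771)
-/

set_option autoImplicit false

namespace Cfsg.Agent.H771.KCo23

open Subgroup Cfsg Cfsg.Agent.H92.KTools Cfsg.Agent.H771.KTools Cfsg.Agent.SporRec.TwoSp6.Sp

theorem twelve_of {G : Type*} [Group G] [Finite G] {z : G} (hzz : z * z = 1) (hz1 : z ≠ 1)
    (f : centralizer ({z} : Set G) →* S) (hf : Function.Surjective f) (h11 : 11 ∣ Nat.card G) (h23 : 23 ∣ Nat.card G) :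
    12 ≤ Nat.card (ConjClasses G) := by
  have hS : ∀ m, HasOrd S m → HasOrd (centralizer ({z} : Set G)) m := fun m h => h.of_surjective f hf
  have hfS : Finite S := Finite.of_surjective f hf
  have hp : ∀ p, p.Prime → p ∣ 1451520 → HasOrd (centralizer ({z} : Set G)) p := fun p hp hd =>
    hS p (hasOrd_prime hp (by rwa [card_S]))
  have h2 : ∀ p, p.Prime → p ≠ 2 → p ∣ 1451520 → HasOrd G (2 * p) := fun p hp' hp2 hd =>
    two_mul_of_cent hzz hz1 (hp'.odd_of_ne_two hp2) (hp p hp' hd)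
  refine le_trans (by decide) (orders_le (G := G) {1, 2, 3, 5, 7, 11, 23, 4, 6, 10, 14, 9} ?_)
  intro m hm
  simp only [Finset.mem_insert, Finset.mem_singleton] at hm
  rcases hm with rfl | rfl | rfl | rfl | rfl | rfl | rfl | rfl | rfl | rfl | rfl | rfl
  · exact hasOrd_one G
  · exact ⟨z, ord_two hzz hz1⟩
  · exact (hp 3 (by norm_num) (by norm_num)).of_subgroup
  · exact (hp 5 (by norm_num) (by norm_num)).of_subgroup
  · exact (hp 7 (by norm_num) (by norm_num)).of_subgroup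
  · exact hasOrd_prime (by norm_num) h11
  · exact hasOrd_prime (by norm_num) h23
  · exact (hS 4 KSp6.four).of_subgroup
  · exact h2 3 (by norm_num) (by norm_num) (by norm_num)
  · exact h2 5 (by norm_num) (by norm_num) (by norm_num)
  · exact h2 7 (by norm_num) (by norm_num) (by norm_num)
  · exact (hS 9 KSp6.nine).of_subgroup

theorem co3 {G : Type*} [Group G] (h : Spor.IsoCo3 G) : 12 ≤ Nat.card (ConjClasses G) := by
  obtain ⟨e⟩ := h
  have e' : G ≃* SporRec.Co3.Chain.G3 := e.trans SporRec.Co3.Model.equivCo3.symm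
  have hfG : Finite SporRec.Co3.Chain.G3 := Nat.finite_of_card_ne_zero (by
    rw [SporRec.Co3.Chain.isCo3_G3.2]; norm_num)
  have hfin : Finite G := Finite.of_equiv _ e'.symm.toEquiv
  rw [card_classes_congr e']
  obtain ⟨π, N⟩ := KFacts.Co3D4.exists_NS_G3
  exact twelve_of SporRec.Co3.Ident.Z_sq KFacts.Co3D4.Z_ne π N.surj
    (by rw [SporRec.Co3.Chain.isCo3_G3.2]; norm_num) (by rw [SporRec.Co3.Chain.isCo3_G3.2]; norm_num)

theorem co2_model : 12 ≤ Nat.card (ConjClasses Spor.Co2) := by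
  have := Cfsg.Agent.Schreier.CoTwoStab.finite
  have := Cfsg.Agent.Schreier.CoTwoStab.isSimpleGroup
  have H := KFacts.CoTwo.QuotInst.hyp
  obtain ⟨π, hπ, -⟩ := KFacts.CoTwo.Quot.quot H
  exact twelve_of H.large.z_sq H.large.z_ne π hπ
    (by rw [Cfsg.Agent.Schreier.CoTwoStab.card]; norm_num) (by rw [Cfsg.Agent.Schreier.CoTwoStab.card]; norm_num)

theorem co2 {G : Type*} [Group G] (h : Spor.IsoCo2 G) : 12 ≤ Nat.card (ConjClasses G) := by
  have := Cfsg.Agent.Schreier.CoTwoStab.finite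
  obtain ⟨e⟩ := h
  have hfin : Finite G := Finite.of_equiv _ e.symm.toEquiv
  rw [card_classes_congr e]
  exact co2_model

end Cfsg.Agent.H771.KCo23
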