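import Cfsg.Agent.H771.KTools
import Cfsg.Agent.KFacts.ON.OneClass
import Cfsg.Agent.KFacts.ON.Struct
import Cfsg.Agent.NotCT.Orders

/-!
# `12 ≤ k(G)` for `G = ON` (helper771)
-/

set_option autoImplicit false

namespace Cfsg.Agent.H771.KON

open Subgroup Cfsg Cfsg.Agent.H92.KTools Cfsg.Agent.H771.KTools
open Cfsg.Spor (ON)
open Cfsg.Spor.ON (Gen)
open Cfsg.Agent.SporadicB.ON45Word (on)
open Cfsg.Agent.KFacts.ON.Cent Cfsg.Agent.KFacts.ON.Words Cfsg.Agent.KFacts.ON.Struct

theorem on_model : 12 ≤ Nat.card (ConjClasses ON) := by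
  have hcard := Cfsg.Agent.KFacts.ON.OneClass.card_ON
  have hfin : Finite ON := finite_ON
  have h2d : ∀ p, p.Prime → p ≠ 2 → p ∣ 161280 → HasOrd ON (2 * p) := fun p hp hp2 hd =>
    two_mul_prime ff f_ne_one hp hp2 (by rwa [card_cent])
  have hd : ∀ p, p.Prime → p ∣ 460815505920 → HasOrd ON p := fun p hp hd => hasOrd_prime hp (by rwa [hcard])
  refine le_trans (by decide) (orders_le (G := ON) {1, 2, 3, 5, 7, 11, 19, 31, 4, 6, 10, 14} ?_)
  intro m hm
  simp only [Finset.mem_insert, Finset.mem_singleton] at hm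
  rcases hm with rfl | rfl | rfl | rfl | rfl | rfl | rfl | rfl | rfl | rfl | rfl | rfl
  · exact hasOrd_one _
  · exact hd 2 (by norm_num) (by norm_num)
  · exact hd 3 (by norm_num) (by norm_num)
  · exact hd 5 (by norm_num) (by norm_num)
  · exact hd 7 (by norm_num) (by norm_num)
  · exact hd 11 (by norm_num) (by norm_num)
  · exact hd 19 (by norm_num) (by norm_num)
  · exact hd 31 (by norm_num) (by norm_num)
  · exact four vv ff f_ne_one
  · exact h2d 3 (by norm_num) (by norm_num) (by norm_num)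
  · exact h2d 5 (by norm_num) (by norm_num) (by norm_num)
  · exact h2d 7 (by norm_num) (by norm_num) (by norm_num)

theorem on {G : Type*} [Group G] (h : Spor.IsoON G) : 12 ≤ Nat.card (ConjClasses G) := by
  have hfin : Finite ON := finite_ON
  obtain ⟨e⟩ := h
  have := Finite.of_equiv _ e.symm.toEquiv
  rw [card_classes_congr e]
  exact on_model

end Cfsg.Agent.H771.KON
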