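import Cfsg.Agent.H299.RowU6
import Cfsg.Agent.CpAutCoTwo.CaseA

/-!
# `PSU_6(2)` has no element of order 21
-/

set_option autoImplicit false
set_option linter.unusedSectionVars false

namespace Cfsg.Agent.H771.UnTwentyOne

open Cfsg Module Matrix
open Cfsg.Agent.LieClassical.HermBasic Cfsg.Agent.LieClassical.HermSiegel
open Cfsg.Agent.ClassicalGeometry.HermOrtho
open Cfsg.Agent.H299.CenAux Cfsg.Agent.H299.RowU6 Cfsg.Agent.GpUn
open Cfsg.Agent.ClassicalGeometry.UnitAutBasic (pr pr_surjective)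

variable {F : Type} [Field F] [Fintype F]

/-- commuting elements of orders 3 and 7 of `PSU_6(2)` -/
theorem no_comm [CharP F 2] (hF : Fintype.card F = 2 ^ 2) {b y : PSU 6 F 2} (hb : b ^ 3 = 1) (hb1 : b ≠ 1)
    (hy : y ^ 7 = 1) (h : b * y = y * b) : y = 1 := by
  obtain ⟨B, hB⟩ := pr_surjective (n := 6) (F := F) (q := 2) b
  obtain ⟨Z0, hZ0⟩ := pr_surjective (n := 6) (F := F) (q := 2) y
  have hBc : B ^ 3 ∈ Subgroup.center (SU 6 F 2) := by
    have h1 : pr 6 F 2 (B ^ 3) = 1 := by rw [map_pow, hB, hb]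
    exact (QuotientGroup.eq_one_iff (B ^ 3)).1 h1
  obtain ⟨c, hc0, hcq, hc⟩ := Cfsg.Agent.ClassicalGeometry.PSUAutBasic.exists_scalar_of_mem_center hF (by norm_num) hBc
  have hc1 : c = 1 := by
    refine Cfsg.Agent.CpAutCoTwo.Unit.cube_eq_one hF (X := B) (c := c) (by rw [pow_succ', hcq]) fun v => ?_
    rw [← act_mul, ← act_mul, ← hc, pow_succ, pow_two, mul_assoc]
  have hB3 : B ^ 3 = 1 := by
    apply ext_act
    intro v
    rw [hc, hc1, one_smul, act_one]
  have hzc : Z0 ^ 7 ∈ Subgroup.center (SU 6 F 2) := by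
    have h1 : pr 6 F 2 (Z0 ^ 7) = 1 := by rw [map_pow, hZ0, hy]
    exact (QuotientGroup.eq_one_iff (Z0 ^ 7)).1 h1
  have h21 : (Z0 ^ 7) ^ 3 = 1 := GpUn.center_pow hF (by norm_num) hzc
  set Z := Z0 ^ 15 with hZ
  have hZ7 : Z ^ 7 = 1 := by
    calc Z ^ 7 = ((Z0 ^ 7) ^ 3) ^ 5 := by rw [hZ, ← pow_mul, ← pow_mul, ← pow_mul]
      _ = 1 := by rw [h21, one_pow]
  have hZp : pr 6 F 2 Z = y := by
    have h1 : y ^ 15 = y := by
      calc y ^ 15 = (y ^ 7) ^ 2 * y := by rw [← pow_mul, ← pow_succ]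
        _ = y := by rw [hy, one_pow, one_mul]
    rw [hZ, map_pow, hZ0, h1]
  have hBZ : B * Z = Z * B := GpUn.comm_of_pr hF (by norm_num) (p := 7) (by norm_num) hZ7
    (show pr 6 F 2 B * pr 6 F 2 Z = pr 6 F 2 Z * pr 6 F 2 B by rw [hB, hZp, h])
  set M : Matrix (Fin 6) (Fin 6) F := mat B with hM
  set Mi : Matrix (Fin 6) (Fin 6) F := mat B⁻¹ with hMi
  have hMM : M * Mi = 1 := by rw [hM, hMi, ← mat_mul, mul_inv_cancel, mat_one]
  have hMM' : Mi * M = 1 := by rw [hM, hMi, ← mat_mul, inv_mul_cancel, mat_one]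
  have hc' : M * M * M = 1 := by
    rw [hM, ← mat_mul, ← mat_mul, ← pow_two, ← pow_succ, hB3, mat_one]
  have hMadj : ∀ u v, hermForm 6 F 2 u (M *ᵥ v) = hermForm 6 F 2 (Mi *ᵥ u) v := by
    intro u v
    have h1 := herm_act B (Mi *ᵥ u) v
    rw [act_def, act_def, Matrix.mulVec_mulVec, ← hM, hMM, Matrix.one_mulVec] at h1
    exact h1
  -- the eigenspaces
  let E : F → Submodule F (Fin 6 → F) := fun α =>
    { carrier := {v | M *ᵥ v = α • v}
      add_mem' := fun {a b} ha hb => by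
        have ha' : M *ᵥ a = α • a := ha
        have hb' : M *ᵥ b = α • b := hb
        show M *ᵥ (a + b) = α • (a + b)
        rw [Matrix.mulVec_add, ha', hb', smul_add]
      zero_mem' := by
        show M *ᵥ 0 = α • 0
        rw [Matrix.mulVec_zero, smul_zero]
      smul_mem' := fun r a ha => by
        have ha' : M *ᵥ a = α • a := ha
        show M *ᵥ (r • a) = α • (r • a)
        rw [Matrix.mulVec_smul, ha', smul_comm] }
  have hE : ∀ α v, v ∈ E α ↔ M *ᵥ v = α • v := fun α v => Iff.rfl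
  have hMi' : ∀ {α : F}, α ≠ 0 → ∀ {u}, u ∈ E α → Mi *ᵥ u = (α * α) • u := by
    intro α hα u hu
    have h1 : u = α • (Mi *ᵥ u) := by
      have h2 := congrArg (fun w => Mi *ᵥ w) ((hE α u).1 hu)
      simp only [Matrix.mulVec_mulVec, hMM', Matrix.one_mulVec, Matrix.mulVec_smul] at h2
      exact h2
    have h3 := pow_three hF hα
    calc Mi *ᵥ u = (α ^ 3) • (Mi *ᵥ u) := by rw [h3, one_smul]
      _ = (α * α) • (α • (Mi *ᵥ u)) := by rw [smul_smul]; congr 1; ring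
      _ = (α * α) • u := by rw [← h1]
  let pj : F → (Fin 6 → F) → (Fin 6 → F) := fun α x => x + ((α * α) • (M *ᵥ x) + α • (M *ᵥ (M *ᵥ x)))
  have hM3 : ∀ x, M *ᵥ (M *ᵥ (M *ᵥ x)) = x := by
    intro x
    rw [Matrix.mulVec_mulVec, Matrix.mulVec_mulVec, hc', Matrix.one_mulVec]
  have hpj : ∀ {α : F}, α ≠ 0 → ∀ x, pj α x ∈ E α := by
    intro α hα x
    have h3 := pow_three hF hα
    rw [hE]
    show M *ᵥ (x + ((α * α) • (M *ᵥ x) + α • (M *ᵥ (M *ᵥ x)))) = α • (x + ((α * α) • (M *ᵥ x) + α • (M *ᵥ (M *ᵥ x))))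
    rw [Matrix.mulVec_add, Matrix.mulVec_add, Matrix.mulVec_smul, Matrix.mulVec_smul, hM3, smul_add, smul_add,
      smul_smul, smul_smul]
    have h4 : α * (α * α) = 1 := by rw [← h3]; ring
    rw [h4, one_smul]
    abel
  have hND : ∀ {α : F}, α ≠ 0 → ND 2 (E α) := by
    intro α hα u hu hv
    apply herm_nondeg hF
    intro x
    have h1 := hv _ (hpj hα x)
    have h3 := pow_three hF hα
    have h4 : hermForm 6 F 2 u (M *ᵥ x) = (α * α) * hermForm 6 F 2 u x := by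
      rw [hMadj, hMi' hα hu, herm_smul_left]
    have h5 : hermForm 6 F 2 u (M *ᵥ (M *ᵥ x)) = (α * α) * ((α * α) * hermForm 6 F 2 u x) := by
      rw [hMadj, hMi' hα hu, herm_smul_left, h4]
    have h6 : hermForm 6 F 2 u (pj α x) = hermForm 6 F 2 u x +
        ((α * α) ^ 2 * ((α * α) * hermForm 6 F 2 u x) + α ^ 2 * ((α * α) * ((α * α) * hermForm 6 F 2 u x))) := by
      show hermForm 6 F 2 u (x + ((α * α) • (M *ᵥ x) + α • (M *ᵥ (M *ᵥ x)))) = _
      rw [herm_add_right hF, herm_add_right hF, herm_smul_right, herm_smul_right, h4, h5]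
    rw [h6] at h1
    have h0 : (2 : F) = 0 := CharTwo.two_eq_zero
    have h7 : α ^ 6 = 1 := by
      calc α ^ 6 = (α ^ 3) ^ 2 := by ring
        _ = 1 := by rw [h3, one_pow]
    linear_combination h1 - (hermForm 6 F 2 u x) * h0 - (2 * hermForm 6 F 2 u x) * h7
  have hdim : ∀ α : F, finrank F (E α) ≤ 5 := by
    intro α
    by_contra hlt
    push Not at hlt
    have h1 : E α = ⊤ := by
      apply Submodule.eq_top_of_finrank_eq
      have h2 := Submodule.finrank_le (E α)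
      rw [finrank_fin_fun] at h2 ⊢
      omega
    have h2 : ∀ v, act B v = α • v := fun v => (hE α v).1 (by rw [h1]; trivial)
    apply hb1
    rw [← hB]
    refine (QuotientGroup.eq_one_iff B).2 ?_
    rw [Subgroup.mem_center_iff]
    intro g
    apply ext_act
    intro v
    rw [act_mul, act_mul, h2, h2, act_smul]
  have hZM : M * mat Z = mat Z * M := by rw [hM, ← mat_mul, ← mat_mul, hBZ]
  have hZE : ∀ α : F, ∀ u ∈ E α, act Z u ∈ E α := by
    intro α u hu
    rw [hE] at hu ⊢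
    rw [act_def, Matrix.mulVec_mulVec, hZM, ← Matrix.mulVec_mulVec, hu, Matrix.mulVec_smul]
  have hfix : ∀ {α : F}, α ≠ 0 → ∀ x, act Z (pj α x) = pj α x := fun {α} hα x =>
    act_triv hF (hND hα) (hdim α) hZ7 (hZE α) (hpj hα x)
  obtain ⟨ω, hω0, hω1⟩ : ∃ ω : F, ω ≠ 0 ∧ ω ≠ 1 := by
    by_contra hcon
    push Not at hcon
    have h1 : Fintype.card F ≤ 2 := by
      classical
      rw [← Finset.card_univ]
      refine (Finset.card_le_card (t := {0, 1}) fun x _ => ?_).trans Finset.card_le_two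
      by_cases h0 : x = 0
      · simp [h0]
      · simp [hcon x h0]
    rw [hF] at h1
    norm_num at h1
  have hω : ω * ω + ω + 1 = 0 := by
    have h1 := pow_three hF hω0
    have h2 : (ω - 1) * (ω * ω + ω + 1) = 0 := by linear_combination h1
    exact (mul_eq_zero.1 h2).resolve_left (sub_ne_zero.2 hω1)
  have hω3 := pow_three hF hω0
  have hdec : ∀ x, x = pj 1 x + pj ω x + pj (ω * ω) x := by
    intro x
    have h0 : (2 : F) = 0 := CharTwo.two_eq_zero
    funext i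
    show x i = (x i + ((1 * 1) * (M *ᵥ x) i + 1 * (M *ᵥ (M *ᵥ x)) i)) +
      (x i + ((ω * ω) * (M *ᵥ x) i + ω * (M *ᵥ (M *ᵥ x)) i)) +
      (x i + ((ω * ω * (ω * ω)) * (M *ᵥ x) i + (ω * ω) * (M *ᵥ (M *ᵥ x)) i))
    linear_combination (-x i) * h0 - ((M *ᵥ x) i) * hω - ((M *ᵥ (M *ᵥ x)) i) * hω - ω * ((M *ᵥ x) i) * hω3
  have hZ1 : Z = 1 := by
    apply ext_act
    intro x
    rw [act_one]
    conv_lhs => rw [hdec x]
    rw [act_add, act_add, hfix one_ne_zero, hfix hω0, hfix (mul_ne_zero hω0 hω0), ← hdec x]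
  rw [← hZp, hZ1, map_one]

end Cfsg.Agent.H771.UnTwentyOne
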