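import Cfsg.Agent.CpAutCoTwo.Lp
import Cfsg.Agent.H771.UnTwentyOne
import Cfsg.Agent.H299.Cons

/-!
# `Co₂` has no element of order 21

* `inv_seven` : `x` of order three fixing the vector `v` of norm 32: the elements of order 7 of `C_{Stab(v)}(x)` fix
  a vector `w` of norm 32 with `(v, w) = -16` fixed by `x`;
* `no_comm` : commuting elements of orders 3 and 7 of the stabilizer of `v`;
* `co2` : the row `Co₂`.
-/

set_option autoImplicit false

namespace Cfsg.Agent.H771.RowCoTwo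

open Cfsg Cfsg.Spor Cfsg.Agent.LeechMat.Core Cfsg.Agent.MonsterX.KSide Cfsg.Agent.MonsterU.Lam2
open Cfsg.Agent.SporadicA.Co0Mono (signCo0 permCo0 permCo0_smul signCo0_smul permMap signMap signCo0_mul_self)
open Cfsg.Agent.SporadicA.Co1Simple (N exists_sign_perm perm_smul_e8 sgn_smul_e8 e8_ne_neg sqNorm_e8)
open Cfsg.Agent.SporadicStructure.Co0Base (e8 e8_coe)
open Cfsg.Agent.SigZeroCo2.Stab (mem_N_of_fix perm_of_fix perm_cube)
open Cfsg.Agent.SigZeroCo2.Rank (fix mem_fix)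
open Cfsg.Agent.SigZeroCo2.Lin (rep rep_toV toV)

open Cfsg.Agent.CpAutCoTwo.Setup Cfsg.Agent.CpAutCoTwo.Shape Cfsg.Agent.CpAutCoTwo.Gol Cfsg.Agent.CpAutCoTwo.CaseA
open Cfsg.Agent.CpAutCoTwo.Lp Cfsg.Agent.CpAutCoTwo.CaseB Subgroup

universe u

/-- a vector `w` fixed by the elements of order 7 -/
def InvSeven (v : leechLattice) (x : Co0) : Prop := ∃ w ∈ Om v x, ∀ g ∈ Hs v x, g ^ 7 = 1 → g • w = w

theorem InvSeven.of {v : leechLattice} {x : Co0} {w : leechLattice} (hw : w ∈ Om v x)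
    (h : ∀ g ∈ Hs v x, g ^ 7 = 1 → g • w = w ∨ g • w = bar v w) : InvSeven v x := by
  refine ⟨w, hw, fun g hg h7 => ?_⟩
  rcases h g hg h7 with h1 | h1
  · exact h1
  · have hv : g • v = v := (mem_Hs.1 hg).1
    have h2 : g ^ 2 • w = w := by rw [pow_two, mul_smul, h1, smul_bar hv, h1, bar_bar]
    have h4 : ∀ n : ℕ, (g ^ 2) ^ n • w = w := by
      intro n
      induction n with
      | zero => rw [pow_zero, one_smul]
      | succ n ih => rw [pow_succ, mul_smul, h2, ih]
    have h3 : (g ^ 2) ^ 4 = g := by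
      calc (g ^ 2) ^ 4 = g ^ 7 * g := by rw [← pow_mul, ← pow_succ]
        _ = g := by rw [h7, one_mul]
    have h5 := h4 4
    rwa [h3] at h5

theorem InvSeven.conj {v : leechLattice} {x : Co0} (k : Co0) (h : InvSeven (k • v) (k * x * k⁻¹)) : InvSeven v x := by
  obtain ⟨w, ⟨h1, h2, h3⟩, h4⟩ := h
  refine ⟨k⁻¹ • w, ⟨by rw [co0_sqNorm]; exact h1, ?_, ?_⟩, fun g hg h7 => ?_⟩
  · rw [← dot_co0 k, smul_inv_smul]
    exact h2
  · nth_rw 2 [← h3]
    rw [← mul_smul, ← mul_smul]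
    congr 1
    group
  · obtain ⟨h5, h6⟩ := mem_Hs.1 hg
    have h8 := h4 (k * g * k⁻¹) (by
      rw [mem_Hs]
      constructor
      · rw [← mul_smul, show k * g * k⁻¹ * k = k * g by group, mul_smul, h5]
      · calc k * g * k⁻¹ * (k * x * k⁻¹) = k * (g * x) * k⁻¹ := by group
          _ = k * (x * g) * k⁻¹ := by rw [h6]
          _ = k * x * k⁻¹ * (k * g * k⁻¹) := by group) (by
      rw [conj_pow, h7, mul_one, mul_inv_cancel])
    nth_rw 2 [← h8]
    rw [← mul_smul, ← mul_smul]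
    congr 1
    group

section

variable {σ : M24} {a b : GolayPt}

theorem inv_std (ha : (σ : Equiv.Perm GolayPt) a = a) (hb : (σ : Equiv.Perm GolayPt) b = b) (hab : a ≠ b)
    (h3 : ∀ x, (σ : Equiv.Perm GolayPt) ((σ : Equiv.Perm GolayPt) ((σ : Equiv.Perm GolayPt) x)) = x)
    (hσ1 : (σ : Equiv.Perm GolayPt) ≠ 1) : InvSeven (vz a b) (permCo0 σ) := by
  obtain ⟨A, B, S⟩ := exists_special σ.2 h3 hσ1 ha hb hab
  have h6 := card_Fx h3 σ.2 hσ1 ha
  refine InvSeven.of (wz_mem_Om S ha hb hab) fun g hg _ => ?_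
  exact eq_of_mem_Sz S ha hb hab h3 h6 (smul_Sz hg (wz_mem_Sz S ha hb hab h3))

end

/-- `x` fixes `8 e_a` and `8 e_b` -/
theorem inv_mono {x : Co0} (hx : orderOf x = 3) {a b : GolayPt} (hab : a ≠ b) (ha : x • e8 a = e8 a)
    (hb : x • e8 b = e8 b) : InvSeven (vz a b) x := by
  have h3 : x * x * x = 1 := by
    have h1 : x ^ 3 = 1 := by rw [← hx, pow_orderOf_eq_one]
    rw [pow_succ, pow_two] at h1
    exact h1
  obtain ⟨c, σ, rfl⟩ := exists_sign_perm (mem_N_of_fix ha)
  have hσa := perm_of_fix ha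
  have hσb := perm_of_fix hb
  have hc := perm_cube h3
  set s := signCo0 c with hs
  set p := permCo0 σ with hp
  have hss : s * s = 1 := signCo0_mul_self c
  have hσ3 : σ * σ * σ = 1 := by
    apply Subtype.ext
    apply Equiv.ext
    intro y
    exact hc y
  have hppp : p * p * p = 1 := by rw [hp, ← map_mul, ← map_mul, hσ3, map_one]
  have hpinv : p⁻¹ = p * p := inv_eq_of_mul_eq_one_left hppp
  have hsinv : s⁻¹ = s := inv_eq_of_mul_eq_one_left hss
  set d := p * s * p⁻¹ with hd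
  have hdinv : d⁻¹ = d := by
    rw [hd, mul_inv_rev, mul_inv_rev, inv_inv, hsinv, mul_assoc]
  have hconj : d * (s * p) * d⁻¹ = p := by
    rw [hdinv]
    have e1 : p⁻¹ * s * p⁻¹ * s * p⁻¹ * s = 1 := by
      have e2 : (s * p * (s * p) * (s * p))⁻¹ = 1 := by rw [h3, inv_one]
      rw [← e2]
      simp only [mul_inv_rev, hsinv, mul_assoc]
    have e3 : p⁻¹ * s * p⁻¹ * s * p⁻¹ = s := by
      have := eq_inv_of_mul_eq_one_left e1
      rw [this, hsinv]
    calc d * (s * p) * d = p * s * (p⁻¹ * s * (p * p) * s * p⁻¹) := by rw [hd]; group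
      _ = p * s * (p⁻¹ * s * p⁻¹ * s * p⁻¹) := by rw [← hpinv]
      _ = p := by rw [e3, mul_assoc, hss, mul_one]
  have hpe : ∀ i : GolayPt, (σ : Equiv.Perm GolayPt) i = i → p • e8 i = e8 i := by
    intro i hi
    rw [hp, perm_smul_e8, hi]
  have hde : ∀ i : GolayPt, (σ : Equiv.Perm GolayPt) i = i → (s * p) • e8 i = e8 i → d • e8 i = e8 i := by
    intro i hi h
    have h1 := hpe i hi
    have h2 : s • e8 i = e8 i := by
      rw [mul_smul, h1] at h
      exact h
    have h4 : p⁻¹ • e8 i = e8 i := by rw [inv_smul_eq_iff, h1]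
    rw [hd, mul_smul, mul_smul, h4, h2, h1]
  have hdv : d • vz a b = vz a b := fix_qv (hde a hσa ha) (hde b hσb hb) _ (Or.inl rfl)
  apply InvSeven.conj d
  rw [hdv, hconj]
  have hord : orderOf p = 3 := by
    rw [← hconj, ← hx]
    exact orderOf_injective (MulAut.conj d).toMonoidHom (MulAut.conj d).injective (s * p)
  refine inv_std hσa hσb hab hc ?_
  intro h1
  have h2 : σ = 1 := Subtype.ext h1
  rw [hp, h2, map_one, orderOf_one] at hord
  norm_num at hord

/-- case B -/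
theorem inv_caseB {v : leechLattice} {x : Co0} (hv : sqNorm (v : GolayPt → ℤ) = 32) (hx : orderOf x = 3)
    (hxv : x • v = v) (hno : ∀ u : leechLattice, sqNorm (u : GolayPt → ℤ) = 64 → x • u ≠ u) : InvSeven v x := by
  have hx3 : x * x * x = 1 := by
    have h1 : x ^ 3 = 1 := by rw [← hx, pow_orderOf_eq_one]
    rw [pow_succ, pow_two] at h1
    exact h1
  obtain ⟨w, hw⟩ := om_nonempty hv hx3 hxv
  have hQf := finite_Pr (x := x) hv
  have hfixx : ∀ g : Co0, ∀ u : leechLattice, g • u = u → toV u ∈ fix (rep g) := fun g u hu => by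
    rw [mem_fix, rep_toV, hu]
  have hQ : Nat.card (Pr v x) ≤ 5 := by
    have h1 := card_Pr_le hv hxv hno (W := fix (rep x)) (hfixx x v hxv) (fun u hu => hfixx x u hu.2.2)
    have h2 := Cfsg.Agent.CpAutCoTwo.Rank7.rank_le_six hx3 hv hxv hno
    omega
  refine InvSeven.of hw fun g hg h7 => ?_
  refine ker_cases (v := v) (x := x) (n := ⟨g, hg⟩) ?_ hw
  rw [MonoidHom.mem_ker]
  set π := MulAction.toPermHom ↥(Hs v x) (Pr v x) ⟨g, hg⟩ with hπ
  have h8 : π ^ 7 = 1 := by
    rw [hπ, ← map_pow]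
    have : (⟨g, hg⟩ : ↥(Hs v x)) ^ 7 = 1 := Subtype.ext h7
    rw [this, map_one]
  have h9 : orderOf π ∣ 120 := by
    have h10 := orderOf_dvd_natCard π
    rw [Nat.card_perm] at h10
    exact h10.trans (Nat.factorial_dvd_factorial hQ)
  have h10 : orderOf π ∣ Nat.gcd 7 120 := Nat.dvd_gcd (orderOf_dvd_of_pow_eq_one h8) h9
  exact orderOf_eq_one_iff.1 (Nat.dvd_one.1 h10)

/-- **The elements of order 7 of the centralizer fix a vector of norm 32.** -/
theorem inv_seven {v : leechLattice} {x : Co0} (hv : sqNorm (v : GolayPt → ℤ) = 32) (hx : orderOf x = 3)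
    (hxv : x • v = v) : InvSeven v x := by
  by_cases h : ∃ u : leechLattice, sqNorm (u : GolayPt → ℤ) = 64 ∧ x • u = u
  swap
  · push Not at h
    exact inv_caseB hv hx hxv h
  obtain ⟨u, hu, hxu⟩ := h
  have h3 : x * x * x = 1 := by
    have h1 : x ^ 3 = 1 := by rw [← hx, pow_orderOf_eq_one]
    rw [pow_succ, pow_two] at h1
    exact h1
  obtain ⟨w, hw1, hw2, hw3⟩ := exists_orth h3 hv hu hxu
  let a : GolayPt := none
  let b : GolayPt := some 0
  have hab : a ≠ b := by simp [a, b]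
  have hn2 : sqNorm ((qv a b 1 (-1) (by norm_num) : leechLattice) : GolayPt → ℤ) = 32 := by
    rw [norm_qv hab]; norm_num
  have hd2 : dot (vz a b) (qv a b 1 (-1) (by norm_num)) = 0 := by
    rw [dot_qv, vz, qv_coe, qv_coe, if_pos rfl, if_pos rfl, if_neg hab, if_neg hab.symm]
    norm_num
  obtain ⟨g, hg1, hg2⟩ := SporadicStructure.OrthPairs.co0_orth_pair_trans v w (vz a b) (qv a b 1 (-1) (by norm_num))
    hv hw1 (norm_vz hab) hn2 hw2 hd2
  have hg1' : g • v = vz a b := hg1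
  have hg2' : g • w = qv a b 1 (-1) (by norm_num) := hg2
  have f1 : (g * x * g⁻¹) • vz a b = vz a b := by
    rw [← hg1', ← mul_smul, show g * x * g⁻¹ * g = g * x by group, mul_smul, hxv]
  have f2 : (g * x * g⁻¹) • qv a b 1 (-1) (by norm_num) = qv a b 1 (-1) (by norm_num) := by
    rw [← hg2', ← mul_smul, show g * x * g⁻¹ * g = g * x by group, mul_smul, hw3]
  have s1 : vz a b + qv a b 1 (-1) (by norm_num) = e8 a := by
    apply Subtype.ext
    funext k
    change ((vz a b : leechLattice) : GolayPt → ℤ) k + ((qv a b 1 (-1) (by norm_num) : leechLattice) : GolayPt → ℤ) k =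
      ((e8 a : leechLattice) : GolayPt → ℤ) k
    rw [vz, qv_coe, qv_coe, e8_coe, Pi.single_apply]
    split_ifs <;> norm_num
  have s2 : vz a b - qv a b 1 (-1) (by norm_num) = e8 b := by
    apply Subtype.ext
    funext k
    change ((vz a b : leechLattice) : GolayPt → ℤ) k - ((qv a b 1 (-1) (by norm_num) : leechLattice) : GolayPt → ℤ) k =
      ((e8 b : leechLattice) : GolayPt → ℤ) k
    rw [vz, qv_coe, qv_coe, e8_coe, Pi.single_apply]
    split_ifs <;> norm_num
  apply InvSeven.conj g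
  rw [hg1']
  refine inv_mono ?_ hab ?_ ?_
  · rw [← hx]
    exact orderOf_injective (MulAut.conj g).toMonoidHom (MulAut.conj g).injective x
  · rw [← s1, co0_smul_add, f1, f2]
  · rw [← s2, Cfsg.Agent.CpAutCoTwo.Setup.smul_sub, f1, f2]

/-- **Commuting elements of orders 3 and 7 of the stabilizer of a vector of norm 32.** -/
theorem no_comm_stab {v : leechLattice} (hv : sqNorm (v : GolayPt → ℤ) = 32) {x y : Co0} (hx : orderOf x = 3)
    (hxv : x • v = v) (hy : y ^ 7 = 1) (hyv : y • v = v) (h : x * y = y * x) : y = 1 := by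
  obtain ⟨w, hw, hfix⟩ := inv_seven hv hx hxv
  have hyw : y • w = w := hfix y (mem_Hs.2 ⟨hyv, h.symm⟩) hy
  obtain ⟨F, _, _, hF⟩ := exists_field
  obtain ⟨e⟩ := S1577.result v w hv hw.1 hw.2.1 F hF
  have hxS : x ∈ MulAction.stabilizer Co0 v ⊓ MulAction.stabilizer Co0 w :=
    ⟨MulAction.mem_stabilizer_iff.2 hxv, MulAction.mem_stabilizer_iff.2 hw.2.2⟩
  have hyS : y ∈ MulAction.stabilizer Co0 v ⊓ MulAction.stabilizer Co0 w :=
    ⟨MulAction.mem_stabilizer_iff.2 hyv, MulAction.mem_stabilizer_iff.2 hyw⟩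
  have hF' : Fintype.card F = 2 ^ 2 := by rw [hF]; norm_num
  have : CharP F 2 := by
    have h1 : (2 : F) = 0 := by
      have h2 : ((Fintype.card F : ℕ) : F) = 0 := Nat.cast_card_eq_zero F
      rw [hF] at h2
      have h3 : (2 : F) * 2 = 0 := by
        have h4 : ((4 : ℕ) : F) = 2 * 2 := by norm_num
        rw [← h4]; exact h2
      exact mul_self_eq_zero.1 h3
    exact CharTwo.of_one_ne_zero_of_two_eq_zero one_ne_zero h1
  have hx3 : x ^ 3 = 1 := by rw [← hx, pow_orderOf_eq_one]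
  have h1 := Cfsg.Agent.H771.UnTwentyOne.no_comm hF' (b := e ⟨x, hxS⟩) (y := e ⟨y, hyS⟩) (by
    rw [← map_pow]
    have h4 : (⟨x, hxS⟩ : ↥(MulAction.stabilizer Co0 v ⊓ MulAction.stabilizer Co0 w)) ^ 3 = 1 := Subtype.ext hx3
    rw [h4, map_one]) (by
    intro h1
    have h2 : (⟨x, hxS⟩ : ↥(MulAction.stabilizer Co0 v ⊓ MulAction.stabilizer Co0 w)) = 1 :=
      e.injective (h1.trans (map_one e).symm)
    have h3 : x = 1 := congrArg Subtype.val h2
    rw [h3, orderOf_one] at hx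
    norm_num at hx) (by
    rw [← map_pow]
    have h4 : (⟨y, hyS⟩ : ↥(MulAction.stabilizer Co0 v ⊓ MulAction.stabilizer Co0 w)) ^ 7 = 1 := Subtype.ext hy
    rw [h4, map_one]) (by
    rw [← map_mul, ← map_mul]
    congr 1
    exact Subtype.ext h)
  have h2 : (⟨y, hyS⟩ : ↥(MulAction.stabilizer Co0 v ⊓ MulAction.stabilizer Co0 w)) = 1 :=
    e.injective (h1.trans (map_one e).symm)
  exact congrArg Subtype.val h2

/-- **`Co₂` has no element of order 21.** -/
theorem no_comm {x y : Spor.Co2} (hx : orderOf x = 3) (hy : y ^ 7 = 1) (h : x * y = y * x) : y = 1 := by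
  let e := Cfsg.Agent.Schreier.CoTwoStab.equivU
  let x' : ↥(MulAction.stabilizer Co0 Spor.leechU) := e.symm x
  let y' : ↥(MulAction.stabilizer Co0 Spor.leechU) := e.symm y
  have hx' : orderOf (x' : Co0) = 3 := by rw [Subgroup.orderOf_coe, MulEquiv.orderOf_eq, hx]
  have hy' : (y' : Co0) ^ 7 = 1 := by
    have h1 : y' ^ 7 = 1 := by rw [← map_pow, hy, map_one]
    exact congrArg Subtype.val h1
  have h1 := no_comm_stab norm_u hx' (MulAction.mem_stabilizer_iff.1 x'.2) hy' (MulAction.mem_stabilizer_iff.1 y'.2)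
    (by
      have h2 : x' * y' = y' * x' := by rw [← map_mul, ← map_mul, h]
      exact congrArg Subtype.val h2)
  have h2 : y' = 1 := Subtype.ext h1
  exact e.symm.injective (h2.trans (map_one e.symm).symm)

/-- **The row `Co₂`.** -/
theorem co2 {S : Type u} [Group S] (e : Cfsg.Spor.IsoCo2 S) {b : S} {L : Subgroup S} (h : Cfsg.Agent.H299.In S b L) : False := by
  obtain ⟨e⟩ := e
  have hfin := h.fin
  have : Fact (Nat.Prime 7) := ⟨by norm_num⟩
  obtain ⟨y, hy⟩ := exists_prime_orderOf_dvd_card' (G := ↥L) 7 (by rw [h.facts.card]; norm_num)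
  have hy7 : (y : S) ^ 7 = 1 := by
    have h1 : y ^ 7 = 1 := by rw [← hy, pow_orderOf_eq_one]
    exact congrArg Subtype.val h1
  have hbc : b * y = y * b := by
    have h1 := h.fix y y.2
    rw [MulAut.conj_apply] at h1
    exact mul_inv_eq_iff_eq_mul.1 h1
  have h1 := no_comm (x := e b) (y := e y) (by rw [MulEquiv.orderOf_eq, h.ob]) (by rw [← map_pow, hy7, map_one])
    (by rw [← map_mul, hbc, map_mul])
  have h2 : (y : S) = 1 := e.injective (h1.trans (map_one e).symm)
  have h3 : y = 1 := Subtype.ext h2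
  rw [h3, orderOf_one] at hy
  norm_num at hy

end Cfsg.Agent.H771.RowCoTwo
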