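import Cfsg.Agent.H771.MCWeight
import Cfsg.Agent.H779.MaxChain
import Cfsg.Agent.H467.MaxClassUniform

/-!
# Normal subgroups of groups of maximal class; normal subgroups of exponent `p` (helper771)
-/

set_option autoImplicit false

open scoped commutatorElement

namespace Cfsg.Agent.H771.MCP

open Cfsg.Agent.H467.MaxClass Cfsg.Agent.H797.MaxParity Subgroup

variable {P : Type*} [Group P] {p n : ℕ} {W : ℕ → Subgroup P}

/-- The normal subgroups inside `W 1`. -/
theorem normal_eq (h : MC P p n W) [hp : Fact p.Prime] {N : Subgroup P} (hN : N.Normal) (hle : N ≤ W 1) :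
    ∃ i, 1 ≤ i ∧ i ≤ n ∧ N = W i := by
  classical
  have h4 := h.four_le
  -- the largest `i` with `N ≤ W i`
  obtain ⟨i, hi1, hin, hNi, hmax⟩ : ∃ i, 1 ≤ i ∧ i ≤ n ∧ N ≤ W i ∧ (i = n ∨ ¬ N ≤ W (i + 1)) := by
    by_contra hcon
    push Not at hcon
    have key : ∀ i, 1 ≤ i → i ≤ n → N ≤ W i := by
      intro i hi
      induction i, hi using Nat.le_induction with
      | base => exact fun _ => hle
      | succ i hi ih =>
        intro hin
        exact (hcon i hi (by omega) (ih (by omega))).2
    exact (hcon n (by omega) le_rfl (key n (by omega) le_rfl)).1 rfl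
  rcases hmax with rfl | hmax
  · refine ⟨i, hi1, le_rfl, ?_⟩
    rw [h.bot] at hNi ⊢
    exact le_bot_iff.1 hNi
  have hin' : i < n := by
    rcases Nat.lt_or_ge i n with h1 | h1
    · exact h1
    · exfalso
      apply hmax
      have : W (i + 1) = W i := by rw [h.bot_of_le h1, h.bot_of_le (by omega)]
      rw [this]
      exact hNi
  obtain ⟨a, ha, ha'⟩ := SetLike.not_le_iff_exists.1 hmax
  have hup : ∀ j, i ≤ j → j < n → ∃ b ∈ N, b ∈ W j ∧ b ∉ W (j + 1) := by
    intro j hj
    induction j, hj using Nat.le_induction with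
    | base => exact fun _ => ⟨a, ha, hNi ha, ha'⟩
    | succ j hj ih =>
      intro hjn
      obtain ⟨b, hb, hb1, hb2⟩ := ih (by omega)
      obtain ⟨s, hs⟩ : ∃ s, s ∉ h.Ksub j := by
        by_contra hcon
        push Not at hcon
        exact h.Ksub_ne_top' (by omega) hjn (eq_top_iff.2 fun y _ => hcon y)
      refine ⟨⁅b, s⁆, ?_, h.comm_mem hb1, fun hc => hs ((h.mem_K_iff (by omega) hb1 hb2 s).2 hc)⟩
      have h1 : ⁅b, s⁆ = b * (s * b⁻¹ * s⁻¹) := by rw [commutatorElement_def]; group
      rw [h1]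
      exact mul_mem hb (hN.conj_mem _ (inv_mem hb) s)
  have hdown : ∀ k, k ≤ n - i → W (n - k) ≤ N := by
    intro k
    induction k with
    | zero => intro _; rw [Nat.sub_zero, h.bot]; exact bot_le
    | succ k ih =>
      intro hk w hw
      obtain ⟨b, hb, hb1, hb2⟩ := hup (n - (k + 1)) (by omega) (by omega)
      obtain ⟨m, hm⟩ := h.exists_zpow (by omega) hb1 hb2 hw
      rw [show n - (k + 1) + 1 = n - k by omega] at hm
      have h1 := mul_mem (zpow_mem hb m) (ih (by omega) hm)
      rwa [mul_inv_cancel_left] at h1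
  refine ⟨i, hi1, hin, le_antisymm hNi ?_⟩
  have := hdown (n - i) le_rfl
  rwa [show n - (n - i) = i by omega] at this

theorem chainC [Finite P] [hp : Fact p.Prime] (hG : Nat.card P = p ^ n)
    (hc : Group.nilpotencyClass P = n - 1) (hn : 4 ≤ n) : Cfsg.Agent.H779.MaxPow.Chain p n (chain P) := by
  have h1 : (twoStep P).index = p := twoStep_index hG hc hn
  have hco : IsCoatom (twoStep P) := by
    refine ⟨fun h => ?_, fun K hK => ?_⟩
    · rw [h, Subgroup.index_top] at h1
      exact hp.out.one_lt.ne h1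
    · have h2 := Subgroup.relIndex_mul_index hK.le
      rw [h1] at h2
      have h3 : K.index ∣ p := ⟨_, by rw [← h2, mul_comm]⟩
      rcases (Nat.dvd_prime hp.out).1 h3 with h4 | h4
      · exact Subgroup.index_eq_one.1 h4
      · exfalso
        rw [h4] at h2
        have h5 : (twoStep P).relIndex K = 1 := by
          apply Nat.eq_of_mul_eq_mul_right hp.out.pos
          rw [h2, one_mul]
        exact hK.not_ge (Subgroup.relIndex_eq_one.1 h5)
  have h2 : Cfsg.Agent.H779.MaxChain.gam (twoStep P) = chain P := by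
    funext i
    unfold Cfsg.Agent.H779.MaxChain.gam chain
    rfl
  rw [← h2]
  exact Cfsg.Agent.H779.MaxChain.chain_of_maxClass hG (by omega) hc hco

/-- Elements outside `W 1` are uniform in a non-exceptional group. -/
theorem unif_of_notMem [Finite P] [hp : Fact p.Prime] (h : MC P p n W)
    (hC : Cfsg.Agent.H779.MaxPow.Chain p n W) (hp3 : 3 ≤ p) (hK : h.Ksub (n - 2) = W 1) {x : P} (hx : x ∉ W 1) :
    Cfsg.Agent.H779.MaxPow.Unif n W x := by
  have h4 := h.four_le
  refine Cfsg.Agent.H779.MaxChain.unif_of_card hC (by omega) hx ?_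
  exact (h.card_centralizer_of_notMem hx (h.notMem_Ksub hp3 hx (by rw [hK]; exact hx))).le

/-- A normal subgroup of exponent `p`, properly contained in `W 1`. -/
theorem omega_le [Finite P] [hp : Fact p.Prime] (h : MC P p n W)
    (hC : Cfsg.Agent.H779.MaxPow.Chain p n W) (hp3 : 3 ≤ p) (hK : h.Ksub (n - 2) = W 1) {N : Subgroup P}
    (hN : N.Normal) (hle : N ≤ W 1) (hne : N ≠ W 1) (hexp : ∀ v ∈ N, v ^ p = 1) : N ≤ W (n - (p - 1)) := by
  have h4 := h.four_le
  obtain ⟨i, hi1, hin, rfl⟩ := normal_eq h hN hle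
  have hi2 : 2 ≤ i := by
    rcases Nat.lt_or_ge i 2 with h1 | h1
    · exfalso
      apply hne
      rw [show i = 1 by omega]
    · exact h1
  rcases Nat.lt_or_ge i (n - (p - 1)) with h1 | h1
  · exfalso
    obtain ⟨x, -, hx⟩ := h.ne_succ (i := 0) (by omega)
    have hu := unif_of_notMem h hC hp3 hK hx
    obtain ⟨y, hy, hy'⟩ := h.ne_succ (i := i) (by omega)
    apply Cfsg.Agent.H779.MaxPow.pow_not_mem hC (by omega) hu hi2 (by omega) hy hy'
    rw [hexp y hy]
    exact one_mem _
  · exact h.antitone h1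

end Cfsg.Agent.H771.MCP
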