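import Cfsg.Agent.H771.ModelUnique
import Cfsg.Agent.H802.FusEss

/-!
# Maps of a fusion system normalizing a subgroup, and the passage from local to global (helper771)
-/

set_option autoImplicit false

namespace Cfsg.Agent.H771

open Cfsg Cfsg.FusionSystem Cfsg.Agent.H802

universe u

variable {Ω : Type u} [Group Ω] {S : Subgroup Ω}

/-- `φ` (a map with source `P`) extends to a map of `F` on `P ⊔ Y` carrying `Y` into `Y`. -/
def NExt (F : FusionSystem S) (Y P : Subgroup Ω) (φ : P →* Ω) : Prop :=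
  ∃ ψ ∈ F.Hom (P ⊔ Y), (∀ (x : Ω) (hx : x ∈ P) (hx' : x ∈ P ⊔ Y), ψ ⟨x, hx'⟩ = φ ⟨x, hx⟩) ∧
    ∀ (y : Ω) (_ : y ∈ Y) (hy' : y ∈ P ⊔ Y), ψ ⟨y, hy'⟩ ∈ Y

section

variable {F : FusionSystem S} {Y : Subgroup Ω}

/-- An injective homomorphism carrying the finite subgroup `Y` into itself carries it onto itself. -/
theorem exists_preimage_of_mapsTo [Finite Y] {R : Subgroup Ω} {ψ : R →* Ω}
    (hψ : Function.Injective ψ) (hYR : Y ≤ R) (h : ∀ (y : Ω) (hy : y ∈ Y), ψ ⟨y, hYR hy⟩ ∈ Y)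
    {z : Ω} (hz : z ∈ Y) : ∃ (y : Ω) (hy : y ∈ Y), ψ ⟨y, hYR hy⟩ = z :=
  exists_preimage_of_card hψ hYR h le_rfl z hz

theorem nExt_mem {P : Subgroup Ω} {φ : P →* Ω} (h : NExt F Y P φ) : φ ∈ F.Hom P := by
  obtain ⟨ψ, hψ, h1, -⟩ := h
  exact mem_of_agree hψ le_sup_left (fun x hx => (h1 x hx _).symm)

theorem nExt_res {P R : Subgroup Ω} {φ : P →* Ω} {χ : R →* Ω} (h : NExt F Y P φ) (hR : R ≤ P)
    (he : ∀ (x : Ω) (hx : x ∈ R), χ ⟨x, hx⟩ = φ ⟨x, hR hx⟩) : NExt F Y R χ := by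
  obtain ⟨ψ, hψ, h1, h2⟩ := h
  have hle : R ⊔ Y ≤ P ⊔ Y := sup_le_sup_right hR Y
  exact ⟨_, restrict_mem hψ hle, fun x hx hx' => (h1 x (hR hx) (hle hx')).trans (he x hx).symm,
    fun y hy hy' => h2 y hy (hle hy')⟩

theorem nExt_comp {P R : Subgroup Ω} {φ : P →* Ω} {ψ : R →* Ω} {χ : P →* Ω} (h : NExt F Y P φ)
    (h' : NExt F Y R ψ) (he : ∀ x : P, ∃ hx : φ x ∈ R, χ x = ψ ⟨φ x, hx⟩) : NExt F Y P χ := by
  obtain ⟨φ', hφ', h1, h2⟩ := h
  obtain ⟨ψ', hψ', h1', h2'⟩ := h'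
  have hmem : ∀ y : (P ⊔ Y : Subgroup Ω), φ' y ∈ R ⊔ Y := by
    apply Cfsg.Agent.H759.hom_sup_mem
    · intro x hx hx'
      obtain ⟨h3, -⟩ := he ⟨x, hx⟩
      rw [h1 x hx hx']
      exact (le_sup_left : R ≤ R ⊔ Y) h3
    · intro x hx hx'
      exact (le_sup_right : Y ≤ R ⊔ Y) (h2 x hx hx')
  obtain ⟨ω, hω, hωe⟩ := exists_comp hφ' hψ' hmem
  refine ⟨ω, hω, fun x hx hx' => ?_, fun y hy hy' => ?_⟩
  · obtain ⟨h3, h4⟩ := he ⟨x, hx⟩
    rw [hωe, h4, ← h1' _ h3 ((le_sup_left : R ≤ R ⊔ Y) h3)]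
    congr 1
    exact Subtype.ext (h1 x hx hx')
  · rw [hωe]
    exact h2' _ (h2 y hy hy') _

theorem nExt_inv [Finite Y] {P R : Subgroup Ω} {φ : P →* Ω} {χ : R →* Ω} (h : NExt F Y P φ)
    (he : ∀ y : R, ∃ x : P, φ x = y ∧ χ y = x) : NExt F Y R χ := by
  obtain ⟨φ', hφ', h1, h2⟩ := h
  have hle : R ⊔ Y ≤ φ'.range := by
    refine sup_le ?_ ?_
    · intro y hy
      obtain ⟨x, hx, -⟩ := he ⟨y, hy⟩
      refine ⟨⟨x, (le_sup_left : P ≤ P ⊔ Y) x.2⟩, ?_⟩
      rw [h1 x x.2]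
      exact hx
    · intro t ht
      obtain ⟨x, hx, h3⟩ := exists_preimage_of_mapsTo (F.injective_of_mem hφ')
        (le_sup_right : Y ≤ P ⊔ Y) (fun y hy => h2 y hy _) ht
      exact ⟨_, h3⟩
  obtain ⟨ψ, hψ, h3⟩ := Cfsg.Agent.H759.exists_inv F hφ' hle
  refine ⟨ψ, hψ, fun y hy hy' => ?_, fun y hy hy' => ?_⟩
  · obtain ⟨x, hx, h4⟩ := he ⟨y, hy⟩
    have hx' : (x : Ω) ∈ P ⊔ Y := (le_sup_left : P ≤ P ⊔ Y) x.2
    have h5 : φ' ⟨x, hx'⟩ = y := (h1 x x.2 hx').trans hx
    have h6 : φ' ⟨x, hx'⟩ ∈ R ⊔ Y := by rw [h5]; exact hy'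
    have h7 := h3 _ h6
    have h8 : (⟨φ' ⟨x, hx'⟩, h6⟩ : (R ⊔ Y : Subgroup Ω)) = ⟨y, hy'⟩ := Subtype.ext h5
    rw [h8] at h7
    rw [h7, h4]
  · obtain ⟨x, hx, h4⟩ := exists_preimage_of_mapsTo (F.injective_of_mem hφ')
        (le_sup_right : Y ≤ P ⊔ Y) (fun y hy => h2 y hy _) hy
    have h6 : φ' ⟨x, (le_sup_right : Y ≤ P ⊔ Y) hx⟩ ∈ R ⊔ Y := by rw [h4]; exact hy'
    have h7 := h3 _ h6
    have h8 : (⟨φ' ⟨x, (le_sup_right : Y ≤ P ⊔ Y) hx⟩, h6⟩ : (R ⊔ Y : Subgroup Ω)) = ⟨y, hy'⟩ :=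
      Subtype.ext h4
    rw [h8] at h7
    rw [h7]
    exact hx

theorem isNormal_of_nExt [Finite Y] (hY : Y ≤ S)
    (h : ∀ (P : Subgroup Ω) (φ : P →* Ω), φ ∈ F.Hom P → NExt F Y P φ) : F.IsNormal Y := by
  refine ⟨hY, fun P φ hφ => ?_⟩
  obtain ⟨ψ, hψ, h1, h2⟩ := h P φ hφ
  refine ⟨ψ, hψ, fun x => h1 x x.2 _, ?_⟩
  ext z
  constructor
  · rintro ⟨⟨y, hy'⟩, hy, rfl⟩
    exact h2 y hy hy'
  · intro hz
    obtain ⟨y, hy, e⟩ := exists_preimage_of_mapsTo (F.injective_of_mem hψ)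
        (le_sup_right : Y ≤ P ⊔ Y) (fun y hy => h2 y hy _) hz
    exact ⟨⟨y, (le_sup_right : Y ≤ P ⊔ Y) hy⟩, hy, e⟩

theorem nExt_of_isNormal (hY : F.IsNormal Y) {P : Subgroup Ω} {φ : P →* Ω} (hφ : φ ∈ F.Hom P) :
    NExt F Y P φ := by
  obtain ⟨ψ, hψ, h1, h2⟩ := hY.2 P φ hφ
  refine ⟨ψ, hψ, fun x hx _ => h1 ⟨x, hx⟩, fun y hy hy' => ?_⟩
  have h3 : ψ ⟨y, hy'⟩ ∈ (Y.subgroupOf (P ⊔ Y)).map ψ := ⟨⟨y, hy'⟩, hy, rfl⟩
  exact (SetLike.ext_iff.1 h2 _).1 h3

/-- Conversion of `normalizerHom`. -/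
theorem mem_normalizerHom_iff {P : Subgroup Ω} {φ : P →* Ω} [Finite Y] :
    φ ∈ F.normalizerHom Y P ↔ P ≤ normalizerIn S Y ∧ (∀ x : P, φ x ∈ normalizerIn S Y) ∧
      NExt F Y P φ := by
  constructor
  · rintro ⟨h1, h2, h3, ψ, hψ, h4, h5⟩
    refine ⟨h2, h3, ψ, hψ, fun x hx _ => h4 ⟨x, hx⟩, fun y hy hy' => ?_⟩
    have h6 : ψ ⟨y, hy'⟩ ∈ (Y.subgroupOf (P ⊔ Y)).map ψ := ⟨⟨y, hy'⟩, hy, rfl⟩
    exact (SetLike.ext_iff.1 h5 _).1 h6
  · rintro ⟨h2, h3, h⟩
    have h1 := nExt_mem h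
    obtain ⟨ψ, hψ, h4, h5⟩ := h
    refine ⟨h1, h2, h3, ψ, hψ, fun x => h4 x x.2 _, ?_⟩
    ext z
    constructor
    · rintro ⟨⟨y, hy'⟩, hy, rfl⟩
      exact h5 y hy hy'
    · intro hz
      obtain ⟨y, hy, e⟩ := exists_preimage_of_mapsTo (F.injective_of_mem hψ)
          (le_sup_right : Y ≤ P ⊔ Y) (fun y hy => h5 y hy _) hz
      exact ⟨⟨y, (le_sup_right : Y ≤ P ⊔ Y) hy⟩, hy, e⟩

end

/-- **Local to global.** Let `F` be saturated over the finite `p`-group `S` and `Y₀ ≤ S`.  Suppose that to every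
fully normalized `Y ≠ 1` is attached a subgroup `V ≠ 1` of `T = N_S(Y)`, normalized by `N_S(T)`, equal to `Y₀` when
`T = S`, and such that all maps of the normalizer system of `Y` normalize `V`.  Then `Y₀` is normal in `F`. -/
theorem isNormal_of_local [Finite S] {p : ℕ} [Fact p.Prime] (hS : IsPGroup p S)
    {F : FusionSystem S} (hF : F.IsSaturated p) {Y₀ : Subgroup Ω} (hY₀ : Y₀ ≤ S)
    (h : ∀ Y : Subgroup Ω, Y ≠ ⊥ → F.IsFullyNormalized Y → ∃ V : Subgroup Ω, V ≠ ⊥ ∧
      V ≤ normalizerIn S Y ∧ normalizerIn S (normalizerIn S Y) ≤ Subgroup.normalizer (V : Set Ω) ∧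
      (normalizerIn S Y = S → V = Y₀) ∧
      ∀ (P : Subgroup Ω) (φ : P →* Ω), φ ∈ F.normalizerHom Y P → NExt F V P φ) :
    F.IsNormal Y₀ := by
  have hfY₀ : Finite Y₀ := finite_of_le hY₀
  refine isNormal_of_nExt hY₀ ?_
  refine Cfsg.Agent.H759.saturated_induction F hS hF (fun P φ => NExt F Y₀ P φ) ?_ ?_ ?_ ?_
  · intro P R φ χ _ hM hR he
    exact nExt_res hM hR (fun x hx => he ⟨x, hx⟩)
  · intro P R φ ψ χ _ _ hM hM' he
    exact nExt_comp hM hM' he
  · intro P R φ χ _ hM _ he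
    exact nExt_inv hM he
  · intro U hUa hUr IH α hα
    have hUS : U ≤ S := hUa.1
    have hUf : Finite U := finite_of_le hUS
    set n := Nat.card U with hn
    have hUn : F.IsFullyNormalized U := isFullyNormalized_of_automized_receptive hS hUa hUr
    have hαF : U.subtype.comp α.toMonoidHom ∈ F.Hom U := (mem_autGroup_iff F hUS α).1 hα
    -- the inner induction
    have claim : ∀ k : ℕ, ∀ Y : Subgroup Ω, Y ≠ ⊥ → F.IsFullyNormalized Y →
        Nat.card S - Nat.card (normalizerIn S Y) = k →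
        (normalizerIn S Y = S ∨ n < Nat.card (normalizerIn S Y)) →
        ∀ (R : Subgroup Ω) (φ : R →* Ω), φ ∈ F.normalizerHom Y R → n ≤ Nat.card R →
          NExt F Y₀ R φ := by
      intro k
      induction k using Nat.strong_induction_on with
      | _ k ih =>
      intro Y hY hYn hk hT R φ hφ hR
      obtain ⟨V, hV1, hV2, hV3, hV4, hV5⟩ := h Y hY hYn
      set T := normalizerIn S Y with hTdef
      have hTS : T ≤ S := inf_le_left
      have hφV := hV5 R φ hφ
      by_cases hTeq : T = S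
      · rw [hV4 hTeq] at hφV
        exact hφV
      · have hnT : n < Nat.card T := by
          rcases hT with h1 | h1
          · exact absurd h1 hTeq
          · exact h1
        have hRT : R ≤ T := hφ.2.1
        have hφT : ∀ x : R, φ x ∈ T := hφ.2.2.1
        have hRS : R ≤ S := hRT.trans hTS
        have hVS : V ≤ S := hV2.trans hTS
        have hfV : Finite V := finite_of_le hVS
        have hfRV : Finite (R ⊔ V : Subgroup Ω) := finite_of_le (sup_le hRS hVS)
        obtain ⟨ψ, hψ, hψ1, hψ2⟩ := hφV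
        by_cases hcard : n < Nat.card (R ⊔ V : Subgroup Ω)
        · exact nExt_res (IH _ ψ hψ hcard) le_sup_left (fun x hx => (hψ1 x hx _).symm)
        · -- `V ≤ R`
          have hRV : R = R ⊔ V := by
            refine Subgroup.eq_of_le_of_card_ge le_sup_left ?_
            exact (not_lt.1 hcard).trans hR
          have hVR : V ≤ R := by
            rw [hRV]
            exact le_sup_right
          have hφVV : ∀ (y : Ω) (hy : y ∈ V), φ ⟨y, hVR hy⟩ ∈ V := by
            intro y hy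
            have h1 : y ∈ R ⊔ V := (le_sup_right : V ≤ R ⊔ V) hy
            rw [← hψ1 y (hVR hy) h1]
            exact hψ2 y hy h1
          -- a fully normalized conjugate `V'` of `V`
          obtain ⟨V', hVV', hV'n⟩ := exists_isFullyNormalized hS hF hVS
          obtain ⟨χ₀, hχ₀, hχ₀r⟩ := hVV'
          obtain ⟨β, hβ, χ, hχ, hχe, hχN⟩ := exists_extension_normalizer hS hF hχ₀ hχ₀r hV'n
          have hNT : normalizerIn S T ≤ normalizerIn S V := fun x hx => ⟨hx.1, hV3 hx⟩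
          have hTlt : Nat.card T < Nat.card (normalizerIn S T) := by
            exact card_lt_card_normalizerIn hS hTS hTeq
          have hfNV : Finite (normalizerIn S V) := finite_of_le inf_le_left
          have hfNT : Finite (normalizerIn S T) := finite_of_le inf_le_left
          have hcNV : Nat.card T < Nat.card (normalizerIn S V) :=
            hTlt.trans_le (Subgroup.card_le_of_le hNT)
          have hTNV : T ≤ normalizerIn S V :=
            (Cfsg.Agent.H802.le_normalizerIn hTS).trans hNT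
          have hχM : NExt F Y₀ (normalizerIn S V) χ := IH _ χ hχ (hnT.trans hcNV)
          have hVN : V ≤ normalizerIn S V := Cfsg.Agent.H802.le_normalizerIn hVS
          have hχ₀m : ∀ x : V, χ₀ x ∈ V' := fun x => by rw [← hχ₀r]; exact ⟨x, rfl⟩
          have hχV : ∀ (y : Ω) (hy : y ∈ V), χ ⟨y, hVN hy⟩ ∈ V' := by
            intro y hy
            rw [hχe ⟨y, hy⟩ (hχ₀m _) (hVN hy)]
            exact (β _).2
          have hχV2 : ∀ z ∈ V', ∃ (y : Ω) (hy : y ∈ V), χ ⟨y, hVN hy⟩ = z := by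
            intro z hz
            have hfV' : Finite V' := finite_of_le hV'n.1
            refine exists_preimage_of_card (F.injective_of_mem hχ) hVN hχV ?_ z hz
            exact (isConj_card_eq ⟨χ₀, hχ₀, hχ₀r⟩).ge
          -- the inverse of `χ` on `χ(T)`
          obtain ⟨χi, hχi, hχir, hχi1, hχi2⟩ := exists_inv (F := F) (Q := χ.range) hχ rfl
          -- `R₁ = χ(R)`
          let R₁ : Subgroup Ω := (χ.comp (Subgroup.inclusion (hRT.trans hTNV))).range
          have hR₁ : R₁ ≤ χ.range := by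
            rintro _ ⟨x, rfl⟩
            exact ⟨_, rfl⟩
          have hχiR : ∀ y : R₁, (χi.comp (Subgroup.inclusion hR₁)) y ∈ R := by
            rintro ⟨_, x, rfl⟩
            have h1 := hχi1 (Subgroup.inclusion (hRT.trans hTNV) x) ⟨_, rfl⟩
            have h2 : (χi.comp (Subgroup.inclusion hR₁)) ⟨_, x, rfl⟩ = x := h1
            rw [h2]
            exact x.2
          obtain ⟨φa, hφa, hφae⟩ := exists_comp (restrict_mem hχi hR₁) hφ.1 hχiR
          have hφaT : ∀ y : R₁, φa y ∈ normalizerIn S V := fun y => by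
            rw [hφae]
            exact hTNV (hφT _)
          obtain ⟨φ₁, hφ₁, hφ₁e⟩ := exists_comp hφa hχ hφaT
          -- pointwise: `φ₁ (χ x) = χ (φ x)`
          have hφ₁x : ∀ (x : R) (hx : χ ⟨x, hTNV (hRT x.2)⟩ ∈ R₁),
              φ₁ ⟨χ ⟨x, hTNV (hRT x.2)⟩, hx⟩ = χ ⟨φ x, hTNV (hφT x)⟩ := by
            intro x hx
            rw [hφ₁e]
            congr 1
            apply Subtype.ext
            show φa _ = φ x
            rw [hφae]
            congr 1
            apply Subtype.ext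
            exact hχi1 ⟨x, hTNV (hRT x.2)⟩ _
          have hV'R₁ : V' ≤ R₁ := by
            intro z hz
            obtain ⟨y, hy, rfl⟩ := hχV2 z hz
            exact ⟨⟨y, hVR hy⟩, rfl⟩
          have hR₁S : R₁ ≤ S := hom_le hφ₁
          have hfR₁ : Finite R₁ := finite_of_le hR₁S
          have hfV' : Finite V' := finite_of_le hV'n.1
          have hφ₁n : φ₁ ∈ F.normalizerHom V' R₁ := by
            rw [mem_normalizerHom_iff]
            refine ⟨?_, ?_, ?_⟩
            · rintro _ ⟨x, rfl⟩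
              exact hχN _
            · intro y
              rw [hφ₁e]
              exact hχN _
            · have hle : R₁ ⊔ V' ≤ R₁ := sup_le le_rfl hV'R₁
              refine ⟨_, restrict_mem hφ₁ hle, fun x hx hx' => rfl, fun z hz hz' => ?_⟩
              obtain ⟨y, hy, rfl⟩ := hχV2 z hz
              have h1 := hφ₁x ⟨y, hVR hy⟩ ⟨⟨y, hVR hy⟩, rfl⟩
              have h2 : (φ₁.comp (Subgroup.inclusion hle)) ⟨χ ⟨y, hVN hy⟩, hz'⟩ =
                χ ⟨φ ⟨y, hVR hy⟩, hTNV (hφT _)⟩ := h1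
              rw [h2]
              exact hχV _ (hφVV y hy)
          have hV'ne : V' ≠ ⊥ := by
            intro h1
            apply hV1
            rw [eq_bot_iff]
            intro y hy
            have h2 := hχV y hy
            rw [h1, Subgroup.mem_bot] at h2
            have h3 : χ ⟨y, hVN hy⟩ = χ 1 := by rw [h2, map_one]
            have h4 := congrArg Subtype.val (F.injective_of_mem hχ h3)
            exact h4
          have hcard' : Nat.card T < Nat.card (normalizerIn S V') := by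
            refine hcNV.trans_le ?_
            have hfNV' : Finite (normalizerIn S V') := finite_of_le inf_le_left
            exact card_le_of_maps (F.injective_of_mem hχ) le_rfl (fun x hx => hχN _)
          have hcardS : Nat.card (normalizerIn S V') ≤ Nat.card S :=
            Subgroup.card_le_of_le inf_le_left
          have hcR₁ : n ≤ Nat.card R₁ := by
            have : Nat.card R₁ = Nat.card R := by
              have h1 := isConj_card_eq (isConj_range (restrict_mem hχ (hRT.trans hTNV)))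
              exact h1.symm
            rw [this]
            exact hR
          have hφ₁M : NExt F Y₀ R₁ φ₁ := by
            refine ih (Nat.card S - Nat.card (normalizerIn S V')) (by omega) V' hV'ne hV'n rfl
              (Or.inr (hnT.trans hcard')) R₁ φ₁ hφ₁n hcR₁
          -- `φ = χ⁻¹ φ₁ χ`
          have hχR : NExt F Y₀ R (χ.comp (Subgroup.inclusion (hRT.trans hTNV))) :=
            nExt_res hχM (hRT.trans hTNV) (fun x hx => rfl)
          have hχiM : NExt F Y₀ χ.range χi := by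
            refine nExt_inv hχM ?_
            rintro ⟨_, x, rfl⟩
            exact ⟨x, rfl, hχi1 x _⟩
          have h1 : NExt F Y₀ R (φ₁.comp ((χ.comp
              (Subgroup.inclusion (hRT.trans hTNV))).codRestrict R₁ (fun x => ⟨x, rfl⟩))) :=
            nExt_comp hχR hφ₁M (fun x => ⟨⟨x, rfl⟩, rfl⟩)
          refine nExt_comp h1 hχiM (fun x => ?_)
          have h2 : (φ₁.comp ((χ.comp (Subgroup.inclusion (hRT.trans hTNV))).codRestrict R₁
              (fun x => ⟨x, rfl⟩))) x = χ ⟨φ x, hTNV (hφT x)⟩ := hφ₁x x ⟨x, rfl⟩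
          refine ⟨by rw [h2]; exact ⟨_, rfl⟩, ?_⟩
          have h3 := hχi1 ⟨φ x, hTNV (hφT x)⟩ ⟨_, rfl⟩
          refine h3.symm.trans ?_
          congr 1
          exact Subtype.ext h2.symm
    by_cases hU1 : U = ⊥
    · -- trivial source
      have hle : U ⊔ Y₀ ≤ S := sup_le hUS hY₀
      refine ⟨_, subtype_mem F hle, fun x hx hx' => ?_, fun y hy hy' => hy⟩
      have hx1 : x = 1 := by
        rw [hU1] at hx
        exact hx
      subst hx1
      have h1 : (U.subtype.comp α.toMonoidHom) ⟨1, hx⟩ = 1 := map_one _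
      rw [h1]
      rfl
    · refine claim _ U hU1 hUn rfl ?_ U _ ?_ le_rfl
      · by_cases hUS' : U = S
        · left
          rw [hUS']
          exact inf_eq_left.2 Subgroup.le_normalizer
        · right
          exact card_lt_card_normalizerIn hS hUS hUS'
      · rw [mem_normalizerHom_iff]
        refine ⟨Cfsg.Agent.H802.le_normalizerIn hUS,
          fun x => Cfsg.Agent.H802.le_normalizerIn hUS (α x).2, ?_⟩
        have hle : U ⊔ U ≤ U := sup_le le_rfl le_rfl
        exact ⟨_, restrict_mem hαF hle, fun x hx hx' => rfl, fun y hy hy' => (α ⟨y, hy⟩).2⟩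

end Cfsg.Agent.H771
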