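import Cfsg.Agent.H771.KTools
import Cfsg.Agent.KFacts.HS.Sheet2

/-!
# `12 ≤ k(G)` for `G = HS` (helper771)
-/

set_option autoImplicit false

namespace Cfsg.Agent.H771.KHS

open Subgroup Cfsg Cfsg.Agent.H92.KTools Cfsg.Agent.H771.KTools

theorem hs {S : Type*} [Group S] (h : Spor.IsoHS S) : 12 ≤ Nat.card (ConjClasses S) := by
  have hcard := KFacts.HS.card h
  have hfin : Finite S := Nat.finite_of_card_ne_zero (by rw [hcard]; norm_num)
  obtain ⟨D⟩ := KFacts.HS.exists_mod h
  have hn : ¬ IsConj D.z D.s0 := by
    intro hc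
    have h1 := card_conj hc
    have h2 := D.card_cent_s0
    rw [D.card_centralizer] at h1
    omega
  refine le_trans (by decide) (count_two (G := S) D.zz D.z1 D.s0_sq D.s0_ne hn {3, 5} {1, 3, 4, 5, 7, 11}
    ?_ ?_ (by decide) (by decide))
  · intro p hp
    have h6 : p ∣ 360 → p ∣ Nat.card (centralizer ({D.s0} : Set S)) := fun hd => by
      rw [← D.card_B6] at hd
      exact hd.trans (Subgroup.card_dvd_of_le fun l hl => mem_centralizer_singleton_iff.2 (D.s0_comm hl))
    rw [D.card_centralizer]
    simp only [Finset.mem_insert, Finset.mem_singleton] at hp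
    rcases hp with rfl | rfl
    · exact ⟨by norm_num, by norm_num, by norm_num, h6 (by norm_num)⟩
    · exact ⟨by norm_num, by norm_num, by norm_num, h6 (by norm_num)⟩
  · have hd : ∀ p, p.Prime → p ∣ 44352000 → HasOrd S p := fun p hp hd => hasOrd_prime hp (by rwa [hcard])
    intro m hm
    simp only [Finset.mem_insert, Finset.mem_singleton] at hm
    rcases hm with rfl | rfl | rfl | rfl | rfl | rfl
    · exact hasOrd_one S
    · exact hd 3 (by norm_num) (by norm_num)
    · exact four D.uu D.zz D.z1
    · exact hd 5 (by norm_num) (by norm_num)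
    · exact hd 7 (by norm_num) (by norm_num)
    · exact hd 11 (by norm_num) (by norm_num)

end Cfsg.Agent.H771.KHS
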