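import Cfsg.Agent.H771.KTools
import Cfsg.Agent.H799.MTSyl
import Cfsg.Agent.TypeM.FactsMcL
import Cfsg.Agent.TypeM.FactsLy
import Cfsg.Agent.TypeM.FactsAut

/-!
# `12 ≤ k(G)` for `G = McL`, `Ly` (helper771)
-/

set_option autoImplicit false

namespace Cfsg.Agent.H771.KMT

open Subgroup Cfsg Cfsg.Agent.H92.KTools Cfsg.Agent.H771.KTools Cfsg.Agent.TypeM.Two

universe u v

variable {K : Type v} [Group K] {n : ℕ}

theorem four_of_mt (h4 : 4 ≤ n) (L : MT n K) : HasOrd K 4 := by
  have hne : ∀ i j : ℕ, ∀ (hi : i < n) (hj : j < n), i ≠ j → (⟨i, hi⟩ : Fin n) ≠ ⟨j, hj⟩ := by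
    intro i j hi hj hij h
    exact hij (congrArg Fin.val h)
  set a : Fin n := ⟨0, by omega⟩ with ha
  set b : Fin n := ⟨1, by omega⟩ with hb
  set c : Fin n := ⟨2, by omega⟩ with hc
  set d : Fin n := ⟨3, by omega⟩ with hd
  have hab : a ≠ b := hne _ _ _ _ (by norm_num)
  have hac : a ≠ c := hne _ _ _ _ (by norm_num)
  have had : a ≠ d := hne _ _ _ _ (by norm_num)
  have hbc : b ≠ c := hne _ _ _ _ (by norm_num)
  have hbd : b ≠ d := hne _ _ _ _ (by norm_num)
  have hcd : c ≠ d := hne _ _ _ _ (by norm_num)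
  obtain ⟨g, hg⟩ := L.K.exists_lift (σ := Equiv.swap a b * Equiv.swap c d) (by
    rw [Equiv.Perm.mem_alternatingGroup, map_mul, Equiv.Perm.sign_swap hab, Equiv.Perm.sign_swap hcd]
    norm_num)
  have h1 := L.K.dbl a b c d hab hac had hbc hbd hcd g hg
  exact four (a := (g : K)) (z := L.t) ((congrArg Subtype.val h1).trans L.hz) L.t_mul_t L.t_ne

theorem mcl {S : Type*} [Group S] (h : Spor.IsoMcL S) : 12 ≤ Nat.card (ConjClasses S) := by
  obtain ⟨hfin, -, hcard, ⟨L⟩⟩ := TypeM.FactsMcL.facts h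
  have hc : Nat.card (centralizer ({L.t} : Set S)) = Nat.factorial 8 :=
    TypeM.FactsAut.card_centralizer L (by norm_num)
  have h15 : HasOrd (centralizer ({L.t} : Set S)) 15 := by
    refine HasOrd.of_surjective ?_ (H799.MTSyl.proj L) (H799.MTSyl.proj_surj L)
    refine hasOrd_alt (x := Equiv.swap 0 1 * Equiv.swap 1 2 * (Equiv.swap 3 4 * Equiv.swap 4 5 * Equiv.swap 5 6 * Equiv.swap 6 7))
      (by decide +kernel) (by norm_num) (by decide +kernel) (by decide +kernel)
  have h30 := two_mul_of_cent L.t_mul_t L.t_ne (by decide) h15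
  refine le_trans (by decide) (orders_le (G := S) {1, 2, 3, 5, 7, 11, 4, 6, 10, 14, 15, 30} ?_)
  have hd : ∀ p, p.Prime → p ∣ 898128000 → HasOrd S p := fun p hp hd => hasOrd_prime hp (by rwa [hcard])
  have h2d : ∀ p, p.Prime → p ≠ 2 → p ∣ Nat.factorial 8 → HasOrd S (2 * p) := fun p hp hp2 hd =>
    two_mul_prime L.t_mul_t L.t_ne hp hp2 (by rwa [hc])
  intro m hm
  simp only [Finset.mem_insert, Finset.mem_singleton] at hm
  rcases hm with rfl | rfl | rfl | rfl | rfl | rfl | rfl | rfl | rfl | rfl | rfl | rfl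
  · exact hasOrd_one S
  · exact hd 2 (by norm_num) (by norm_num)
  · exact hd 3 (by norm_num) (by norm_num)
  · exact hd 5 (by norm_num) (by norm_num)
  · exact hd 7 (by norm_num) (by norm_num)
  · exact hd 11 (by norm_num) (by norm_num)
  · exact four_of_mt (by norm_num) L
  · exact h2d 3 (by norm_num) (by norm_num) (by norm_num [Nat.factorial])
  · exact h2d 5 (by norm_num) (by norm_num) (by norm_num [Nat.factorial])
  · exact h2d 7 (by norm_num) (by norm_num) (by norm_num [Nat.factorial])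
  · exact h15.of_subgroup
  · exact h30

theorem ly {S : Type*} [Group S] (h : Spor.IsoLy S) : 12 ≤ Nat.card (ConjClasses S) := by
  obtain ⟨hfin, -, hcard, ⟨L⟩⟩ := TypeM.FactsLy.facts h
  have hc : Nat.card (centralizer ({L.t} : Set S)) = Nat.factorial 11 :=
    TypeM.FactsAut.card_centralizer L (by norm_num)
  refine le_trans (by decide) (orders_le (G := S) {1, 2, 3, 5, 7, 11, 31, 37, 67, 6, 10, 14} ?_)
  have hd : ∀ p, p.Prime → p ∣ 51765179004000000 → HasOrd S p := fun p hp hd => hasOrd_prime hp (by rwa [hcard])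
  have h2d : ∀ p, p.Prime → p ≠ 2 → p ∣ Nat.factorial 11 → HasOrd S (2 * p) := fun p hp hp2 hd =>
    two_mul_prime L.t_mul_t L.t_ne hp hp2 (by rwa [hc])
  intro m hm
  simp only [Finset.mem_insert, Finset.mem_singleton] at hm
  rcases hm with rfl | rfl | rfl | rfl | rfl | rfl | rfl | rfl | rfl | rfl | rfl | rfl
  · exact hasOrd_one S
  · exact hd 2 (by norm_num) (by norm_num)
  · exact hd 3 (by norm_num) (by norm_num)
  · exact hd 5 (by norm_num) (by norm_num)
  · exact hd 7 (by norm_num) (by norm_num)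
  · exact hd 11 (by norm_num) (by norm_num)
  · exact hd 31 (by norm_num) (by norm_num)
  · exact hd 37 (by norm_num) (by norm_num)
  · exact hd 67 (by norm_num) (by norm_num)
  · exact h2d 3 (by norm_num) (by norm_num) (by norm_num [Nat.factorial])
  · exact h2d 5 (by norm_num) (by norm_num) (by norm_num [Nat.factorial])
  · exact h2d 7 (by norm_num) (by norm_num) (by norm_num [Nat.factorial])

end Cfsg.Agent.H771.KMT
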