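import Cfsg.Agent.H764.MCNorm

/-!
# Fixed points in elementary abelian sections (helper771)
-/

set_option autoImplicit false

namespace Cfsg.Agent.H771.MCP

open Finset

/-- The representation given by an additive action. -/
def repOf (p : ℕ) {A V : Type*} [Group A] [AddCommGroup V] [Module (ZMod p) V] (f : A →* AddMonoid.End V) :
    Representation (ZMod p) A V where
  toFun a := (f a).toZModLinearMap p
  map_one' := by
    rw [map_one]
    rfl
  map_mul' a b := by
    rw [map_mul]
    rfl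

theorem repOf_apply (p : ℕ) {A V : Type*} [Group A] [AddCommGroup V] [Module (ZMod p) V]
    (f : A →* AddMonoid.End V) (a : A) (v : V) : repOf p f a v = f a v := rfl

theorem fixed_add {A V : Type*} [Group A] [Finite A] [AddCommGroup V] {p : ℕ} [hp : Fact p.Prime]
    [Module (ZMod p) V] (f : A →* AddMonoid.End V) (N : Subgroup A) (s : A) (hsN : s ∈ N)
    (hsp : ∀ g : A, g⁻¹ * s ^ p * g ∈ N) (hN : ∀ g : A, g⁻¹ * s * g ∈ N → g ∈ N)
    (U : ℕ → Set V) (hU0 : ∀ v, v ∈ U 0) (hUp : ∀ v ∈ U (p - 1), v = 0)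
    (hU : ∀ i, ∀ v ∈ U i, f s v - v ∈ U (i + 1)) {v : V} (hv : ∀ n ∈ N, f n v = v) (g : A) : f g v = v := by
  have hk : (repOf p f s - 1) ^ (p - 1) = 0 := by
    have key : ∀ i : ℕ, ∀ w : V, ((repOf p f s - 1) ^ i) w ∈ U i := by
      intro i
      induction i with
      | zero => intro w; exact hU0 _
      | succ i ih =>
        intro w
        rw [pow_succ', Module.End.mul_apply]
        have h2 := hU i _ (ih w)
        rw [LinearMap.sub_apply, Module.End.one_apply, repOf_apply]
        exact h2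
    apply LinearMap.ext
    intro w
    exact hUp _ (key (p - 1) w)
  have h1 := Cfsg.Agent.H764.MC.fixed_of_killed (p := p) (repOf p f) N s hsN hsp hN hk v
    (fun n hn => by rw [repOf_apply]; exact hv n hn) g
  rw [repOf_apply] at h1
  exact h1

theorem fixed_mul {A V : Type*} [Group A] [Finite A] [CommGroup V] {p : ℕ} [hp : Fact p.Prime]
    (hexp : ∀ v : V, v ^ p = 1) (f : A →* Monoid.End V) (N : Subgroup A) (s : A) (hsN : s ∈ N)
    (hsp : ∀ g : A, g⁻¹ * s ^ p * g ∈ N) (hN : ∀ g : A, g⁻¹ * s * g ∈ N → g ∈ N)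
    (U : ℕ → Set V) (hU0 : ∀ v, v ∈ U 0) (hUp : ∀ v ∈ U (p - 1), v = 1)
    (hU : ∀ i, ∀ v ∈ U i, f s v * v⁻¹ ∈ U (i + 1)) {v : V} (hv : ∀ n ∈ N, f n v = v) (g : A) : f g v = v := by
  let _ : Module (ZMod p) (Additive V) := AddCommGroup.zmodModule (n := p) (G := Additive V) (fun v => by
    apply Additive.toMul.injective
    rw [toMul_nsmul]
    exact hexp _)
  let f' : A →* AddMonoid.End (Additive V) :=
    { toFun := fun α => MonoidHom.toAdditive (f α)
      map_one' := by rw [map_one]; rfl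
      map_mul' := fun a b => by rw [map_mul]; rfl }
  have h1 := fixed_add f' N s hsN hsp hN (fun i => {v | Additive.toMul v ∈ U i}) (fun v => hU0 _)
    (fun v hv => Additive.toMul.injective (hUp _ hv)) (fun i v hv => by
      have h2 : f s (Additive.toMul v) * (Additive.toMul v)⁻¹ ∈ U (i + 1) := hU i _ hv
      rw [← div_eq_mul_inv] at h2
      exact h2) (v := Additive.ofMul v) (fun n hn => by
      exact congrArg Additive.ofMul (hv n hn)) g
  exact Additive.ofMul.injective h1

/-- If `N` fixes `v`, and the norm of `s` kills `V`, then the whole group fixes `v`. -/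
theorem fixed_abs {X : Type*} [Group X] {p : ℕ} [hp : Fact p.Prime] (A : Subgroup (MulAut X)) [Finite A]
    (V : Subgroup X) (hcomm : ∀ a ∈ V, ∀ b ∈ V, a * b = b * a) (hexp : ∀ a ∈ V, a ^ p = 1)
    (hinv : ∀ α ∈ A, ∀ v ∈ V, α v ∈ V) (N : Subgroup A) (s : A) (hsN : s ∈ N)
    (hsp : ∀ g : A, g⁻¹ * s ^ p * g ∈ N) (hN : ∀ g : A, g⁻¹ * s * g ∈ N → g ∈ N)
    (U : ℕ → Subgroup X) (hU0 : V ≤ U 0) (hUp : U (p - 1) = ⊥)
    (hU : ∀ i, ∀ v ∈ U i, (s : MulAut X) v * v⁻¹ ∈ U (i + 1)) {v : X} (hvV : v ∈ V)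
    (hv : ∀ n ∈ N, (n : MulAut X) v = v) : ∀ g ∈ A, g v = v := by
  let _ : CommGroup V := { (inferInstance : Group V) with
    mul_comm := fun a b => Subtype.ext (hcomm a a.2 b b.2) }
  let f : A →* Monoid.End V :=
    { toFun := fun α =>
        { toFun := fun v => ⟨(α : MulAut X) v, hinv α α.2 v v.2⟩
          map_one' := Subtype.ext (map_one _)
          map_mul' := fun a b => Subtype.ext (map_mul _ _ _) }
      map_one' := rfl
      map_mul' := fun a b => rfl }
  have hf : ∀ (α : A) (v : V), ((f α v : V) : X) = (α : MulAut X) v := fun α v => rfl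
  intro g hg
  have h1 := fixed_mul (V := V) (fun v => Subtype.ext (hexp _ v.2)) f N s hsN hsp hN (fun i => {v | (v : X) ∈ U i})
    (fun v => hU0 v.2) (fun v hv => by
      have h2 : (v : X) ∈ U (p - 1) := hv
      rw [hUp, Subgroup.mem_bot] at h2
      exact Subtype.ext h2) (fun i v hv => hU i _ hv) (v := ⟨v, hvV⟩) (fun n hn => Subtype.ext (hv n hn)) ⟨g, hg⟩
  exact congrArg (fun z : V => (z : X)) h1

end Cfsg.Agent.H771.MCP
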