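import Cfsg.Agent.H797.MaxParity

/-!
# Automorphisms of `p`-groups of maximal class whose two-step centralizer is not abelian (helper771)

Let `σ` act on `W 0 / W 1` by `l` and on `W (n - 1)` by `k`. If `W 1` is not abelian and centralizes
`W (n - 2)` then `k = l ^ M` for an exponent `M` not depending on `σ`.
-/

set_option autoImplicit false

open scoped commutatorElement

namespace Cfsg.Agent.H771.MCP

open Cfsg.Agent.H467.MaxClass Cfsg.Agent.H797.MaxParity Subgroup

variable {P : Type*} [Group P] {p n : ℕ} {W : ℕ → Subgroup P}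

theorem eig_ne_zero (h : MC P p n W) [hp : Fact p.Prime] [Finite P] {σ : P →* P}
    (hσ : Function.Surjective σ) {i : ℕ} (hi : i < n) {k : ℤ} (hk : Eig W σ i k) : (k : ZMod p) ≠ 0 := by
  intro h0
  obtain ⟨x, hx, hx'⟩ := h.ne_succ hi
  rw [ZMod.intCast_zmod_eq_zero_iff_dvd] at h0
  obtain ⟨r, rfl⟩ := h0
  have hpx : x ^ p ∈ W (i + 1) := by
    have hn := h.normal (i + 1)
    have h4 := Subgroup.pow_relIndex_mem (H := W (i + 1)) (K := W i) hx
    rw [h.relIndex i hi] at h4
    exact h4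
  have h1 := hk x hx
  rw [zpow_mul, zpow_natCast] at h1
  have h2 := mul_mem (zpow_mem hpx r) h1
  rw [mul_inv_cancel_left] at h2
  have hinj : Function.Injective σ := Finite.injective_iff_surjective.2 hσ
  have hmap : (W (i + 1)).map σ = W (i + 1) := by
    refine Subgroup.eq_of_le_of_card_ge ?_ ?_
    · rintro _ ⟨y, hy, rfl⟩
      exact map_mem h σ hσ (i + 1) hy
    · rw [Nat.card_congr ((W (i + 1)).equivMapOfInjective σ hinj).symm.toEquiv]
  rw [← hmap] at h2
  obtain ⟨y, hy, hyx⟩ := h2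
  rw [hinj hyx] at hy
  exact hx' hy

/-- The chain of eigenvalues in the non-exceptional case. -/
theorem eig_all (h : MC P p n W) [hp : Fact p.Prime] [Finite P] (hp3 : 3 ≤ p)
    (hK : h.Ksub (n - 2) = W 1) {σ : P →* P}
    (hσ : Function.Surjective σ) {l k : ℤ} (hl : Eig W σ 0 l) (hk : Eig W σ 1 k) (j : ℕ)
    (hj : j + 2 ≤ n) : Eig W σ (j + 1) (k * l ^ j) := by
  have h4 := h.four_le
  rcases Nat.lt_or_ge n (j + 3) with h1 | h1
  · obtain ⟨i, rfl⟩ : ∃ i, j = i + 1 := ⟨j - 1, by omega⟩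
    have h2 := eig_chain h hp3 hσ hl hk i (by omega)
    have h3 := eig_comm h hσ (i := i + 1) (by omega) (by omega) h2 (l := l) (by
      intro y
      have e : i + 1 = n - 2 := by omega
      rw [e, hK]
      exact hl y (by rw [h.zero]; trivial))
    rw [pow_succ, ← mul_assoc]
    exact h3
  · exact eig_chain h hp3 hσ hl hk j (by omega)

theorem comm_core {Q : Type*} [Group Q] {x y u v : Q} (h1 : Commute u y) (h2 : Commute u v) (h3 : Commute v x) :
    ⁅x * u, y * v⁆ = ⁅x, y⁆ := by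
  simp only [commutatorElement_def, mul_inv_rev]
  have e1 : u * (y * v) * u⁻¹ = y * v := by
    rw [(h1.mul_right h2).eq, mul_inv_cancel_right]
  have e2 : v * x⁻¹ * v⁻¹ = x⁻¹ := by
    rw [h3.inv_right.eq, mul_inv_cancel_right]
  calc x * u * (y * v) * (u⁻¹ * x⁻¹) * (v⁻¹ * y⁻¹) = x * (u * (y * v) * u⁻¹) * x⁻¹ * v⁻¹ * y⁻¹ := by group
    _ = x * y * (v * x⁻¹ * v⁻¹) * y⁻¹ := by rw [e1]; group
    _ = x * y * x⁻¹ * y⁻¹ := by rw [e2]

/-- **The weight on the centre is a power of the weight on `W 0 / W 1`.** -/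
theorem exists_exponent (h : MC P p n W) [hp : Fact p.Prime] [Finite P] (hp3 : 3 ≤ p)
    (hK : h.Ksub (n - 2) = W 1) (hna : ∃ a ∈ W 1, ∃ b ∈ W 1, a * b ≠ b * a) :
    ∃ M : ℕ, ∀ σ : P →* P, Function.Surjective σ → ∀ l k : ℤ, Eig W σ 0 l → Eig W σ (n - 1) k →
      (k : ZMod p) = (l : ZMod p) ^ M := by
  classical
  have h4 := h.four_le
  have hex : ∃ D : ℕ, ∃ i j : ℕ, 1 ≤ i ∧ 1 ≤ j ∧ ¬ ⁅W i, W j⁆ ≤ W (i + j + D + 1) := by
    refine ⟨n, 1, 1, le_rfl, le_rfl, fun hle => ?_⟩
    obtain ⟨a, ha, b, hb, hab⟩ := hna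
    apply hab
    have h1 := hle (Subgroup.commutator_mem_commutator ha hb)
    rw [h.bot_of_le (by omega), Subgroup.mem_bot, commutatorElement_eq_one_iff_mul_comm] at h1
    exact h1
  set D := Nat.find hex with hD
  obtain ⟨i, j, hi, hj, hij⟩ := Nat.find_spec hex
  have hall : ∀ i' j' : ℕ, 1 ≤ i' → 1 ≤ j' → ⁅W i', W j'⁆ ≤ W (i' + j' + D) := by
    intro i' j' hi' hj'
    rcases Nat.eq_zero_or_pos D with h0 | h0
    · rw [h0, add_zero]
      exact h.comm_comm j' i'
    · have h1 := Nat.find_min hex (m := D - 1) (by omega)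
      push Not at h1
      have h2 := h1 i' j' hi' hj'
      rwa [show i' + j' + (D - 1) + 1 = i' + j' + D by omega] at h2
  rw [← hD] at hij
  set m := i + j + D with hm
  have hmn : m < n := by
    by_contra hcon
    apply hij
    refine (hall i j hi hj).trans ?_
    rw [← hm, h.bot_of_le (by omega)]
    exact bot_le
  obtain ⟨a, ha, b, hb, hab⟩ : ∃ a ∈ W i, ∃ b ∈ W j, ⁅a, b⁆ ∉ W (m + 1) := by
    by_contra hcon
    push Not at hcon
    exact hij (Subgroup.commutator_le.2 hcon)
  refine ⟨D + 1 + (n - 2), fun σ hσ l k hl hk => ?_⟩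
  obtain ⟨c, hc⟩ := eig_exists h hσ (i := 1) (by omega)
  have hl0 := eig_ne_zero h hσ (by omega) hl
  have hc0 := eig_ne_zero h hσ (by omega) hc
  have hw := eig_all h hp3 hK hσ hl hc
  have hwi : Eig W σ i (c * l ^ (i - 1)) := by
    have := hw (i - 1) (by omega)
    rwa [show i - 1 + 1 = i by omega] at this
  have hwj : Eig W σ j (c * l ^ (j - 1)) := by
    have := hw (j - 1) (by omega)
    rwa [show j - 1 + 1 = j by omega] at this
  have hwm : Eig W σ m (c * l ^ (m - 1)) := by
    have := hw (m - 1) (by omega)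
    rwa [show m - 1 + 1 = m by omega] at this
  have hn := h.normal (m + 1)
  have habm : ⁅a, b⁆ ∈ W m := hall i j hi hj (Subgroup.commutator_mem_commutator ha hb)
  have key : Eig W σ m (c * l ^ (i - 1) * (c * l ^ (j - 1))) := by
    apply eig_of_mem h hσ hmn habm hab
    set q : P →* P ⧸ W (m + 1) := QuotientGroup.mk' _ with hq
    have hker : ∀ g, g ∈ W (m + 1) ↔ q g = 1 := by
      intro g
      rw [hq, QuotientGroup.mk'_apply, QuotientGroup.eq_one_iff]
    have hcom : ∀ x y : P, ⁅x, y⁆ ∈ W (m + 1) → Commute (q x) (q y) := by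
      intro x y hxy
      rw [← commutatorElement_eq_one_iff_commute, ← map_commutatorElement, ← hker]
      exact hxy
    set α := c * l ^ (i - 1)
    set β := c * l ^ (j - 1)
    obtain ⟨u, hu, e1⟩ : ∃ u ∈ W (i + 1), σ a = a ^ α * u := ⟨_, hwi a ha, by group⟩
    obtain ⟨v, hv, e2⟩ : ∃ v ∈ W (j + 1), σ b = b ^ β * v := ⟨_, hwj b hb, by group⟩
    have c1 : ∀ x ∈ W j, Commute (q u) (q x) := fun x hx => hcom _ _ (by
      have := hall (i + 1) j (by omega) hj (Subgroup.commutator_mem_commutator hu hx)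
      rwa [show i + 1 + j + D = m + 1 by omega] at this)
    have c2 : ∀ x ∈ W i, Commute (q x) (q v) := fun x hx => hcom _ _ (by
      have := hall i (j + 1) hi (by omega) (Subgroup.commutator_mem_commutator hx hv)
      rwa [show i + (j + 1) + D = m + 1 by omega] at this)
    rw [hker, map_mul, map_inv, inv_mul_eq_one, map_commutatorElement σ, e1, e2, map_commutatorElement q,
      map_mul, map_mul, map_zpow, map_zpow, map_zpow, comm_core, comm_zpow, map_commutatorElement]
    · intro z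
      obtain ⟨z, rfl⟩ := QuotientGroup.mk'_surjective (W (m + 1)) z
      rw [← map_commutatorElement]
      exact hcom _ _ (h.comm_mem habm)
    · rw [← map_zpow]
      exact c1 _ (zpow_mem hb _)
    · exact c1 _ (h.le_succ j hv)
    · rw [← map_zpow]
      exact (c2 _ (zpow_mem ha _)).symm
  have e1 := eig_unique h hmn key hwm
  have e2 : (c : ZMod p) = (l : ZMod p) ^ (D + 1) := by
    push_cast at e1
    have e3 : (l : ZMod p) ^ (m - 1) = (l : ZMod p) ^ (i - 1) * (l : ZMod p) ^ (j - 1) * (l : ZMod p) ^ (D + 1) := by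
      rw [← pow_add, ← pow_add]
      congr 1
      omega
    rw [e3] at e1
    have h5 : (c : ZMod p) * (l : ZMod p) ^ (i - 1) * (l : ZMod p) ^ (j - 1) ≠ 0 :=
      mul_ne_zero (mul_ne_zero hc0 (pow_ne_zero _ hl0)) (pow_ne_zero _ hl0)
    apply mul_left_cancel₀ h5
    linear_combination e1
  have e3 := hw (n - 2) (by omega)
  rw [show n - 2 + 1 = n - 1 by omega] at e3
  have e4 := eig_unique h (by omega) hk e3
  rw [e4]
  push_cast
  rw [e2, ← pow_add]

end Cfsg.Agent.H771.MCP
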