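import Cfsg.Agent.H771.RVTarget

/-!
# Centric subgroups of the extraspecial group of order `p³` (helper771)

* `cent_cases` : a self-centralizing `Q ≤ S` is `S` or a line;
* `map_line` : automorphisms in `Aut_F(S)` permute the radical lines.
-/

set_option autoImplicit false

namespace Cfsg.Agent.H771.RV

open Cfsg Cfsg.FusionSystem Cfsg.Agent.H275.Heis Cfsg.Agent.H773.Rv Subgroup Cfsg.Agent.H802

variable {p : ℕ} [hp : Fact p.Prime] {Ω : Type*} [Group Ω] {S : Subgroup Ω} (D : HData p S)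

theorem inZ_iff (x : S) : InZ S (x : Ω) ↔ D.pi x = 0 := by
  rw [D.pi_eq_zero_iff, Subgroup.mem_center_iff]
  constructor
  · intro h s
    exact Subtype.ext (h s s.2)
  · intro h s hs
    exact congrArg Subtype.val (h ⟨s, hs⟩)

/-- a subgroup containing the centre is determined by its image -/
theorem mem_of_pi {Q : Subgroup Ω} (hZ : centralizerIn S Q ≤ Q) (hQ : Q ≤ S) {x y : S} (hy : (y : Ω) ∈ Q)
    (h : D.pi x = D.pi y) : (x : Ω) ∈ Q := by
  have h1 : D.pi (x * y⁻¹) = 0 := by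
    have h2 : D.pi (x * y⁻¹ * y) = D.pi (x * y⁻¹) + D.pi y := D.pi_mul _ _
    rw [inv_mul_cancel_right, h] at h2
    exact (right_eq_add.1 h2)
  have h2 := (inZ_iff D _).2 h1
  have h3 : ((x * y⁻¹ : S) : Ω) ∈ Q := by
    apply hZ
    exact ⟨(x * y⁻¹).2, Subgroup.mem_centralizer_iff.2 fun q hq => h2 q (hQ hq)⟩
  have h4 : (x : Ω) = ((x * y⁻¹ : S) : Ω) * y := by
    rw [Subgroup.coe_mul, Subgroup.coe_inv, inv_mul_cancel_right]
  rw [h4]
  exact Q.mul_mem h3 hy

/-- the image of a subgroup in `S/Z(S)` -/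
noncomputable def img (Q : Subgroup Ω) : Submodule (ZMod p) (Fin 2 → ZMod p) where
  carrier := {v | ∃ x : S, (x : Ω) ∈ Q ∧ D.pi x = v}
  add_mem' := by
    rintro _ _ ⟨x, hx, rfl⟩ ⟨y, hy, rfl⟩
    exact ⟨x * y, Q.mul_mem hx hy, D.pi_mul x y⟩
  zero_mem' := ⟨1, Q.one_mem, D.pi_one⟩
  smul_mem' := by
    rintro c _ ⟨x, hx, rfl⟩
    exact ⟨pw x c, Q.pow_mem hx _, D.pi_pw x c⟩

theorem lineOf_img {Q : Subgroup Ω} (hZ : centralizerIn S Q ≤ Q) (hQ : Q ≤ S) : lineOf D (img D Q) = Q := by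
  ext x
  rw [mem_lineOf]
  constructor
  · rintro ⟨h, y, hy, hxy⟩
    exact mem_of_pi D hZ hQ (x := ⟨x, h⟩) hy hxy.symm
  · intro hx
    exact ⟨hQ hx, ⟨x, hQ hx⟩, hx, rfl⟩

theorem lineOf_top : lineOf D ⊤ = S := by
  ext x
  rw [mem_lineOf]
  exact ⟨fun h => h.1, fun h => ⟨h, trivial⟩⟩

/-- **A self-centralizing subgroup is `S` or a line.** -/
theorem cent_cases {Q : Subgroup Ω} (hQ : Q ≤ S) (hZ : centralizerIn S Q ≤ Q) :
    Q = S ∨ ∃ l : Submodule (ZMod p) (Fin 2 → ZMod p), Module.finrank (ZMod p) l = 1 ∧ Q = lineOf D l := by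
  have h1 := lineOf_img D hZ hQ
  have h2 : Module.finrank (ZMod p) (img D Q) ≤ 2 := by
    have := Submodule.finrank_le (img D Q)
    rwa [Module.finrank_fin_fun] at this
  interval_cases h3 : Module.finrank (ZMod p) (img D Q)
  · exfalso
    rw [Submodule.finrank_eq_zero] at h3
    have h4 : ∀ x : Ω, x ∈ Q → InZ S x := by
      intro x hx
      rw [← h1] at hx
      obtain ⟨hxS, hx⟩ := hx
      rw [h3, Submodule.mem_bot] at hx
      exact (inZ_iff D ⟨x, hxS⟩).2 hx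
    have h5 : (D.x0 : Ω) ∈ Q := by
      apply hZ
      exact ⟨D.x0.2, Subgroup.mem_centralizer_iff.2 fun q hq => ((h4 q hq) _ D.x0.2).symm⟩
    have h6 := (inZ_iff D D.x0).1 (h4 _ h5)
    rw [D.pi_x0] at h6
    exact one_ne_zero (congrFun h6 0)
  · exact Or.inr ⟨_, h3, h1.symm⟩
  · left
    have h4 : img D Q = ⊤ := by
      apply Submodule.eq_top_of_finrank_eq
      rw [h3, Module.finrank_fin_fun]
    rw [← h1, h4, lineOf_top]

theorem exists_span {l : Submodule (ZMod p) (Fin 2 → ZMod p)} (hl : Module.finrank (ZMod p) l = 1) :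
    ∃ v : Fin 2 → ZMod p, v ≠ 0 ∧ l = Submodule.span (ZMod p) {v} := by
  have h1 : l ≠ ⊥ := by
    rintro rfl
    rw [finrank_bot] at hl
    exact zero_ne_one hl
  obtain ⟨v, hv, hv0⟩ := Submodule.exists_mem_ne_zero_of_ne_bot h1
  exact ⟨v, hv0, line_eq hl hv hv0 (c := 1) (one_smul _ v).symm⟩

/-- a line is self-centralizing -/
theorem centralizerIn_lineOf {l : Submodule (ZMod p) (Fin 2 → ZMod p)} (hl : Module.finrank (ZMod p) l = 1) :
    centralizerIn S (lineOf D l) ≤ lineOf D l := by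
  obtain ⟨v, hv, rfl⟩ := exists_span hl
  rintro x ⟨hxS, hx0⟩
  have hx := Subgroup.mem_centralizer_iff.1 hx0
  refine ⟨hxS, ?_⟩
  obtain ⟨s, hs⟩ : ∃ s, D.pi s = v := ⟨_, D.pi_lift v⟩
  have h1 := hx (s : Ω) ⟨s.2, by rw [Subtype.coe_eta, hs]; exact Submodule.mem_span_singleton_self v⟩
  have h2 : D.c s ⟨x, hxS⟩ = 0 := D.c_eq_zero_iff.2 (Subtype.ext h1)
  rw [D.c_eq_det, hs] at h2
  rw [Submodule.mem_span_singleton]
  set w := D.pi ⟨x, hxS⟩ with hw
  by_cases h0 : v 0 = 0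
  · have hv1 : v 1 ≠ 0 := by
      intro h
      apply hv
      ext i
      fin_cases i
      · exact h0
      · exact h
    refine ⟨w 1 / v 1, ?_⟩
    rw [h0, zero_mul, zero_sub, neg_eq_zero, mul_eq_zero, or_iff_right hv1] at h2
    ext i
    fin_cases i
    · simp [h0, h2]
    · simp [div_mul_cancel₀ _ hv1]
  · refine ⟨w 0 / v 0, ?_⟩
    ext i
    fin_cases i
    · simp [div_mul_cancel₀ _ h0]
    · show w 0 / v 0 * v 1 = w 1
      field_simp
      linear_combination -h2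

theorem lineOf_le (l : Submodule (ZMod p) (Fin 2 → ZMod p)) : lineOf D l ≤ S := fun _ h => h.1

/-- the image of a line under an automorphism of `S` -/
theorem mem_lineOf_map (α : MulAut S) (l : Submodule (ZMod p) (Fin 2 → ZMod p)) (x : S) :
    ((α x : S) : Ω) ∈ lineOf D (l.map (Matrix.mulVecLin (D.rep α : Matrix (Fin 2) (Fin 2) (ZMod p)))) ↔
      (x : Ω) ∈ lineOf D l := by
  constructor
  · rintro ⟨h0, v, hv, hvx⟩
    refine ⟨x.2, ?_⟩
    rw [Subtype.coe_eta] at hvx ⊢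
    rw [Matrix.mulVecLin_apply, ← D.rep_mulVec] at hvx
    have h1 : v = D.pi x := by
      have h2 := congrArg (fun w => Matrix.mulVec ((D.rep α)⁻¹ : GL (Fin 2) (ZMod p)).1 w) hvx
      simp only [Matrix.mulVec_mulVec] at h2
      have h3 : ((D.rep α)⁻¹ : GL (Fin 2) (ZMod p)).1 * (D.rep α : Matrix (Fin 2) (Fin 2) (ZMod p)) = 1 := by
        rw [← Units.val_mul, inv_mul_cancel, Units.val_one]
      rw [h3, Matrix.one_mulVec, Matrix.one_mulVec] at h2
      exact h2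
    rw [← h1]; exact hv
  · rintro ⟨h0, h⟩
    refine ⟨(α x).2, D.pi x, h, ?_⟩
    rw [Matrix.mulVecLin_apply, D.rep_mulVec]

variable {F : FusionSystem S}

theorem inZ_aut (α : MulAut S) (x : S) : InZ S ((α x : S) : Ω) ↔ InZ S (x : Ω) := by
  constructor
  · intro h s hs
    have h3 := h (α ⟨s, hs⟩ : S) (α ⟨s, hs⟩).2
    have h4 : α ⟨s, hs⟩ * α x = α x * α ⟨s, hs⟩ := Subtype.ext h3
    rw [← map_mul, ← map_mul] at h4
    exact congrArg Subtype.val (α.injective h4)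
  · intro h s hs
    have h3 : α.symm ⟨s, hs⟩ * x = x * α.symm ⟨s, hs⟩ := Subtype.ext (h _ (α.symm ⟨s, hs⟩).2)
    have h4 := congrArg α h3
    rw [map_mul, map_mul, MulEquiv.apply_symm_apply] at h4
    exact congrArg Subtype.val h4

/-- radical subgroups are permuted by `Aut_F(S)` -/
theorem rad_map {V V' : Subgroup Ω} (hV : V ≤ S) {α : MulAut S} (hα : α ∈ F.autGroup S)
    (hVV : ∀ x : S, ((α x : S) : Ω) ∈ V' ↔ (x : Ω) ∈ V) (hV' : V' ≤ S) (h : Rad F V) : Rad F V' := by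
  obtain ⟨β, hβ, y, hy, hyn⟩ := h
  let f : V →* Ω := S.subtype.comp (α.toMonoidHom.comp (Subgroup.inclusion hV))
  have hf : f ∈ F.Hom V := aut_restrict_mem le_rfl hα hV (fun x hx => rfl)
  have hfr : f.range = V' := by
    ext z
    constructor
    · rintro ⟨x, rfl⟩
      exact (hVV ⟨x, hV x.2⟩).2 x.2
    · intro hz
      have h1 : ((α (α.symm ⟨z, hV' hz⟩) : S) : Ω) = z := by rw [MulEquiv.apply_symm_apply]
      have h2 : ((α.symm ⟨z, hV' hz⟩ : S) : Ω) ∈ V := by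
        rw [← hVV, h1]; exact hz
      exact ⟨⟨_, h2⟩, h1⟩
  refine ⟨MulAut.congr (isoOf f (F.injective_of_mem hf) hfr) β, congr_mem_autGroup hf hfr hβ,
    isoOf f (F.injective_of_mem hf) hfr y, (inZ_aut α ⟨y, hV y.2⟩).2 hy, ?_⟩
  have h1 : (MulAut.congr (isoOf f (F.injective_of_mem hf) hfr) β) (isoOf f (F.injective_of_mem hf) hfr y) =
      isoOf f (F.injective_of_mem hf) hfr (β y) := by
    show isoOf f (F.injective_of_mem hf) hfr (β ((isoOf f (F.injective_of_mem hf) hfr).symm _)) = _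
    rw [MulEquiv.symm_apply_apply]
  rw [h1]
  intro hc
  exact hyn ((inZ_aut α ⟨(β y : V), hV (β y).2⟩).1 hc)

/-- **`Aut_F(S)` permutes the radical lines.** -/
theorem map_line {α : MulAut S} (hα : α ∈ F.autGroup S) {l : Submodule (ZMod p) (Fin 2 → ZMod p)}
    (h : Rad F (lineOf D l)) :
    Rad F (lineOf D (l.map (Matrix.mulVecLin (D.rep α : Matrix (Fin 2) (Fin 2) (ZMod p))))) :=
  rad_map (lineOf_le D l) hα (mem_lineOf_map D α l) (lineOf_le D _) h

theorem finrank_map (α : MulAut S) {l : Submodule (ZMod p) (Fin 2 → ZMod p)} (hl : Module.finrank (ZMod p) l = 1) :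
    Module.finrank (ZMod p) (l.map (Matrix.mulVecLin (D.rep α : Matrix (Fin 2) (Fin 2) (ZMod p)))) = 1 := by
  rw [← hl]
  have hinj : Function.Injective (Matrix.mulVecLin (D.rep α : Matrix (Fin 2) (Fin 2) (ZMod p))) := by
    intro v w h
    have h2 := congrArg (fun w => Matrix.mulVec ((D.rep α)⁻¹ : GL (Fin 2) (ZMod p)).1 w) h
    simp only [Matrix.mulVecLin_apply, Matrix.mulVec_mulVec] at h2
    have h3 : ((D.rep α)⁻¹ : GL (Fin 2) (ZMod p)).1 * (D.rep α : Matrix (Fin 2) (Fin 2) (ZMod p)) = 1 := by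
      rw [← Units.val_mul, inv_mul_cancel, Units.val_one]
    rwa [h3, Matrix.one_mulVec, Matrix.one_mulVec] at h2
  exact (Submodule.equivMapOfInjective _ hinj l).finrank_eq.symm

end Cfsg.Agent.H771.RV
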