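import Cfsg.Agent.H771.RVHeis

/-!
# Ruiz–Viruel systems with two radical lines: the group (helper771)

`exists_group`
-/

set_option autoImplicit false

namespace Cfsg.Agent.H771.RV

open Cfsg.Agent.H780

variable {p : ℕ} [hp : Fact p.Prime] {S : Type*} [Group S] (H : HeisCoord S (ZMod p))

/-- the embedding of `S` in `SL₃(p)` -/
def i0 : S →* L p where
  toFun s := um (H.a s) (H.b s) (H.c s)
  map_one' := by
    have hc : H.c 1 = 0 := by
      have := H.c_mul 1 1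
      rw [mul_one, H.a_one, zero_mul, add_zero] at this
      simpa using this
    rw [H.a_one, H.b_one, hc]
    apply Subtype.ext
    rw [um_coe]
    ext i j
    fin_cases i <;> fin_cases j <;> simp
  map_mul' s t := by rw [um_mul, H.a_mul, H.b_mul, H.c_mul]

theorem i0_apply (s : S) : i0 H s = um (H.a s) (H.b s) (H.c s) := rfl

theorem i0_inj : Function.Injective (i0 H) := by
  intro s t h
  obtain ⟨h1, h2, h3⟩ := um_inj h
  exact H.inj s t h1 h2 h3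

theorem um_eq (a b c : ZMod p) : ∃ s, i0 H s = um a b c := by
  obtain ⟨s, h1, h2, h3⟩ := H.surj a b c
  exact ⟨s, by rw [i0_apply, h1, h2, h3]⟩

/-- the hypotheses on the group of automorphisms -/
structure Dat (A : Subgroup (MulAut S)) : Prop where
  inn : ∀ u : S, MulAut.conj u ∈ A
  one : ∀ l : (ZMod p)ˣ, ∃ α ∈ A, ∀ s, H.a (α s) = ((l⁻¹ : (ZMod p)ˣ) : ZMod p) * H.a s ∧ H.b (α s) = (l : ZMod p) ^ 2 * H.b s
  two : ∀ l : (ZMod p)ˣ, ∃ α ∈ A, ∀ s, H.a (α s) = (l : ZMod p) ^ 2 * H.a s ∧ H.b (α s) = ((l⁻¹ : (ZMod p)ˣ) : ZMod p) * H.b s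
  mono : ∀ α ∈ A, ((∀ s, H.a s = 0 → H.a (α s) = 0) ∧ ∀ s, H.b s = 0 → H.b (α s) = 0) ∨
    ((∀ s, H.b s = 0 → H.a (α s) = 0) ∧ ∀ s, H.a s = 0 → H.b (α s) = 0)

/-- an additive function killing `a = 0` -/
theorem lin_a {f : S → ZMod p} (hf : ∀ x y, f (x * y) = f x + f y) (h0 : ∀ s, H.a s = 0 → f s = 0)
    (hn : ∃ s, f s ≠ 0) : ∃ l : (ZMod p)ˣ, ∀ s, f s = (l : ZMod p) * H.a s := by
  obtain ⟨x, y, hxy⟩ := hom_lin H hf
  obtain ⟨s2, h21, h22, -⟩ := H.surj 0 1 0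
  have hy : y = 0 := by
    have := h0 s2 h21
    rw [hxy, h21, h22] at this
    simpa using this
  have hx : x ≠ 0 := by
    rintro rfl
    obtain ⟨s, hs⟩ := hn
    apply hs
    rw [hxy, hy]; ring
  refine ⟨Units.mk0 x hx, fun s => ?_⟩
  rw [hxy, hy, Units.val_mk0]; ring

/-- an additive function killing `b = 0` -/
theorem lin_b {f : S → ZMod p} (hf : ∀ x y, f (x * y) = f x + f y) (h0 : ∀ s, H.b s = 0 → f s = 0)
    (hn : ∃ s, f s ≠ 0) : ∃ l : (ZMod p)ˣ, ∀ s, f s = (l : ZMod p) * H.b s := by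
  obtain ⟨x, y, hxy⟩ := hom_lin H hf
  obtain ⟨s2, h21, h22, -⟩ := H.surj 1 0 0
  have hy : x = 0 := by
    have := h0 s2 h22
    rw [hxy, h21, h22] at this
    simpa using this
  have hx : y ≠ 0 := by
    rintro rfl
    obtain ⟨s, hs⟩ := hn
    apply hs
    rw [hxy, hy]; ring
  refine ⟨Units.mk0 y hx, fun s => ?_⟩
  rw [hxy, hy, Units.val_mk0]; ring

theorem a_ne (α : MulAut S) : ∃ s, H.a (α s) ≠ 0 := by
  obtain ⟨s1, h11, -, -⟩ := H.surj 1 0 0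
  exact ⟨α.symm s1, by rw [MulEquiv.apply_symm_apply, h11]; exact one_ne_zero⟩

theorem b_ne (α : MulAut S) : ∃ s, H.b (α s) ≠ 0 := by
  obtain ⟨s1, -, h12, -⟩ := H.surj 0 1 0
  exact ⟨α.symm s1, by rw [MulEquiv.apply_symm_apply, h12]; exact one_ne_zero⟩

variable {H} {A : Subgroup (MulAut S)}

theorem Dat.form (D : Dat H A) {α : MulAut S} (hα : α ∈ A) : ∃ l m : (ZMod p)ˣ,
    (∀ s, H.a (α s) = (l : ZMod p) * H.a s ∧ H.b (α s) = (m : ZMod p) * H.b s) ∨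
    (∀ s, H.a (α s) = (l : ZMod p) * H.b s ∧ H.b (α s) = (m : ZMod p) * H.a s) := by
  have hfa : ∀ x y, (fun s => H.a (α s)) (x * y) = (fun s => H.a (α s)) x + (fun s => H.a (α s)) y := by
    intro x y
    show H.a (α (x * y)) = H.a (α x) + H.a (α y)
    rw [map_mul, H.a_mul]
  have hfb : ∀ x y, (fun s => H.b (α s)) (x * y) = (fun s => H.b (α s)) x + (fun s => H.b (α s)) y := by
    intro x y
    show H.b (α (x * y)) = H.b (α x) + H.b (α y)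
    rw [map_mul, H.b_mul]
  rcases D.mono α hα with ⟨h1, h2⟩ | ⟨h1, h2⟩
  · obtain ⟨l, hl⟩ := lin_a H (f := fun s => H.a (α s)) hfa h1 (a_ne H α)
    obtain ⟨m, hm⟩ := lin_b H (f := fun s => H.b (α s)) hfb h2 (b_ne H α)
    exact ⟨l, m, Or.inl fun s => ⟨hl s, hm s⟩⟩
  · obtain ⟨l, hl⟩ := lin_b H (f := fun s => H.a (α s)) hfa h1 (a_ne H α)
    obtain ⟨m, hm⟩ := lin_a H (f := fun s => H.b (α s)) hfb h2 (b_ne H α)
    exact ⟨l, m, Or.inr fun s => ⟨hl s, hm s⟩⟩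

/-- an automorphism of `SL₃(p)` preserving the image of `S` restricts to `S` -/
theorem lift (H : HeisCoord S (ZMod p)) [Finite S] (γ : MulAut (L p)) (h : ∀ s, ∃ t, γ (i0 H s) = i0 H t) :
    ∃ β : MulAut S, ∀ s, i0 H (β s) = γ (i0 H s) := by
  choose f hf using h
  let g : S →* S :=
    { toFun := f
      map_one' := i0_inj H (by rw [← hf, map_one, map_one])
      map_mul' := fun x y => i0_inj H (by rw [← hf, map_mul, map_mul, hf, hf, map_mul]) }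
  have hg : Function.Injective g := by
    intro x y hxy
    have h1 : γ (i0 H x) = γ (i0 H y) := by rw [hf, hf]; exact congrArg (i0 H) hxy
    exact i0_inj H (γ.injective h1)
  exact ⟨MulEquiv.ofBijective g (Finite.injective_iff_bijective.1 hg), fun s => (hf s).symm⟩

theorem lift_gam (H : HeisCoord S (ZMod p)) [Finite S] (d : Fin 3 → (ZMod p)ˣ) :
    ∃ β : MulAut S, (∀ s, i0 H (β s) = gam d (i0 H s)) ∧
      ∀ s, H.a (β s) = ((d 0 * (d 1)⁻¹ : (ZMod p)ˣ) : ZMod p) * H.a s ∧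
        H.b (β s) = ((d 1 * (d 2)⁻¹ : (ZMod p)ˣ) : ZMod p) * H.b s := by
  obtain ⟨β, hβ⟩ := lift H (gam d) (fun s => by
    rw [i0_apply, gam_um]
    obtain ⟨t, ht⟩ := um_eq H (((d 0 * (d 1)⁻¹ : (ZMod p)ˣ) : ZMod p) * H.a s)
      (((d 1 * (d 2)⁻¹ : (ZMod p)ˣ) : ZMod p) * H.b s) (((d 0 * (d 2)⁻¹ : (ZMod p)ˣ) : ZMod p) * H.c s)
    exact ⟨t, ht.symm⟩)
  refine ⟨β, hβ, fun s => ?_⟩
  have h1 := hβ s
  rw [i0_apply, i0_apply, gam_um] at h1
  obtain ⟨h2, h3, -⟩ := um_inj h1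
  exact ⟨h2, h3⟩

theorem lift_gamtau (H : HeisCoord S (ZMod p)) [Finite S] (d : Fin 3 → (ZMod p)ˣ) :
    ∃ β : MulAut S, (∀ s, i0 H (β s) = (gam d * tau : MulAut (L p)) (i0 H s)) ∧
      ∀ s, H.a (β s) = ((d 0 * (d 1)⁻¹ : (ZMod p)ˣ) : ZMod p) * (- H.b s) ∧
        H.b (β s) = ((d 1 * (d 2)⁻¹ : (ZMod p)ˣ) : ZMod p) * (- H.a s) := by
  obtain ⟨β, hβ⟩ := lift H (gam d * tau) (fun s => by
    rw [i0_apply, MulAut.mul_apply, tau_um, gam_um]
    obtain ⟨t, ht⟩ := um_eq H (((d 0 * (d 1)⁻¹ : (ZMod p)ˣ) : ZMod p) * (- H.b s))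
      (((d 1 * (d 2)⁻¹ : (ZMod p)ˣ) : ZMod p) * (- H.a s)) (((d 0 * (d 2)⁻¹ : (ZMod p)ˣ) : ZMod p) *
        (H.a s * H.b s - H.c s))
    exact ⟨t, ht.symm⟩)
  refine ⟨β, hβ, fun s => ?_⟩
  have h1 := hβ s
  rw [i0_apply, i0_apply, MulAut.mul_apply, tau_um, gam_um] at h1
  obtain ⟨h2, h3, -⟩ := um_inj h1
  exact ⟨h2, h3⟩

theorem lift_Gf (H : HeisCoord S (ZMod p)) [Finite S] {γ : MulAut (L p)} (hγ : γ ∈ Gf p) :
    ∃ β : MulAut S, ∀ s, i0 H (β s) = γ (i0 H s) := by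
  obtain ⟨d, rfl | rfl⟩ := hγ
  · obtain ⟨β, h, -⟩ := lift_gam H d
    exact ⟨β, h⟩
  · obtain ⟨β, h, -⟩ := lift_gamtau H d
    exact ⟨β, h⟩

/-- every element of `A` is inner times a diagonal-graph automorphism -/
theorem Dat.exists_Gf [Finite S] (D : Dat H A) {α : MulAut S} (hα : α ∈ A) :
    ∃ γ ∈ Gf p, ∃ (u : S) (β : MulAut S), (∀ s, i0 H (β s) = γ (i0 H s)) ∧ ∀ s, α s = u * β s * u⁻¹ := by
  obtain ⟨l, m, h | h⟩ := D.form hα
  · obtain ⟨β, hβ, hc⟩ := lift_gam H ![l * m, m, 1]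
    obtain ⟨u, hu⟩ := aut_conj H α β (fun s => by
      rw [(h s).1, (hc s).1]
      congr 1
      simp) (fun s => by
      rw [(h s).2, (hc s).2]
      congr 1
      simp)
    exact ⟨_, ⟨_, Or.inl rfl⟩, u, β, hβ, hu⟩
  · obtain ⟨β, hβ, hc⟩ := lift_gamtau H ![(-l) * (-m), -m, 1]
    obtain ⟨u, hu⟩ := aut_conj H α β (fun s => by
      rw [(h s).1, (hc s).1]
      simp) (fun s => by
      rw [(h s).2, (hc s).2]
      simp)
    exact ⟨_, ⟨_, Or.inr rfl⟩, u, β, hβ, hu⟩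

theorem Dat.conj_mem (D : Dat H A) {α β : MulAut S} (hβ : β ∈ A) {u : S} (h : ∀ s, α s = u * β s * u⁻¹) : α ∈ A := by
  have h1 : α = MulAut.conj u * β := by
    apply MulEquiv.ext
    intro s
    rw [h, MulAut.mul_apply, MulAut.conj_apply]
  rw [h1]
  exact A.mul_mem (D.inn u) hβ

theorem Dat.of_conj_mem (D : Dat H A) {α β : MulAut S} (hα : α ∈ A) {u : S} (h : ∀ s, α s = u * β s * u⁻¹) :
    β ∈ A := by
  apply D.conj_mem hα (u := u⁻¹)
  intro s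
  rw [h]; group

/-- the diagonal elements of determinant one -/
theorem Dat.gam_mem [Finite S] (D : Dat H A) (d : Fin 3 → (ZMod p)ˣ) (hd : d 0 * d 1 * d 2 = 1) :
    ∃ β ∈ A, ∀ s, i0 H (β s) = gam d (i0 H s) := by
  obtain ⟨β, hβ, hc⟩ := lift_gam H d
  obtain ⟨α1, hα1, h1⟩ := D.one (d 2)⁻¹
  obtain ⟨α2, hα2, h2⟩ := D.two (d 0)
  have hd' : (d 1) = (d 0)⁻¹ * (d 2)⁻¹ := by
    calc d 1 = (d 0)⁻¹ * (d 0 * d 1 * d 2) * (d 2)⁻¹ := by group
      _ = _ := by rw [hd, mul_one]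
  obtain ⟨u, hu⟩ := aut_conj H (α1 * α2) β (fun s => by
      rw [MulAut.mul_apply, (h1 _).1, (h2 s).1, (hc s).1, hd', ← mul_assoc]
      congr 1
      rw [← Units.val_pow_eq_pow_val, ← Units.val_mul]
      congr 1
      rw [inv_inv, mul_inv_rev, inv_inv, inv_inv, pow_two]
      rw [mul_comm (d 2), mul_assoc]
      congr 1
      rw [mul_comm]) (fun s => by
      rw [MulAut.mul_apply, (h1 _).2, (h2 s).2, (hc s).2, hd', ← mul_assoc]
      congr 1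
      rw [← Units.val_pow_eq_pow_val, ← Units.val_mul]
      congr 1
      rw [pow_two, mul_comm, mul_assoc])
  exact ⟨β, D.of_conj_mem (A.mul_mem hα1 hα2) hu, hβ⟩

end Cfsg.Agent.H771.RV
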