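import Cfsg.Agent.H771.RVMain
import Cfsg.Agent.H275.Heis

/-!
# Ruiz–Viruel systems with two radical lines in terms of `HData` (helper771)
-/

set_option autoImplicit false

namespace Cfsg.Agent.H771.RV

open Cfsg.Agent.H780 Cfsg.Agent.H275.Heis

variable {p : ℕ} [hp : Fact p.Prime] {P : Type*} [Group P]

/-- the third coordinate -/
noncomputable def kz (D : HData p P) (w : P) : ZMod p := Classical.choose (D.exists_decomp w)

theorem kz_spec (D : HData p P) (w : P) : w = pw D.x0 (D.pi w 0) * pw D.y0 (D.pi w 1) * pw D.z (kz D w) :=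
  Classical.choose_spec (D.exists_decomp w)

theorem pw_z_inj (D : HData p P) {a b : ZMod p} (h : pw D.z a = pw D.z b) : a = b := (pw_inj (D.pow_p _) D.z_ne).1 h

/-- `y^b x^a = z^(-ab) x^a y^b` -/
theorem swap_xy (D : HData p P) (a b : ZMod p) :
    pw D.y0 b * pw D.x0 a = pw D.x0 a * pw D.y0 b * pw D.z (-(a * b)) := by
  have h1 := D.conj_eq (pw D.x0 a) (pw D.y0 b)
  rw [D.c_pw_left, D.c_pw_right, D.c_x0_y0, mul_one] at h1
  have h2 : pw D.x0 a * pw D.y0 b = pw D.z (a * b) * pw D.y0 b * pw D.x0 a := by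
    rw [← h1]; group
  have h3 : Commute (pw D.z (-(a * b))) (pw D.x0 a * pw D.y0 b) := (D.commute_z _).pow_left _
  rw [← h3.eq, h2, mul_assoc (pw D.z (a * b)), ← mul_assoc, ← pw_add (D.pow_p _), neg_add_cancel, pw_zero, one_mul]

theorem kz_mul (D : HData p P) (u v : P) : kz D (u * v) = kz D u + kz D v - D.pi u 1 * D.pi v 0 := by
  apply pw_z_inj D
  have h1 := kz_spec D (u * v)
  have h2 : u * v = pw D.x0 (D.pi (u * v) 0) * pw D.y0 (D.pi (u * v) 1) *
      pw D.z (kz D u + kz D v - D.pi u 1 * D.pi v 0) := by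
    have hc : ∀ (k : ZMod p) (w : P), pw D.z k * w = w * pw D.z k := fun k w => ((D.commute_z w).pow_left _).eq
    rw [D.pi_mul]
    conv_lhs => rw [kz_spec D u, kz_spec D v]
    calc pw D.x0 (D.pi u 0) * pw D.y0 (D.pi u 1) * pw D.z (kz D u) *
          (pw D.x0 (D.pi v 0) * pw D.y0 (D.pi v 1) * pw D.z (kz D v))
        = pw D.x0 (D.pi u 0) * (pw D.y0 (D.pi u 1) * pw D.x0 (D.pi v 0)) * pw D.y0 (D.pi v 1) *
            (pw D.z (kz D u) * pw D.z (kz D v)) := by
          rw [mul_assoc (pw D.x0 (D.pi u 0) * pw D.y0 (D.pi u 1)), hc]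
          simp only [mul_assoc]
          rw [← hc (kz D u) (pw D.z (kz D v))]
      _ = pw D.x0 (D.pi u 0) * (pw D.x0 (D.pi v 0) * pw D.y0 (D.pi u 1) * pw D.z (-(D.pi v 0 * D.pi u 1))) *
            pw D.y0 (D.pi v 1) * (pw D.z (kz D u) * pw D.z (kz D v)) := by rw [swap_xy]
      _ = (pw D.x0 (D.pi u 0) * pw D.x0 (D.pi v 0)) * (pw D.y0 (D.pi u 1) * pw D.y0 (D.pi v 1)) *
            (pw D.z (-(D.pi v 0 * D.pi u 1)) * (pw D.z (kz D u) * pw D.z (kz D v))) := by
          simp only [mul_assoc]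
          rw [← mul_assoc (pw D.z (-(D.pi v 0 * D.pi u 1))) (pw D.y0 (D.pi v 1)), hc _ (pw D.y0 (D.pi v 1))]
          simp only [mul_assoc]
      _ = _ := by
          rw [← pw_add (D.pow_p _), ← pw_add (D.pow_p _), ← pw_add (D.pow_p _), ← pw_add (D.pow_p _)]
          congr 2
          ring
  have h3 := h1.symm.trans h2
  exact mul_left_cancel h3

/-- Heisenberg coordinates from `HData` -/
noncomputable def coordOf (D : HData p P) : HeisCoord P (ZMod p) where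
  a w := D.pi w 0
  b w := D.pi w 1
  c w := kz D w + D.pi w 0 * D.pi w 1
  a_mul u v := by rw [D.pi_mul]; rfl
  b_mul u v := by rw [D.pi_mul]; rfl
  c_mul u v := by
    rw [kz_mul, D.pi_mul]
    show kz D u + kz D v - D.pi u 1 * D.pi v 0 + (D.pi u 0 + D.pi v 0) * (D.pi u 1 + D.pi v 1) = _
    ring
  inj u v h1 h2 h3 := by
    have h4 : kz D u = kz D v := by
      rw [h1, h2] at h3
      exact add_right_cancel h3
    rw [kz_spec D u, kz_spec D v, h1, h2, h4]
  surj r s t := by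
    have h1 : D.pi (pw D.x0 r * pw D.y0 s * pw D.z (t - r * s)) = ![r, s] := by
      have h2 := D.pi_lift ![r, s]
      simp only [Matrix.cons_val_zero, Matrix.cons_val_one] at h2
      rw [D.pi_mul, h2, D.pi_pw, D.pi_eq_zero_iff.2 D.z_mem, smul_zero, add_zero]
    refine ⟨pw D.x0 r * pw D.y0 s * pw D.z (t - r * s), by rw [h1]; rfl, by rw [h1]; rfl, ?_⟩
    have h3 := kz_spec D (pw D.x0 r * pw D.y0 s * pw D.z (t - r * s))
    rw [h1] at h3
    simp only [Matrix.cons_val_zero, Matrix.cons_val_one] at h3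
    have h4 := pw_z_inj D (mul_left_cancel h3)
    rw [← h4, h1]
    simp

theorem coordOf_a (D : HData p P) (w : P) : (coordOf D).a w = D.pi w 0 := rfl
theorem coordOf_b (D : HData p P) (w : P) : (coordOf D).b w = D.pi w 1 := rfl

/-- a monomial matrix is the matrix of an automorphism -/
theorem exists_rep_diag [Finite P] (D : HData p P) (l m : (ZMod p)ˣ) : ∃ β : MulAut P,
    (D.rep β : Matrix (Fin 2) (Fin 2) (ZMod p)) = !![(l : ZMod p), 0; 0, (m : ZMod p)] ∧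
      ∀ s, (coordOf D).a (β s) = (l : ZMod p) * (coordOf D).a s ∧ (coordOf D).b (β s) = (m : ZMod p) * (coordOf D).b s := by
  obtain ⟨β, -, hβ⟩ := lift_gam (coordOf D) ![l * m, m, 1]
  have h1 : ∀ s, (coordOf D).a (β s) = (l : ZMod p) * (coordOf D).a s ∧
      (coordOf D).b (β s) = (m : ZMod p) * (coordOf D).b s := by
    intro s
    refine ⟨?_, ?_⟩
    · rw [(hβ s).1]; simp
    · rw [(hβ s).2]; simp
  refine ⟨β, ?_, h1⟩
  apply D.mulVec_ext
  intro w
  rw [D.rep_mulVec]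
  ext i
  fin_cases i
  · show (coordOf D).a (β w) = _
    rw [(h1 w).1]
    simp [Matrix.mulVec, dotProduct, Fin.sum_univ_two, coordOf_a]
  · show (coordOf D).b (β w) = _
    rw [(h1 w).2]
    simp [Matrix.mulVec, dotProduct, Fin.sum_univ_two, coordOf_b]

theorem pi_rep (D : HData p P) (α : MulAut P) (s : P) :
    D.pi (α s) 0 = (D.rep α : Matrix (Fin 2) (Fin 2) (ZMod p)) 0 0 * D.pi s 0 +
      (D.rep α : Matrix (Fin 2) (Fin 2) (ZMod p)) 0 1 * D.pi s 1 ∧
    D.pi (α s) 1 = (D.rep α : Matrix (Fin 2) (Fin 2) (ZMod p)) 1 0 * D.pi s 0 +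
      (D.rep α : Matrix (Fin 2) (Fin 2) (ZMod p)) 1 1 * D.pi s 1 := by
  have h := D.rep_mulVec α s
  refine ⟨?_, ?_⟩
  · rw [← h]; simp [Matrix.mulVec, dotProduct, Fin.sum_univ_two]
  · rw [← h]; simp [Matrix.mulVec, dotProduct, Fin.sum_univ_two]

/-- the hypotheses on `W` : contains `diag(l⁻¹, l²)`, `diag(l², l⁻¹)`, contained in the monomial group -/
structure WDat (W : Subgroup (GL (Fin 2) (ZMod p))) : Prop where
  one : ∀ l : (ZMod p)ˣ, ∃ w ∈ W, (w : Matrix (Fin 2) (Fin 2) (ZMod p)) =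
    !![((l⁻¹ : (ZMod p)ˣ) : ZMod p), 0; 0, (l : ZMod p) ^ 2]
  two : ∀ l : (ZMod p)ˣ, ∃ w ∈ W, (w : Matrix (Fin 2) (Fin 2) (ZMod p)) =
    !![(l : ZMod p) ^ 2, 0; 0, ((l⁻¹ : (ZMod p)ˣ) : ZMod p)]
  mono : ∀ w ∈ W, ((w : Matrix (Fin 2) (Fin 2) (ZMod p)) 0 1 = 0 ∧ (w : Matrix (Fin 2) (Fin 2) (ZMod p)) 1 0 = 0) ∨
    ((w : Matrix (Fin 2) (Fin 2) (ZMod p)) 0 0 = 0 ∧ (w : Matrix (Fin 2) (Fin 2) (ZMod p)) 1 1 = 0)

theorem WDat.dat [Finite P] (D : HData p P) {W : Subgroup (GL (Fin 2) (ZMod p))} (h : WDat W) :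
    Dat (coordOf D) (W.comap D.rep) where
  inn u := by
    rw [Subgroup.mem_comap, D.rep_conj]
    exact W.one_mem
  one l := by
    obtain ⟨β, h1, h2⟩ := exists_rep_diag D l⁻¹ (l ^ 2)
    obtain ⟨w, hw, hwe⟩ := h.one l
    refine ⟨β, ?_, fun s => ?_⟩
    · rw [Subgroup.mem_comap]
      have : D.rep β = w := Units.ext (by rw [h1, hwe, Units.val_pow_eq_pow_val])
      rw [this]; exact hw
    · refine ⟨(h2 s).1, ?_⟩
      rw [(h2 s).2, Units.val_pow_eq_pow_val]
  two l := by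
    obtain ⟨β, h1, h2⟩ := exists_rep_diag D (l ^ 2) l⁻¹
    obtain ⟨w, hw, hwe⟩ := h.two l
    refine ⟨β, ?_, fun s => ?_⟩
    · rw [Subgroup.mem_comap]
      have : D.rep β = w := Units.ext (by rw [h1, hwe, Units.val_pow_eq_pow_val])
      rw [this]; exact hw
    · refine ⟨?_, (h2 s).2⟩
      rw [(h2 s).1, Units.val_pow_eq_pow_val]
  mono α hα := by
    rcases h.mono (D.rep α) hα with ⟨h1, h2⟩ | ⟨h1, h2⟩
    · left
      refine ⟨fun s hs => ?_, fun s hs => ?_⟩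
      · show D.pi (α s) 0 = 0
        have hs' : D.pi s 0 = 0 := hs
        rw [(pi_rep D α s).1, h1, hs']; ring
      · show D.pi (α s) 1 = 0
        have hs' : D.pi s 1 = 0 := hs
        rw [(pi_rep D α s).2, h2, hs']; ring
    · right
      refine ⟨fun s hs => ?_, fun s hs => ?_⟩
      · show D.pi (α s) 0 = 0
        have hs' : D.pi s 1 = 0 := hs
        rw [(pi_rep D α s).1, h1, hs']; ring
      · show D.pi (α s) 1 = 0
        have hs' : D.pi s 0 = 0 := hs
        rw [(pi_rep D α s).2, h2, hs']; ring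

/-- **The group of a Ruiz–Viruel system with two radical lines**, in terms of `HData`. -/
theorem exists_group_W (D : HData p P) (hp2 : p ≠ 2) {W : Subgroup (GL (Fin 2) (ZMod p))} (h : WDat W) :
    ∃ (G : Type) (_ : Group G) (_ : Finite G) (ι : P →* G), Function.Injective ι ∧
      (∃ T : Sylow p G, (T : Subgroup G) = ι.range) ∧
      (∀ α : MulAut P, D.rep α ∈ W ↔ ∃ g : G, ∀ s, ι (α s) = g * ι s * g⁻¹) ∧
      ∀ s : P, s ∉ Subgroup.center P →
        ((∃ g : G, ∃ z ∈ Subgroup.center P, g * ι s * g⁻¹ = ι z) ↔ (D.pi s 0 = 0 ∨ D.pi s 1 = 0)) := by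
  have hfin : Finite P := Nat.finite_of_card_ne_zero (by rw [D.card_eq]; exact (pow_pos hp.out.pos 3).ne')
  have hcen : ∀ z, z ∈ Subgroup.center P ↔ ((coordOf D).a z = 0 ∧ (coordOf D).b z = 0) := by
    intro z
    rw [← D.pi_eq_zero_iff]
    constructor
    · intro h
      exact ⟨by rw [coordOf_a, h]; rfl, by rw [coordOf_b, h]; rfl⟩
    · rintro ⟨h1, h2⟩
      ext i
      fin_cases i
      · exact h1
      · exact h2
  obtain ⟨G, i1, i2, ι, h1, h2, h3, h4⟩ := exists_group hp2 (h.dat D)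
  refine ⟨G, i1, i2, ι, h1, h2, fun α => h3 α, fun s hs => ?_⟩
  rw [hcen] at hs
  rw [← coordOf_a, ← coordOf_b, ← h4 s hs]
  constructor
  · rintro ⟨g, z, hz, he⟩
    rw [hcen] at hz
    exact ⟨g, z, hz.1, hz.2, he⟩
  · rintro ⟨g, z, hz1, hz2, he⟩
    exact ⟨g, z, (hcen z).2 ⟨hz1, hz2⟩, he⟩

end Cfsg.Agent.H771.RV
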