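import Cfsg.Agent.H771.RVLThree

/-!
# Ruiz–Viruel systems with two radical lines: automorphisms of the Heisenberg group (helper771)

* `hom_lin` : an additive map `S → ZMod p` is a linear combination of the coordinates `a`, `b`;
* `aut_conj` : two automorphisms with the same `a`- and `b`-components differ by an inner automorphism.
-/

set_option autoImplicit false

namespace Cfsg.Agent.H771.RV

open Cfsg.Agent.H780

variable {p : ℕ} [hp : Fact p.Prime] {S : Type*} [Group S] (H : HeisCoord S (ZMod p))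

theorem f_one {f : S → ZMod p} (hf : ∀ x y, f (x * y) = f x + f y) : f 1 = 0 := by
  have := hf 1 1
  rw [mul_one] at this
  simpa using this

theorem f_pow {f : S → ZMod p} (hf : ∀ x y, f (x * y) = f x + f y) (x : S) (n : ℕ) : f (x ^ n) = n * f x := by
  induction n with
  | zero => rw [pow_zero, f_one hf]; simp
  | succ n ih => rw [pow_succ, hf, ih]; push_cast; ring

theorem f_central {f : S → ZMod p} (hf : ∀ x y, f (x * y) = f x + f y) {z : S} (ha : H.a z = 0) (hb : H.b z = 0) :
    f z = 0 := by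
  obtain ⟨x, hx1, hx2, hx3⟩ := H.surj (H.c z) 0 0
  obtain ⟨y, hy1, hy2, hy3⟩ := H.surj 0 1 0
  have h1 : x * y = z * (y * x) := by
    apply H.inj
    · rw [H.a_mul, H.a_mul, H.a_mul, ha]; ring
    · rw [H.b_mul, H.b_mul, H.b_mul, hb]; ring
    · rw [H.c_mul, H.c_mul, H.c_mul, ha, hx1, hx2, hx3, hy1, hy2, hy3]; ring
  have h2 := congrArg f h1
  rw [hf, hf, hf] at h2
  have h3 : f z = f x + f y - (f y + f x) := by rw [h2]; ring
  rw [h3]; ring

/-- an additive function on `S` is a linear combination of the coordinates -/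
theorem hom_lin {f : S → ZMod p} (hf : ∀ x y, f (x * y) = f x + f y) :
    ∃ x y : ZMod p, ∀ s, f s = x * H.a s + y * H.b s := by
  obtain ⟨s1, h11, h12, -⟩ := H.surj 1 0 0
  obtain ⟨s2, h21, h22, -⟩ := H.surj 0 1 0
  refine ⟨f s1, f s2, fun s => ?_⟩
  have h1 : f (s * (s1 ^ (H.a s).val * s2 ^ (H.b s).val)⁻¹) = 0 := by
    apply f_central H hf
    · rw [H.a_mul, H.a_inv, H.a_mul, f_pow H.a_mul, f_pow H.a_mul, h11, h21]
      simp only [ZMod.natCast_zmod_val]; ring
    · rw [H.b_mul, H.b_inv, H.b_mul, f_pow H.b_mul, f_pow H.b_mul, h12, h22]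
      simp only [ZMod.natCast_zmod_val]; ring
  have h2 : f s = f (s * (s1 ^ (H.a s).val * s2 ^ (H.b s).val)⁻¹) + f (s1 ^ (H.a s).val * s2 ^ (H.b s).val) := by
    rw [← hf, mul_assoc, inv_mul_cancel, mul_one]
  rw [h2, h1, hf, f_pow hf, f_pow hf]
  simp only [ZMod.natCast_zmod_val]
  ring

/-- automorphisms with the same `a` and `b` components differ by an inner automorphism -/
theorem aut_conj (α β : S ≃* S) (ha : ∀ s, H.a (α s) = H.a (β s)) (hb : ∀ s, H.b (α s) = H.b (β s)) :
    ∃ u : S, ∀ s, α s = u * β s * u⁻¹ := by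
  have h1 : ∀ s t, (fun s => H.c (α (β.symm s)) - H.c s) (s * t) =
      (fun s => H.c (α (β.symm s)) - H.c s) s + (fun s => H.c (α (β.symm s)) - H.c s) t := by
    intro s t
    show H.c (α (β.symm (s * t))) - H.c (s * t) = H.c (α (β.symm s)) - H.c s + (H.c (α (β.symm t)) - H.c t)
    rw [map_mul, map_mul, H.c_mul, H.c_mul, ha, hb, MulEquiv.apply_symm_apply, MulEquiv.apply_symm_apply]
    ring
  obtain ⟨x, y, hxy⟩ := hom_lin H (f := fun s => H.c (α (β.symm s)) - H.c s) h1
  obtain ⟨u, hu1, hu2, -⟩ := H.surj y (-x) 0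
  refine ⟨u, fun s => ?_⟩
  rw [eq_mul_inv_iff_mul_eq]
  have h2 := hxy (β s)
  simp only [MulEquiv.symm_apply_apply] at h2
  apply H.inj
  · rw [H.a_mul, H.a_mul, ha]; ring
  · rw [H.b_mul, H.b_mul, hb]; ring
  · rw [H.c_mul, H.c_mul, ha, hu1, hu2]
    linear_combination h2

end Cfsg.Agent.H771.RV
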