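import Cfsg.Agent.H780.HeisCoord

/-!
# Ruiz–Viruel systems with two radical lines: the group (helper771)

`exists_group` : `S` extraspecial of order `p³` and exponent `p` (with Heisenberg coordinates `a, b, c` in `ZMod p`), `A` a
group of automorphisms of `S` containing the inner ones, containing `diag(l⁻¹, l²)` and `diag(l², l⁻¹)` and permuting
the two lines `a = 0`, `b = 0`: then there is a finite group `G` with Sylow subgroup `S`, `Aut_G(S) = A` and the noncentral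
elements of `S` fused into the centre are those with `a = 0` or `b = 0`.  (`G = SL₃(p) ⋊ Γ`, `Γ` a group of
diagonal-graph automorphisms.)
-/

set_option autoImplicit false

namespace Cfsg.Agent.H771.RV

open Matrix

variable {p : ℕ} [hp : Fact p.Prime]

/-- `SL₃(p)` -/
abbrev L (p : ℕ) := Matrix.SpecialLinearGroup (Fin 3) (ZMod p)

/-- unitriangular matrices -/
def um (a b c : ZMod p) : L p := ⟨!![1, a, c; 0, 1, b; 0, 0, 1], by simp [Matrix.det_fin_three]⟩

theorem um_coe (a b c : ZMod p) : (um a b c : Matrix (Fin 3) (Fin 3) (ZMod p)) = !![1, a, c; 0, 1, b; 0, 0, 1] := rfl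

theorem um_mul (a b c a' b' c' : ZMod p) : um a b c * um a' b' c' = um (a + a') (b + b') (c + c' + a * b') := by
  apply Subtype.ext
  rw [Matrix.SpecialLinearGroup.coe_mul, um_coe, um_coe, um_coe]
  ext i j
  fin_cases i <;> fin_cases j <;> simp [Matrix.mul_apply, Fin.sum_univ_three] <;> ring

theorem um_inj {a b c a' b' c' : ZMod p} (h : um a b c = um a' b' c') : a = a' ∧ b = b' ∧ c = c' := by
  have h1 := congrArg (fun g : L p => (g : Matrix (Fin 3) (Fin 3) (ZMod p))) h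
  simp only [um_coe] at h1
  refine ⟨?_, ?_, ?_⟩
  · simpa using congrFun (congrFun h1 0) 1
  · simpa using congrFun (congrFun h1 1) 2
  · simpa using congrFun (congrFun h1 0) 2

/-- a diagonal matrix -/
def dm (d : Fin 3 → (ZMod p)ˣ) : Matrix (Fin 3) (Fin 3) (ZMod p) := Matrix.diagonal fun i => (d i : ZMod p)

theorem dm_mul (d e : Fin 3 → (ZMod p)ˣ) : dm (d * e) = dm d * dm e := by
  rw [dm, dm, dm, Matrix.diagonal_mul_diagonal]
  rfl

theorem dm_one : dm (1 : Fin 3 → (ZMod p)ˣ) = 1 := by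
  rw [dm]
  simp

theorem dm_inv_mul (d : Fin 3 → (ZMod p)ˣ) : dm d⁻¹ * dm d = 1 := by
  rw [← dm_mul, inv_mul_cancel, dm_one]

theorem dm_mul_inv (d : Fin 3 → (ZMod p)ˣ) : dm d * dm d⁻¹ = 1 := by
  rw [← dm_mul, mul_inv_cancel, dm_one]

/-- conjugation of `SL₃(p)` by a diagonal matrix -/
def gam (d : Fin 3 → (ZMod p)ˣ) : MulAut (L p) where
  toFun g := ⟨dm d * (g : Matrix (Fin 3) (Fin 3) (ZMod p)) * dm d⁻¹, by
    rw [Matrix.det_mul, Matrix.det_mul, g.2, mul_one, ← Matrix.det_mul, dm_mul_inv, Matrix.det_one]⟩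
  invFun g := ⟨dm d⁻¹ * (g : Matrix (Fin 3) (Fin 3) (ZMod p)) * dm d, by
    rw [Matrix.det_mul, Matrix.det_mul, g.2, mul_one, ← Matrix.det_mul, dm_inv_mul, Matrix.det_one]⟩
  left_inv g := by
    apply Subtype.ext
    show dm d⁻¹ * (dm d * (g : Matrix (Fin 3) (Fin 3) (ZMod p)) * dm d⁻¹) * dm d = g
    calc dm d⁻¹ * (dm d * (g : Matrix (Fin 3) (Fin 3) (ZMod p)) * dm d⁻¹) * dm d
        = (dm d⁻¹ * dm d) * g * (dm d⁻¹ * dm d) := by simp only [mul_assoc]
      _ = g := by rw [dm_inv_mul, one_mul, mul_one]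
  right_inv g := by
    apply Subtype.ext
    show dm d * (dm d⁻¹ * (g : Matrix (Fin 3) (Fin 3) (ZMod p)) * dm d) * dm d⁻¹ = g
    calc dm d * (dm d⁻¹ * (g : Matrix (Fin 3) (Fin 3) (ZMod p)) * dm d) * dm d⁻¹
        = (dm d * dm d⁻¹) * g * (dm d * dm d⁻¹) := by simp only [mul_assoc]
      _ = g := by rw [dm_mul_inv, one_mul, mul_one]
  map_mul' g h := by
    apply Subtype.ext
    show dm d * ((g : Matrix (Fin 3) (Fin 3) (ZMod p)) * h) * dm d⁻¹ = dm d * g * dm d⁻¹ * (dm d * h * dm d⁻¹)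
    calc dm d * ((g : Matrix (Fin 3) (Fin 3) (ZMod p)) * h) * dm d⁻¹
        = dm d * g * 1 * h * dm d⁻¹ := by simp only [mul_assoc, one_mul]
      _ = dm d * g * (dm d⁻¹ * dm d) * h * dm d⁻¹ := by rw [dm_inv_mul]
      _ = _ := by simp only [mul_assoc]

theorem gam_coe (d : Fin 3 → (ZMod p)ˣ) (g : L p) :
    (gam d g : Matrix (Fin 3) (Fin 3) (ZMod p)) = dm d * g * dm d⁻¹ := rfl

theorem gam_mul (d e : Fin 3 → (ZMod p)ˣ) : gam (d * e) = gam d * gam e := by
  apply MulEquiv.ext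
  intro g
  apply Subtype.ext
  show dm (d * e) * (g : Matrix (Fin 3) (Fin 3) (ZMod p)) * dm (d * e)⁻¹ = dm d * (dm e * g * dm e⁻¹) * dm d⁻¹
  rw [dm_mul, _root_.mul_inv_rev, dm_mul]
  simp only [mul_assoc]

theorem gam_one : gam (1 : Fin 3 → (ZMod p)ˣ) = 1 := by
  apply MulEquiv.ext
  intro g
  apply Subtype.ext
  show dm 1 * (g : Matrix (Fin 3) (Fin 3) (ZMod p)) * dm (1 : Fin 3 → (ZMod p)ˣ)⁻¹ =
    (g : Matrix (Fin 3) (Fin 3) (ZMod p))
  rw [_root_.inv_one, dm_one, one_mul, mul_one]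

theorem dm_coe (d : Fin 3 → (ZMod p)ˣ) :
    dm d = !![(d 0 : ZMod p), 0, 0; 0, (d 1 : ZMod p), 0; 0, 0, (d 2 : ZMod p)] := by
  rw [dm]
  ext i j
  fin_cases i <;> fin_cases j <;> rfl

theorem gam_um (d : Fin 3 → (ZMod p)ˣ) (a b c : ZMod p) :
    gam d (um a b c) = um (((d 0 * (d 1)⁻¹ : (ZMod p)ˣ) : ZMod p) * a) (((d 1 * (d 2)⁻¹ : (ZMod p)ˣ) : ZMod p) * b)
      (((d 0 * (d 2)⁻¹ : (ZMod p)ˣ) : ZMod p) * c) := by
  apply Subtype.ext
  rw [gam_coe, um_coe, um_coe, dm_coe, dm_coe]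
  ext i j
  fin_cases i <;> fin_cases j <;>
    simp only [Matrix.mul_apply, Fin.sum_univ_three, Pi.inv_apply, Units.val_mul, Matrix.of_apply, Matrix.cons_val',
      Matrix.cons_val_zero, Matrix.cons_val_one, Matrix.cons_val, Matrix.cons_val_fin_one, Fin.zero_eta, Fin.mk_one,
      Fin.reduceFinMk, mul_zero, zero_mul, add_zero, zero_add, mul_one, Units.mul_inv] <;> ring

/-- the antidiagonal matrix -/
def jm : Matrix (Fin 3) (Fin 3) (ZMod p) := !![0, 0, 1; 0, 1, 0; 1, 0, 0]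

theorem jm_sq : (jm : Matrix (Fin 3) (Fin 3) (ZMod p)) * jm = 1 := by
  rw [jm]
  ext i j
  fin_cases i <;> fin_cases j <;> simp [Matrix.mul_apply, Fin.sum_univ_three]

/-- the graph automorphism, as a homomorphism -/
def tauH : L p →* L p where
  toFun g := ⟨jm * ((g⁻¹ : L p) : Matrix (Fin 3) (Fin 3) (ZMod p))ᵀ * jm, by
    rw [Matrix.det_mul, Matrix.det_mul, Matrix.det_transpose, (g⁻¹).2, mul_one, ← Matrix.det_mul, jm_sq,
      Matrix.det_one]⟩
  map_one' := by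
    apply Subtype.ext
    show jm * (((1 : L p)⁻¹ : L p) : Matrix (Fin 3) (Fin 3) (ZMod p))ᵀ * jm = 1
    rw [_root_.inv_one, Matrix.SpecialLinearGroup.coe_one, Matrix.transpose_one, mul_one, jm_sq]
  map_mul' g h := by
    apply Subtype.ext
    show jm * (((g * h)⁻¹ : L p) : Matrix (Fin 3) (Fin 3) (ZMod p))ᵀ * jm =
      jm * ((g⁻¹ : L p) : Matrix (Fin 3) (Fin 3) (ZMod p))ᵀ * jm * (jm * ((h⁻¹ : L p) : Matrix (Fin 3) (Fin 3) (ZMod p))ᵀ * jm)
    rw [_root_.mul_inv_rev, Matrix.SpecialLinearGroup.coe_mul, Matrix.transpose_mul]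
    calc jm * (((g⁻¹ : L p) : Matrix (Fin 3) (Fin 3) (ZMod p))ᵀ * ((h⁻¹ : L p) : Matrix (Fin 3) (Fin 3) (ZMod p))ᵀ) * jm
        = jm * ((g⁻¹ : L p) : Matrix (Fin 3) (Fin 3) (ZMod p))ᵀ * 1 * ((h⁻¹ : L p) : Matrix (Fin 3) (Fin 3) (ZMod p))ᵀ * jm := by
          simp only [mul_assoc, one_mul]
      _ = _ := by rw [← jm_sq]; simp only [mul_assoc]

theorem tauH_coe (g : L p) : (tauH g : Matrix (Fin 3) (Fin 3) (ZMod p)) =
    jm * ((g⁻¹ : L p) : Matrix (Fin 3) (Fin 3) (ZMod p))ᵀ * jm := rfl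

theorem jm_tr : (jm : Matrix (Fin 3) (Fin 3) (ZMod p))ᵀ = jm := by
  rw [jm]
  ext i j
  fin_cases i <;> fin_cases j <;> simp

theorem tauH_tauH (g : L p) : tauH (tauH g) = g := by
  apply Subtype.ext
  rw [tauH_coe, ← map_inv, tauH_coe, inv_inv, Matrix.transpose_mul, Matrix.transpose_mul, Matrix.transpose_transpose,
    jm_tr]
  calc jm * (jm * ((g : Matrix (Fin 3) (Fin 3) (ZMod p)) * jm)) * jm
      = (jm * jm) * (g : Matrix (Fin 3) (Fin 3) (ZMod p)) * (jm * jm) := by simp only [mul_assoc]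
    _ = (g : Matrix (Fin 3) (Fin 3) (ZMod p)) := by rw [jm_sq, one_mul, mul_one]

/-- the graph automorphism -/
def tau : MulAut (L p) where
  toFun := tauH
  invFun := tauH
  left_inv := tauH_tauH
  right_inv := tauH_tauH
  map_mul' := map_mul tauH

theorem tau_apply (g : L p) : tau g = tauH g := rfl

theorem tau_tau : (tau : MulAut (L p)) * tau = 1 := by
  apply MulEquiv.ext
  intro g
  exact tauH_tauH g

theorem um_inv (a b c : ZMod p) : (um a b c)⁻¹ = um (-a) (-b) (a * b - c) := by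
  rw [inv_eq_iff_mul_eq_one, um_mul]
  apply Subtype.ext
  rw [um_coe]
  ext i j
  fin_cases i <;> fin_cases j <;> simp

theorem jm_conj (M : Matrix (Fin 3) (Fin 3) (ZMod p)) :
    jm * Mᵀ * jm = !![M 2 2, M 1 2, M 0 2; M 2 1, M 1 1, M 0 1; M 2 0, M 1 0, M 0 0] := by
  rw [jm]
  ext i j
  fin_cases i <;> fin_cases j <;>
    simp only [Matrix.mul_apply, Fin.sum_univ_three, Matrix.of_apply, Matrix.cons_val', Matrix.transpose_apply,
      Matrix.cons_val_zero, Matrix.cons_val_one, Matrix.cons_val, Matrix.cons_val_fin_one, Fin.zero_eta, Fin.mk_one,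
      Fin.reduceFinMk, mul_zero, zero_mul, add_zero, zero_add, mul_one, one_mul]

theorem tau_um (a b c : ZMod p) : tau (um a b c) = um (-b) (-a) (a * b - c) := by
  apply Subtype.ext
  rw [tau_apply, tauH_coe, um_inv, um_coe, um_coe, jm_conj]
  rfl

/-- the dual diagonal -/
def st (d : Fin 3 → (ZMod p)ˣ) : Fin 3 → (ZMod p)ˣ := ![(d 2)⁻¹, (d 1)⁻¹, (d 0)⁻¹]

theorem jm_dm (d : Fin 3 → (ZMod p)ˣ) : jm * dm d⁻¹ = dm (st d) * jm := by
  rw [dm_coe, dm_coe, jm]
  ext i j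
  fin_cases i <;> fin_cases j <;>
    simp only [Matrix.mul_apply, Fin.sum_univ_three, Matrix.of_apply, Matrix.cons_val', Pi.inv_apply, st,
      Matrix.cons_val_zero, Matrix.cons_val_one, Matrix.cons_val, Matrix.cons_val_fin_one, Fin.zero_eta, Fin.mk_one,
      Fin.reduceFinMk, mul_zero, zero_mul, add_zero, zero_add, mul_one, one_mul]

theorem dm_jm (d : Fin 3 → (ZMod p)ˣ) : dm d * jm = jm * dm (st d)⁻¹ := by
  rw [dm_coe, dm_coe, jm]
  ext i j
  fin_cases i <;> fin_cases j <;>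
    simp only [Matrix.mul_apply, Fin.sum_univ_three, Matrix.of_apply, Matrix.cons_val', Pi.inv_apply, st, inv_inv,
      Matrix.cons_val_zero, Matrix.cons_val_one, Matrix.cons_val, Matrix.cons_val_fin_one, Fin.zero_eta, Fin.mk_one,
      Fin.reduceFinMk, mul_zero, zero_mul, add_zero, zero_add, mul_one, one_mul]

theorem dm_tr (d : Fin 3 → (ZMod p)ˣ) : (dm d)ᵀ = dm d := by
  rw [dm, Matrix.diagonal_transpose]

theorem tau_gam (d : Fin 3 → (ZMod p)ˣ) : tau * gam d = gam (st d) * tau := by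
  apply MulEquiv.ext
  intro g
  apply Subtype.ext
  show (tauH (gam d g) : Matrix (Fin 3) (Fin 3) (ZMod p)) = dm (st d) * (tauH g) * dm (st d)⁻¹
  rw [tauH_coe, tauH_coe, ← map_inv, gam_coe, Matrix.transpose_mul, Matrix.transpose_mul, dm_tr, dm_tr]
  calc jm * (dm d⁻¹ * (((g⁻¹ : L p) : Matrix (Fin 3) (Fin 3) (ZMod p))ᵀ * dm d)) * jm
      = (jm * dm d⁻¹) * ((g⁻¹ : L p) : Matrix (Fin 3) (Fin 3) (ZMod p))ᵀ * (dm d * jm) := by simp only [mul_assoc]
    _ = (dm (st d) * jm) * ((g⁻¹ : L p) : Matrix (Fin 3) (Fin 3) (ZMod p))ᵀ * (jm * dm (st d)⁻¹) := by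
        rw [jm_dm d, dm_jm d]
    _ = _ := by simp only [mul_assoc]

/-- the group of diagonal-graph automorphisms -/
def Gf (p : ℕ) [Fact p.Prime] : Subgroup (MulAut (L p)) where
  carrier := {γ | ∃ d, γ = gam d ∨ γ = gam d * tau}
  one_mem' := ⟨1, Or.inl gam_one.symm⟩
  mul_mem' := by
    rintro _ _ ⟨d, rfl | rfl⟩ ⟨e, rfl | rfl⟩
    · exact ⟨d * e, Or.inl (gam_mul d e).symm⟩
    · exact ⟨d * e, Or.inr (by rw [gam_mul, mul_assoc])⟩
    · exact ⟨d * st e, Or.inr (by rw [gam_mul, mul_assoc, mul_assoc, tau_gam])⟩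
    · refine ⟨d * st e, Or.inl ?_⟩
      rw [gam_mul]
      calc gam d * tau * (gam e * tau) = gam d * (tau * gam e) * tau := by simp only [mul_assoc]
        _ = gam d * gam (st e) * (tau * tau) := by rw [tau_gam]; simp only [mul_assoc]
        _ = gam d * gam (st e) := by rw [tau_tau, mul_one]
  inv_mem' := by
    have hst : ∀ d : Fin 3 → (ZMod p)ˣ, st (st d) = d := by
      intro d
      funext i
      fin_cases i <;> simp [st]
    rintro _ ⟨d, rfl | rfl⟩
    · refine ⟨d⁻¹, Or.inl ?_⟩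
      rw [inv_eq_iff_mul_eq_one, ← gam_mul, mul_inv_cancel, gam_one]
    · refine ⟨(st d)⁻¹, Or.inr ?_⟩
      rw [inv_eq_iff_mul_eq_one]
      have h1 : tau * gam (st d)⁻¹ = gam (st (st d)⁻¹) * tau := tau_gam _
      have h2 : st (st d)⁻¹ = d⁻¹ := by
        funext i
        fin_cases i <;> simp [st]
      calc gam d * tau * (gam (st d)⁻¹ * tau) = gam d * (tau * gam (st d)⁻¹) * tau := by simp only [mul_assoc]
        _ = gam d * gam d⁻¹ * (tau * tau) := by rw [h1, h2]; simp only [mul_assoc]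
        _ = 1 := by rw [tau_tau, mul_one, ← gam_mul, mul_inv_cancel, gam_one]

theorem mem_Gf {γ : MulAut (L p)} : γ ∈ Gf p ↔ ∃ d, γ = gam d ∨ γ = gam d * tau := Iff.rfl

/-- `gam` as a homomorphism -/
def gamH : (Fin 3 → (ZMod p)ˣ) →* MulAut (L p) where
  toFun := gam
  map_one' := gam_one
  map_mul' := gam_mul

theorem gam_pow (d : Fin 3 → (ZMod p)ˣ) : gam d ^ (p - 1) = 1 := by
  have h1 : gam (d ^ (p - 1)) = gam d ^ (p - 1) := map_pow gamH d (p - 1)
  rw [← h1]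
  have h2 : d ^ (p - 1) = 1 := by
    funext i
    exact ZMod.units_pow_card_sub_one_eq_one p (d i)
  rw [h2, gam_one]

theorem pow_Gf {γ : MulAut (L p)} (h : γ ∈ Gf p) : γ ^ (2 * (p - 1)) = 1 := by
  obtain ⟨d, rfl | rfl⟩ := h
  · rw [mul_comm, pow_mul, gam_pow, one_pow]
  · have h1 : (gam d * tau) ^ 2 = gam (d * st d) := by
      rw [pow_two, gam_mul]
      calc gam d * tau * (gam d * tau) = gam d * (tau * gam d) * tau := by simp only [mul_assoc]
        _ = gam d * gam (st d) * (tau * tau) := by rw [tau_gam]; simp only [mul_assoc]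
        _ = gam d * gam (st d) := by rw [tau_tau, mul_one]
    rw [pow_mul, h1, gam_pow]

/-- the order of a subgroup of `Gf` is prime to `p` -/
theorem not_dvd_card_Gf (hp2 : p ≠ 2) (Γ : Subgroup (MulAut (L p))) (hΓ : Γ ≤ Gf p) : ¬ p ∣ Nat.card Γ := by
  intro h
  obtain ⟨x, hx⟩ := exists_prime_orderOf_dvd_card' p h
  have h1 : (x : MulAut (L p)) ^ (2 * (p - 1)) = 1 := pow_Gf (hΓ x.2)
  have h2 : x ^ (2 * (p - 1)) = 1 := Subtype.ext (by rw [Subgroup.coe_pow, h1]; rfl)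
  have h3 := orderOf_dvd_of_pow_eq_one h2
  rw [hx] at h3
  rcases (Nat.Prime.dvd_mul hp.out).1 h3 with h4 | h4
  · exact hp2 ((Nat.prime_dvd_prime_iff_eq hp.out Nat.prime_two).1 h4)
  · have h5 := Nat.le_of_dvd (by have := hp.out.two_le; omega) h4
    have := hp.out.two_le
    omega

end Cfsg.Agent.H771.RV
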