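import Cfsg.Agent.H771.RVGroup

/-!
# Ruiz–Viruel systems with two radical lines: the group (helper771)

`exists_group` : for `Dat H A` there is a finite group `G` with Sylow subgroup `S`, `Aut_G(S) = A`, and the noncentral
elements of `S` fused into the centre are those with `a = 0` or `b = 0`.
-/

set_option autoImplicit false

namespace Cfsg.Agent.H771.RV

open Cfsg.Agent.H780 SemidirectProduct

variable {p : ℕ} [hp : Fact p.Prime] {S : Type*} [Group S] (H : HeisCoord S (ZMod p)) (A : Subgroup (MulAut S))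

/-- the automorphisms of `SL₃(p)` -/
def Gam : Subgroup (MulAut (L p)) where
  carrier := {γ | γ ∈ Gf p ∧ ∃ β ∈ A, ∀ s, i0 H (β s) = γ (i0 H s)}
  one_mem' := ⟨one_mem _, 1, one_mem _, fun s => rfl⟩
  mul_mem' := by
    rintro γ δ ⟨h1, α, hα, h2⟩ ⟨h3, β, hβ, h4⟩
    exact ⟨mul_mem h1 h3, α * β, mul_mem hα hβ, fun s => by rw [MulAut.mul_apply, h2, h4, MulAut.mul_apply]⟩
  inv_mem' := by
    rintro γ ⟨h1, α, hα, h2⟩
    refine ⟨inv_mem h1, α⁻¹, inv_mem hα, fun s => ?_⟩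
    apply γ.injective
    rw [← h2]
    show i0 H (α (α⁻¹ s)) = γ (γ⁻¹ (i0 H s))
    rw [MulAut.apply_inv_self, MulAut.apply_inv_self]

theorem mem_Gam {γ : MulAut (L p)} : γ ∈ Gam H A ↔ γ ∈ Gf p ∧ ∃ β ∈ A, ∀ s, i0 H (β s) = γ (i0 H s) := Iff.rfl

theorem Gam_le : Gam H A ≤ Gf p := fun _ h => h.1

/-- the group -/
abbrev GG := SemidirectProduct (L p) (Gam H A) (Gam H A).subtype

instance finite_GG : Finite (GG H A) := Finite.of_equiv _ SemidirectProduct.equivProd.symm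

theorem conj_inl (g : GG H A) (x : L p) :
    g * inl x * g⁻¹ = inl (g.left * (g.right : MulAut (L p)) x * g.left⁻¹) := by
  have h1 : g = inl g.left * inr g.right := (inl_left_mul_inr_right g).symm
  have h2 : (inl ((Gam H A).subtype g.right x) : GG H A) = inr g.right * inl x * inr g.right⁻¹ := inl_aut _ _
  rw [map_mul, map_mul, map_inv]
  have h3 : ((g.right : MulAut (L p)) x) = (Gam H A).subtype g.right x := rfl
  rw [h3, h2]
  conv_lhs => rw [h1]
  rw [mul_inv_rev, map_inv]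
  group

include H in
theorem card_S : Nat.card S = p ^ 3 := by
  have h1 : Function.Bijective (fun s : S => (H.a s, H.b s, H.c s)) := by
    constructor
    · intro s t h
      simp only [Prod.mk.injEq] at h
      exact H.inj s t h.1 h.2.1 h.2.2
    · rintro ⟨a, b, c⟩
      obtain ⟨s, h1, h2, h3⟩ := H.surj a b c
      exact ⟨s, by simp only [h1, h2, h3]⟩
  rw [Nat.card_congr (Equiv.ofBijective _ h1), Nat.card_prod, Nat.card_prod, Nat.card_zmod]
  ring

theorem card_sylow_L (T : Sylow p (L p)) : Nat.card T = p ^ 3 := by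
  obtain ⟨e⟩ := exists_equiv_upper (K := ZMod p) p 3 T
  rw [Nat.card_congr e.toEquiv, Cfsg.Agent.ClassicalGeometry.AutPSL.SylowU.card_upper, ZMod.card]

/-- `S` is a Sylow subgroup -/
theorem exists_sylow [Finite S] (hp2 : p ≠ 2) (B : Subgroup (MulAut S)) :
    ∃ T : Sylow p (GG H B), (T : Subgroup (GG H B)) = ((inl : L p →* GG H B).comp (i0 H)).range := by
  have hinj : Function.Injective ((inl : L p →* GG H B).comp (i0 H)) := inl_injective.comp (i0_inj H)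
  have hc : Nat.card ((inl : L p →* GG H B).comp (i0 H)).range = p ^ 3 := by
    rw [← card_S H]
    exact (Nat.card_congr (MonoidHom.ofInjective hinj).toEquiv).symm
  have hpg : IsPGroup p ((inl : L p →* GG H B).comp (i0 H)).range := IsPGroup.of_card hc
  obtain ⟨T, hT⟩ := hpg.exists_le_sylow
  refine ⟨T, (Subgroup.eq_of_le_of_card_ge hT ?_).symm⟩
  obtain ⟨k, hk⟩ := IsPGroup.iff_card.1 T.isPGroup'
  have h1 : p ^ k ∣ Nat.card (GG H B) := by rw [← hk]; exact Subgroup.card_subgroup_dvd_card _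
  have h2 : Nat.card (GG H B) = Nat.card (L p) * Nat.card (Gam H B) := by
    rw [Nat.card_congr SemidirectProduct.equivProd, Nat.card_prod]
  rw [h2] at h1
  have h3 : Nat.Coprime (p ^ k) (Nat.card (Gam H B)) :=
    Nat.Coprime.pow_left _ ((Nat.Prime.coprime_iff_not_dvd hp.out).2 (not_dvd_card_Gf hp2 _ (Gam_le H B)))
  have h4 : p ^ k ∣ Nat.card (L p) := h3.dvd_of_dvd_mul_right h1
  obtain ⟨Q, hQ⟩ := Sylow.exists_subgroup_card_pow_prime p h4
  obtain ⟨R, hR⟩ := (IsPGroup.of_card hQ).exists_le_sylow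
  have h5 := Subgroup.card_le_of_le hR
  rw [hQ] at h5
  have h6 : Nat.card (R : Subgroup (L p)) = p ^ 3 := card_sylow_L R
  rw [h6] at h5
  rw [hk, hc]
  exact h5

/-- an element conjugating the centre to itself is upper triangular -/
theorem upper_of {k : L p} {c c' : ZMod p} (hc : c ≠ 0) (hc' : c' ≠ 0) (h : k * um 0 0 c * k⁻¹ = um 0 0 c') :
    (k : Matrix (Fin 3) (Fin 3) (ZMod p)) 1 0 = 0 ∧ (k : Matrix (Fin 3) (Fin 3) (ZMod p)) 2 0 = 0 ∧
      (k : Matrix (Fin 3) (Fin 3) (ZMod p)) 2 1 = 0 := by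
  rw [mul_inv_eq_iff_eq_mul] at h
  have h1 := congrArg (fun g : L p => (g : Matrix (Fin 3) (Fin 3) (ZMod p))) h
  simp only [Matrix.SpecialLinearGroup.coe_mul, um_coe] at h1
  have e1 := congrFun (congrFun h1 1) 2
  have e2 := congrFun (congrFun h1 2) 2
  have e3 := congrFun (congrFun h1 0) 1
  simp [Matrix.mul_apply, Fin.sum_univ_three, hc, hc'] at e1 e2 e3
  exact ⟨e1, e2, e3⟩

/-- an upper triangular element -/
theorem tri_eq {k : L p} (h10 : (k : Matrix (Fin 3) (Fin 3) (ZMod p)) 1 0 = 0)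
    (h20 : (k : Matrix (Fin 3) (Fin 3) (ZMod p)) 2 0 = 0) (h21 : (k : Matrix (Fin 3) (Fin 3) (ZMod p)) 2 1 = 0) :
    ∃ (d : Fin 3 → (ZMod p)ˣ) (a b c : ZMod p), d 0 * d 1 * d 2 = 1 ∧
      ∀ x : L p, k * x * k⁻¹ = um a b c * gam d x * (um a b c)⁻¹ := by
  have hdet := k.2
  rw [Matrix.det_fin_three, h10, h20, h21] at hdet
  simp only [mul_zero, zero_mul, sub_zero, add_zero] at hdet
  have h0 : (k : Matrix (Fin 3) (Fin 3) (ZMod p)) 0 0 ≠ 0 := by
    intro h; rw [h] at hdet; simp at hdet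
  have h1 : (k : Matrix (Fin 3) (Fin 3) (ZMod p)) 1 1 ≠ 0 := by
    intro h; rw [h] at hdet; simp at hdet
  have h2 : (k : Matrix (Fin 3) (Fin 3) (ZMod p)) 2 2 ≠ 0 := by
    intro h; rw [h] at hdet; simp at hdet
  let d : Fin 3 → (ZMod p)ˣ := ![Units.mk0 _ h0, Units.mk0 _ h1, Units.mk0 _ h2]
  have hd : d 0 * d 1 * d 2 = 1 := by
    apply Units.ext
    simpa [d] using hdet
  have hd' : (d⁻¹) 0 * (d⁻¹) 1 * (d⁻¹) 2 = 1 := by
    show (d 0)⁻¹ * (d 1)⁻¹ * (d 2)⁻¹ = 1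
    rw [← mul_inv, ← mul_inv, hd, inv_one]
  have hdm : ∀ e : Fin 3 → (ZMod p)ˣ, e 0 * e 1 * e 2 = 1 → (dm e).det = 1 := by
    intro e he
    rw [dm_coe, Matrix.det_fin_three]
    simp only [Matrix.of_apply, Matrix.cons_val', Matrix.cons_val_zero, Matrix.cons_val_one, Matrix.cons_val,
      Matrix.cons_val_fin_one, mul_zero, zero_mul, add_zero, sub_zero]
    rw [← Units.val_mul, ← Units.val_mul, he, Units.val_one]
  let δ : L p := ⟨dm d, hdm d hd⟩
  have hδ : δ⁻¹ = (⟨dm d⁻¹, hdm _ hd'⟩ : L p) := inv_eq_of_mul_eq_one_right (Subtype.ext (dm_mul_inv d))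
  have hg : ∀ x : L p, gam d x = δ * x * δ⁻¹ := by
    intro x
    rw [hδ]
    exact Subtype.ext rfl
  refine ⟨d, (k : Matrix (Fin 3) (Fin 3) (ZMod p)) 0 1 / (k : Matrix (Fin 3) (Fin 3) (ZMod p)) 1 1,
    (k : Matrix (Fin 3) (Fin 3) (ZMod p)) 1 2 / (k : Matrix (Fin 3) (Fin 3) (ZMod p)) 2 2,
    (k : Matrix (Fin 3) (Fin 3) (ZMod p)) 0 2 / (k : Matrix (Fin 3) (Fin 3) (ZMod p)) 2 2, hd, fun x => ?_⟩
  rw [hg]
  have hk : k = um ((k : Matrix (Fin 3) (Fin 3) (ZMod p)) 0 1 / (k : Matrix (Fin 3) (Fin 3) (ZMod p)) 1 1)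
    ((k : Matrix (Fin 3) (Fin 3) (ZMod p)) 1 2 / (k : Matrix (Fin 3) (Fin 3) (ZMod p)) 2 2)
    ((k : Matrix (Fin 3) (Fin 3) (ZMod p)) 0 2 / (k : Matrix (Fin 3) (Fin 3) (ZMod p)) 2 2) * δ := by
    apply Subtype.ext
    rw [Matrix.SpecialLinearGroup.coe_mul, um_coe]
    show (k : Matrix (Fin 3) (Fin 3) (ZMod p)) = _ * dm d
    rw [dm_coe]
    ext i j
    fin_cases i <;> fin_cases j <;>
      simp [Matrix.mul_apply, Fin.sum_univ_three, d, h1, h2, h10, h20, h21]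
  conv_lhs => rw [hk]
  group

theorem um_zero_ne {c : ZMod p} (hc : c ≠ 0) : um 0 0 c ≠ (1 : L p) := by
  intro h
  apply hc
  have h1 := congrFun (congrFun (congrArg (fun g : L p => (g : Matrix (Fin 3) (Fin 3) (ZMod p))) h) 0) 2
  simpa [um_coe] using h1

variable {H A}

/-- `Aut_G(S) = A` -/
theorem Dat.mem_iff [Finite S] (D : Dat H A) (α : MulAut S) :
    α ∈ A ↔ ∃ g : GG H A, ∀ s, (inl (i0 H (α s)) : GG H A) = g * inl (i0 H s) * g⁻¹ := by
  constructor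
  · intro hα
    obtain ⟨γ, hγ, u, β, hβ, hu⟩ := D.exists_Gf hα
    have hβA : β ∈ A := D.of_conj_mem hα hu
    refine ⟨⟨i0 H u, ⟨γ, hγ, β, hβA, hβ⟩⟩, fun s => ?_⟩
    rw [conj_inl]
    show (inl (i0 H (α s)) : GG H A) = inl (i0 H u * γ (i0 H s) * (i0 H u)⁻¹)
    rw [hu, map_mul (i0 H), map_mul (i0 H), map_inv (i0 H), hβ]
  · rintro ⟨g, hg⟩
    obtain ⟨-, β, hβA, hβ⟩ := g.right.2
    have h1 : ∀ s, i0 H (α s) = g.left * i0 H (β s) * g.left⁻¹ := by
      intro s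
      have := hg s
      rw [conj_inl, inl_inj] at this
      rw [this, hβ]
    have h2 : ∀ s, i0 H ((α * β⁻¹) s) = g.left * i0 H s * g.left⁻¹ := by
      intro s
      rw [MulAut.mul_apply, h1, MulAut.apply_inv_self]
    obtain ⟨z, hz1, hz2, hz3⟩ := H.surj 0 0 1
    have hz4 := (H.central_iff ((α * β⁻¹) z)).1 (fun y => by
      have h3 : ∀ y, y * z = z * y := (H.central_iff z).2 ⟨hz1, hz2⟩
      have h4 := congrArg (α * β⁻¹) (h3 ((α * β⁻¹).symm y))
      rwa [map_mul, map_mul, MulEquiv.apply_symm_apply] at h4)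
    have h5 := h2 z
    rw [i0_apply, i0_apply, hz4.1, hz4.2, hz1, hz2, hz3] at h5
    have h6 : H.c ((α * β⁻¹) z) ≠ 0 := by
      intro h
      rw [h] at h5
      have h7 : um 0 0 (0 : ZMod p) = (1 : L p) := by
        have := i0_apply H (1 : S)
        rw [map_one, H.a_one, H.b_one] at this
        apply Subtype.ext
        rw [um_coe]
        ext i j
        fin_cases i <;> fin_cases j <;> simp
      rw [h7] at h5
      have h8 : um 0 0 (1 : ZMod p) = (1 : L p) := by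
        have := h5.symm
        rwa [conj_eq_one_iff] at this
      exact um_zero_ne one_ne_zero h8
    obtain ⟨h7, h8, h9⟩ := upper_of one_ne_zero h6 h5.symm
    obtain ⟨d, a, b, c, hd, hk⟩ := tri_eq h7 h8 h9
    obtain ⟨u, hu⟩ := um_eq H a b c
    obtain ⟨δ, hδA, hδ⟩ := D.gam_mem d hd
    have h10 : α * β⁻¹ ∈ A := by
      apply D.conj_mem hδA (u := u)
      intro s
      apply i0_inj H
      rw [h2, hk, map_mul, map_mul, map_inv, hδ, hu]
    have h11 : α = α * β⁻¹ * β := by group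
    rw [h11]
    exact A.mul_mem h10 hβA

theorem nil_of_conj {a b c c' : ZMod p} {k' : L p} (h0 : k' * um a b c * k'⁻¹ = um 0 0 c') : a * b = 0 := by
  obtain ⟨k, hk⟩ : ∃ k, k = k'⁻¹ := ⟨_, rfl⟩
  have h : um a b c * k = k * um 0 0 c' := by
    rw [← h0, hk]; group
  have h1 : (um a b c : Matrix (Fin 3) (Fin 3) (ZMod p)) * k = k * um 0 0 c' := by
    rw [← Matrix.SpecialLinearGroup.coe_mul, h, Matrix.SpecialLinearGroup.coe_mul]
  have h2 : ((um a b c : Matrix (Fin 3) (Fin 3) (ZMod p)) - 1) * k = k * ((um 0 0 c' : Matrix (Fin 3) (Fin 3) (ZMod p)) - 1) := by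
    rw [sub_mul, mul_sub, h1, one_mul, mul_one]
  have h3 : ((um 0 0 c' : Matrix (Fin 3) (Fin 3) (ZMod p)) - 1) * ((um 0 0 c' : Matrix (Fin 3) (Fin 3) (ZMod p)) - 1) = 0 := by
    rw [um_coe]
    ext i j
    fin_cases i <;> fin_cases j <;> simp [Matrix.mul_apply, Fin.sum_univ_three, Matrix.one_apply]
  have h4 : ((um a b c : Matrix (Fin 3) (Fin 3) (ZMod p)) - 1) * ((um a b c : Matrix (Fin 3) (Fin 3) (ZMod p)) - 1) * k = 0 := by
    rw [mul_assoc, h2, ← mul_assoc, h2, mul_assoc, h3, mul_zero]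
  have h5 : ((um a b c : Matrix (Fin 3) (Fin 3) (ZMod p)) - 1) * ((um a b c : Matrix (Fin 3) (Fin 3) (ZMod p)) - 1) = 0 := by
    have h6 : (k : Matrix (Fin 3) (Fin 3) (ZMod p)) * (k⁻¹ : L p) = 1 := by
      rw [← Matrix.SpecialLinearGroup.coe_mul, mul_inv_cancel, Matrix.SpecialLinearGroup.coe_one]
    calc ((um a b c : Matrix (Fin 3) (Fin 3) (ZMod p)) - 1) * ((um a b c : Matrix (Fin 3) (Fin 3) (ZMod p)) - 1)
        = ((um a b c : Matrix (Fin 3) (Fin 3) (ZMod p)) - 1) * ((um a b c : Matrix (Fin 3) (Fin 3) (ZMod p)) - 1) *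
            ((k : Matrix (Fin 3) (Fin 3) (ZMod p)) * (k⁻¹ : L p)) := by rw [h6, mul_one]
      _ = 0 := by rw [← mul_assoc, h4, zero_mul]
  have h6 := congrFun (congrFun h5 0) 2
  rw [um_coe] at h6
  simpa [Matrix.mul_apply, Fin.sum_univ_three, Matrix.one_apply] using h6

theorem conj_a {b c : ZMod p} (hb : b ≠ 0) : ∃ k : L p, k * um 0 b c * k⁻¹ = um 0 0 b := by
  have hk : ∃ k : L p, (k : Matrix (Fin 3) (Fin 3) (ZMod p)) = !![0, 1, 0; -1, c / b, 0; 0, 0, 1] :=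
    ⟨⟨!![0, 1, 0; -1, c / b, 0; 0, 0, 1], by simp [Matrix.det_fin_three]⟩, rfl⟩
  obtain ⟨k, hk⟩ := hk
  refine ⟨k, ?_⟩
  rw [mul_inv_eq_iff_eq_mul]
  apply Subtype.ext
  rw [Matrix.SpecialLinearGroup.coe_mul, Matrix.SpecialLinearGroup.coe_mul, um_coe, um_coe, hk]
  ext i j
  fin_cases i <;> fin_cases j <;> simp [Matrix.mul_apply, Fin.sum_univ_three, hb]

theorem conj_b {a c : ZMod p} (ha : a ≠ 0) : ∃ k : L p, k * um a 0 c * k⁻¹ = um 0 0 (-a) := by
  have hk : ∃ k : L p, (k : Matrix (Fin 3) (Fin 3) (ZMod p)) = !![1, 0, 0; 0, 0, 1; 0, -1, -(c / a)] :=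
    ⟨⟨!![1, 0, 0; 0, 0, 1; 0, -1, -(c / a)], by simp [Matrix.det_fin_three]⟩, rfl⟩
  obtain ⟨k, hk⟩ := hk
  refine ⟨k, ?_⟩
  rw [mul_inv_eq_iff_eq_mul]
  apply Subtype.ext
  rw [Matrix.SpecialLinearGroup.coe_mul, Matrix.SpecialLinearGroup.coe_mul, um_coe, um_coe, hk]
  ext i j
  fin_cases i <;> fin_cases j <;> simp [Matrix.mul_apply, Fin.sum_univ_three]
  field_simp

theorem exists_z (H : HeisCoord S (ZMod p)) (c : ZMod p) : ∃ z, H.a z = 0 ∧ H.b z = 0 ∧ i0 H z = um 0 0 c := by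
  obtain ⟨z, h1, h2, h3⟩ := H.surj 0 0 c
  exact ⟨z, h1, h2, by rw [i0_apply, h1, h2, h3]⟩

/-- the noncentral elements fused into the centre -/
theorem fused_iff (H : HeisCoord S (ZMod p)) (B : Subgroup (MulAut S)) {s : S} (hs : ¬ (H.a s = 0 ∧ H.b s = 0)) :
    (∃ (g : GG H B) (z : S), H.a z = 0 ∧ H.b z = 0 ∧ g * inl (i0 H s) * g⁻¹ = (inl (i0 H z) : GG H B)) ↔
      H.a s = 0 ∨ H.b s = 0 := by
  constructor
  · rintro ⟨g, z, hz1, hz2, h⟩
    rw [conj_inl, inl_inj, i0_apply H z, hz1, hz2] at h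
    obtain ⟨⟨d, hd | hd⟩, -⟩ := g.right.2
    · rw [hd, i0_apply, gam_um] at h
      have h1 := nil_of_conj h
      rw [mul_mul_mul_comm, ← Units.val_mul, Units.mul_right_eq_zero, mul_eq_zero] at h1
      exact h1
    · rw [hd, i0_apply, MulAut.mul_apply, tau_um, gam_um] at h
      have h1 := nil_of_conj h
      rw [mul_mul_mul_comm, ← Units.val_mul, Units.mul_right_eq_zero, neg_mul_neg, mul_eq_zero] at h1
      exact h1.symm
  · rintro (h | h)
    · have h2 : H.b s ≠ 0 := fun h' => hs ⟨h, h'⟩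
      obtain ⟨k, hk⟩ := conj_a (c := H.c s) h2
      obtain ⟨z, hz1, hz2, hz3⟩ := exists_z H (H.b s)
      refine ⟨inl k, z, hz1, hz2, ?_⟩
      rw [← map_inv, ← map_mul, ← map_mul, i0_apply, h, hk, hz3]
    · have h2 : H.a s ≠ 0 := fun h' => hs ⟨h', h⟩
      obtain ⟨k, hk⟩ := conj_b (c := H.c s) h2
      obtain ⟨z, hz1, hz2, hz3⟩ := exists_z H (-H.a s)
      refine ⟨inl k, z, hz1, hz2, ?_⟩
      rw [← map_inv, ← map_mul, ← map_mul, i0_apply, h, hk, hz3]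

/-- **The group of a Ruiz–Viruel system with two radical lines.** -/
theorem exists_group [Finite S] (hp2 : p ≠ 2) (D : Dat H A) :
    ∃ (G : Type) (_ : Group G) (_ : Finite G) (ι : S →* G), Function.Injective ι ∧
      (∃ T : Sylow p G, (T : Subgroup G) = ι.range) ∧
      (∀ α : MulAut S, α ∈ A ↔ ∃ g : G, ∀ s, ι (α s) = g * ι s * g⁻¹) ∧
      ∀ s : S, ¬ (H.a s = 0 ∧ H.b s = 0) →
        ((∃ (g : G) (z : S), H.a z = 0 ∧ H.b z = 0 ∧ g * ι s * g⁻¹ = ι z) ↔ (H.a s = 0 ∨ H.b s = 0)) :=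
  ⟨GG H A, inferInstance, inferInstance, (inl : L p →* GG H A).comp (i0 H), inl_injective.comp (i0_inj H),
    exists_sylow H hp2 A, fun α => D.mem_iff α, fun _ hs => fused_iff H A hs⟩

end Cfsg.Agent.H771.RV
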