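import Cfsg.Agent.H771.RVCases
import Cfsg.Agent.H773.PredSys
import Cfsg.Agent.H771.ModelUnique
import Cfsg.Agent.H780.Heis

/-!
# Systems with at most one radical line are realizable (helper771)
-/

set_option autoImplicit false

universe u

namespace Cfsg.Agent.H771.RV

open Cfsg Cfsg.FusionSystem Cfsg.Agent.H275.Heis Cfsg.Agent.H773.Rv Subgroup Cfsg.Agent.H802

variable {p : ℕ} [hp : Fact p.Prime] {Ω : Type u} [Group Ω] {S : Subgroup Ω} (D : HData p S) {F : FusionSystem S}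

theorem mem_Z {x : Ω} : x ∈ centralizerIn S S ↔ x ∈ S ∧ InZ S x :=
  ⟨fun h => ⟨h.1, fun s hs => Subgroup.mem_centralizer_iff.1 h.2 s hs⟩,
    fun h => ⟨h.1, Subgroup.mem_centralizer_iff.2 fun s hs => h.2 s hs⟩⟩

theorem Z_le_lineOf (l : Submodule (ZMod p) (Fin 2 → ZMod p)) : centralizerIn S S ≤ lineOf D l := by
  intro x hx
  rw [mem_Z] at hx
  refine ⟨hx.1, ?_⟩
  rw [(inZ_iff D ⟨x, hx.1⟩).1 hx.2]
  exact l.zero_mem

/-- a realizable constrained system -/
theorem realizable_of_normal [Finite S] (hS : IsPGroup p S) (hF : F.IsSaturated p) {Q : Subgroup Ω}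
    (hQn : F.IsNormal Q) (hQc : F.IsCentric Q) : F.IsRealizable p := by
  obtain ⟨L, hL, ι, ⟨h1, h2, h3, -⟩, -, -⟩ := exists_model hS hF hQn hQc
  exact ⟨L, hL, h1, ι, h2, h3⟩

/-- a predicate gives a strongly closed subgroup -/
theorem stronglyClosed_of [Finite S] (hS : IsPGroup p S) (hF : F.IsSaturated p) {Q : Subgroup Ω} (hQ : Q ≤ S)
    (hconj : ∀ s ∈ S, ∀ x, s * x * s⁻¹ ∈ Q ↔ x ∈ Q)
    (hact : ∀ R ≤ S, centralizerIn S R ≤ R → ∀ α ∈ F.autGroup R, ∀ x : R, ((α x : R) : Ω) ∈ Q ↔ (x : Ω) ∈ Q) :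
    F.StronglyClosed Q :=
  ⟨hQ, fun _ hR _ hφ x => (Cfsg.Agent.H773.pred_invariant hS hF (fun x => x ∈ Q) hconj
    (fun R hR hc _ α hα x => hact R hR hc α hα x) hφ x).2 (hR x.2)⟩

theorem aut_inZ_iff {V : Subgroup Ω} (h : ¬ Rad F V) {α : MulAut V} (hα : α ∈ F.autGroup V) (x : V) :
    InZ S ((α x : V) : Ω) ↔ InZ S (x : Ω) := by
  constructor
  · intro h1
    by_contra h2
    apply h
    refine ⟨α⁻¹, inv_mem hα, α x, h1, ?_⟩
    rw [MulAut.inv_apply_self]
    exact h2
  · intro h1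
    by_contra h2
    exact h ⟨α, hα, x, h1, h2⟩

theorem conj_S_mem {Q : Subgroup Ω} (h : S ≤ normalizer (Q : Set Ω)) : ∀ s ∈ S, ∀ x, s * x * s⁻¹ ∈ Q ↔ x ∈ Q :=
  fun s hs x => (Subgroup.mem_normalizer_iff.1 (h hs) x).symm

theorem realizable_of_empty [Finite S] (hS : IsPGroup p S) (hF : F.IsSaturated p) (h : LL F D = ∅) :
    F.IsRealizable p := by
  have hZ : F.StronglyClosed (centralizerIn S S) := by
    refine stronglyClosed_of hS hF inf_le_left ?_ ?_
    · rintro s hs x
      constructor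
      · intro h1
        have h2 := (mem_Z.1 h1).2 s hs
        have h3 : x = s * x * s⁻¹ := by
          calc x = s⁻¹ * (s * x * s⁻¹ * s) := by group
            _ = s⁻¹ * (s * (s * x * s⁻¹)) := by rw [h2]
            _ = s * x * s⁻¹ := by group
        rw [h3]; exact h1
      · intro h1
        have h2 := (mem_Z.1 h1).2 s hs
        rw [h2, mul_inv_cancel_right]; exact h1
    · intro R hR hRc α hα x
      rcases cent_cases D hR hRc with rfl | ⟨l, hl, rfl⟩
      · rw [mem_Z, mem_Z]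
        exact ⟨fun h1 => ⟨x.2, (inZ_aut α x).1 h1.2⟩, fun h1 => ⟨(α x).2, (inZ_aut α x).2 h1.2⟩⟩
      · have h1 : ¬ Rad F (lineOf D l) := by
          intro h2
          have h3 : l ∈ LL F D := ⟨hl, h2⟩
          rw [h] at h3
          exact h3
        rw [mem_Z, mem_Z]
        exact ⟨fun h2 => ⟨x.2.1, (aut_inZ_iff h1 hα x).1 h2.2⟩, fun h2 => ⟨(α x).2.1, (aut_inZ_iff h1 hα x).2 h2.2⟩⟩
  have hSn : F.IsNormal S := by
    refine Cfsg.Agent.H759.isNormal_of_chain hS hF 2
      (fun i => if i = 0 then ⊥ else if i = 1 then centralizerIn S S else S) (by simp) (by simp) ?_ ?_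
    · intro i hi
      rcases Nat.eq_zero_or_pos i with h0 | h0
      · simp only [h0, if_true]; exact Cfsg.Agent.H759.StronglyClosed.bot
      · rcases eq_or_ne i 1 with h1 | h1
        · simp only [h1, if_neg one_ne_zero, if_true]; exact hZ
        · simp only [if_neg (show i ≠ 0 by omega), if_neg h1]
          exact ⟨le_rfl, fun R _ φ hφ x => hom_apply_mem hφ x⟩
    · intro i hi
      have : i = 0 ∨ i = 1 := by omega
      rcases this with rfl | rfl
      · simp only [zero_add, if_neg one_ne_zero, if_true]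
        rw [Subgroup.commutator_le]
        intro a ha b hb
        rw [Subgroup.mem_bot, commutatorElement_def, (mem_Z.1 hb).2 a ha]
        group
      · simp only [if_neg one_ne_zero, if_true]
        rw [Subgroup.commutator_le]
        intro a ha b hb
        have h1 := D.comm_mem ⟨a, ha⟩ ⟨b, hb⟩
        rw [Subgroup.mem_center_iff] at h1
        rw [mem_Z]
        refine ⟨S.mul_mem (S.mul_mem (S.mul_mem ha hb) (S.inv_mem ha)) (S.inv_mem hb), fun s hs => ?_⟩
        exact congrArg Subtype.val (h1 ⟨s, hs⟩)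
  refine realizable_of_normal hS hF hSn ?_
  exact Cfsg.Agent.H780.isCentric_of_stronglyClosed ⟨le_rfl, fun R _ φ hφ x => hom_apply_mem hφ x⟩ inf_le_left

theorem lineOf_inf {l l' : Submodule (ZMod p) (Fin 2 → ZMod p)} (hl : Module.finrank (ZMod p) l = 1)
    (hl' : Module.finrank (ZMod p) l' = 1) (hne : l ≠ l') {x : Ω} (h1 : x ∈ lineOf D l) (h2 : x ∈ lineOf D l') :
    InZ S x := by
  obtain ⟨hx, h1⟩ := h1
  obtain ⟨hx', h2⟩ := h2
  rw [inZ_iff D ⟨x, hx⟩]
  by_contra h0
  exact hne ((line_eq hl h1 h0 (c := 1) (one_smul _ _).symm).trans (line_eq hl' h2 h0 (c := 1) (one_smul _ _).symm).symm)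

theorem realizable_of_singleton [Finite S] (hS : IsPGroup p S) (hF : F.IsSaturated p)
    {l : Submodule (ZMod p) (Fin 2 → ZMod p)} (h : LL F D = {l}) : F.IsRealizable p := by
  have hl : l ∈ LL F D := by rw [h]; exact rfl
  have hcl := centralizerIn_lineOf D hl.1
  obtain ⟨v, hv, hlv⟩ := exists_span hl.1
  have hconj : ∀ s ∈ S, ∀ x, s * x * s⁻¹ ∈ lineOf D l ↔ x ∈ lineOf D l := by
    have key : ∀ s ∈ S, ∀ x, x ∈ lineOf D l → s * x * s⁻¹ ∈ lineOf D l := by
      rintro s hs x ⟨hx, hxl⟩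
      refine ⟨S.mul_mem (S.mul_mem hs hx) (S.inv_mem hs), ?_⟩
      have h1 : (⟨s * x * s⁻¹, S.mul_mem (S.mul_mem hs hx) (S.inv_mem hs)⟩ : S) =
          (⟨s, hs⟩ : S) * ⟨x, hx⟩ * (⟨s, hs⟩ : S)⁻¹ := rfl
      rw [h1, D.conj_eq, D.pi_mul, D.pi_pw, D.pi_eq_zero_iff.2 D.z_mem, smul_zero, zero_add]
      exact hxl
    intro s hs x
    refine ⟨fun h1 => ?_, key s hs x⟩
    have h2 := key s⁻¹ (S.inv_mem hs) _ h1
    have h3 : s⁻¹ * (s * x * s⁻¹) * s⁻¹⁻¹ = x := by group
    rwa [h3] at h2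
  have hV : F.StronglyClosed (lineOf D l) := by
    refine stronglyClosed_of hS hF (lineOf_le D l) hconj ?_
    intro R hR hRc α hα x
    rcases cent_cases D hR hRc with rfl | ⟨l', hl', rfl⟩
    · have h1 : l.map (Matrix.mulVecLin (D.rep α : Matrix (Fin 2) (Fin 2) (ZMod p))) ∈ LL F D :=
        ⟨finrank_map D α hl.1, map_line D hα hl.2⟩
      rw [h] at h1
      have h2 := mem_lineOf_map D α l x
      rw [h1] at h2
      exact h2
    · by_cases hll : l' = l
      · subst hll
        exact ⟨fun _ => x.2, fun _ => (α x).2⟩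
      · have h1 : ¬ Rad F (lineOf D l') := by
          intro h2
          have h3 : l' ∈ LL F D := ⟨hl', h2⟩
          rw [h] at h3
          exact hll h3
        constructor
        · intro h2
          have h3 := lineOf_inf D hl' hl.1 hll (α x).2 h2
          exact Z_le_lineOf D l (mem_Z.2 ⟨x.2.1, (aut_inZ_iff h1 hα x).1 h3⟩)
        · intro h2
          have h3 := lineOf_inf D hl' hl.1 hll x.2 h2
          exact Z_le_lineOf D l (mem_Z.2 ⟨(α x).2.1, (aut_inZ_iff h1 hα x).2 h3⟩)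
  have hVab : ⁅lineOf D l, lineOf D l⁆ = ⊥ := by
    rw [eq_bot_iff, Subgroup.commutator_le]
    intro a ha b hb
    rw [Subgroup.mem_bot, commutatorElement_def, comm_lineOf D hlv a ha b hb]
    group
  exact realizable_of_normal hS hF (Cfsg.Agent.H759.isNormal_of_abelian hS hF hV hVab)
    (Cfsg.Agent.H780.isCentric_of_stronglyClosed hV hcl)

/-- **At most one radical line.** -/
theorem realizable_of_le_one [Finite S] (hS : IsPGroup p S) (hF : F.IsSaturated p) (h : (LL F D).ncard ≤ 1) :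
    F.IsRealizable p := by
  have hfin : (LL F D).Finite := Set.toFinite _
  obtain ⟨l, hl⟩ := (Set.ncard_le_one_iff_subset_singleton hfin).1 h
  rcases Set.subset_singleton_iff_eq.1 hl with h1 | h1
  · exact realizable_of_empty D hS hF h1
  · exact realizable_of_singleton D hS hF h1

end Cfsg.Agent.H771.RV
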