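import Cfsg.Agent.H771.RVHData
import Cfsg.Agent.H773.RvDefs

/-!
# `TargetTwo` (helper771)
-/

set_option autoImplicit false

namespace Cfsg.Agent.H771.RV

open Cfsg Cfsg.Agent.H780 Cfsg.Agent.H275.Heis Cfsg.Agent.H773.Rv Subgroup

variable {p : ℕ} [hp : Fact p.Prime]

section Trans

variable {P Q : Type*} [Group P] [Group Q]

/-- transport of `HData` -/
def tr (D : HData p P) (e : P ≃* Q) : HData p Q where
  x0 := e D.x0
  y0 := e D.y0
  z := e D.z
  hz := by rw [← D.hz]; simp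
  pow_p w := by
    obtain ⟨u, rfl⟩ := e.surjective w
    rw [← map_pow, D.pow_p, map_one]
  z_ne := by
    intro h
    exact D.z_ne ((map_eq_one_iff e e.injective).1 h)
  center_eq := by
    have h1 : Subgroup.center Q = (Subgroup.center P).map e.toMonoidHom := by
      ext w
      obtain ⟨u, rfl⟩ := e.surjective w
      rw [Subgroup.mem_center_iff, Subgroup.mem_map]
      constructor
      · intro h
        refine ⟨u, Subgroup.mem_center_iff.2 fun v => e.injective ?_, rfl⟩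
        rw [map_mul, map_mul]; exact h (e v)
      · rintro ⟨u', hu', he⟩ v
        have : u' = u := e.injective he
        subst this
        obtain ⟨v', rfl⟩ := e.surjective v
        rw [← map_mul, ← map_mul, Subgroup.mem_center_iff.1 hu' v']
    rw [h1, D.center_eq, MonoidHom.map_zpowers]
    rfl
  comm_mem u v := by
    obtain ⟨u, rfl⟩ := e.surjective u
    obtain ⟨v, rfl⟩ := e.surjective v
    rw [Subgroup.mem_center_iff]
    intro w
    obtain ⟨w, rfl⟩ := e.surjective w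
    have := congrArg e (Subgroup.mem_center_iff.1 (D.comm_mem u v) w)
    simpa using this
  card_eq := by rw [← Nat.card_congr e.toEquiv, D.card_eq]

theorem tr_c (D : HData p P) (e : P ≃* Q) (u v : P) : (tr D e).c (e u) (e v) = D.c u v := by
  rw [HData.c_eq_iff]
  show e u * e v * (e u)⁻¹ * (e v)⁻¹ = pw (e D.z) (D.c u v)
  rw [show pw (e D.z) (D.c u v) = e (pw D.z (D.c u v)) from (map_pow e _ _).symm, ← D.c_spec]
  simp

theorem tr_pi (D : HData p P) (e : P ≃* Q) (w : P) : (tr D e).pi (e w) = D.pi w := by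
  ext i
  fin_cases i
  · exact tr_c D e w D.y0
  · exact tr_c D e D.x0 w

theorem tr_rep (D : HData p P) (e : P ≃* Q) {α : MulAut P} {β : MulAut Q} (h : ∀ s, β (e s) = e (α s)) :
    (tr D e).rep β = D.rep α := by
  apply Units.ext
  apply D.mulVec_ext
  intro w
  rw [D.rep_mulVec, ← tr_pi D e w, HData.rep_mulVec, h, tr_pi]

end Trans

/-- `HData` from Heisenberg coordinates -/
theorem exists_hdata_of_coord {S : Type*} [Group S] (H : HeisCoord S (ZMod p)) (hp2 : p ≠ 2) : Nonempty (HData p S) := by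
  obtain ⟨x, hx1, hx2, hx3⟩ := H.surj 1 0 0
  obtain ⟨y, hy1, hy2, hy3⟩ := H.surj 0 1 0
  obtain ⟨z, hz1, hz2, hz3⟩ := H.surj 0 0 1
  have hc1 : H.c 1 = 0 := by
    have := H.c_mul 1 1
    rw [mul_one, H.a_one, zero_mul, add_zero] at this
    simpa using this
  have hcen : ∀ w, w ∈ Subgroup.center S ↔ H.a w = 0 ∧ H.b w = 0 := by
    intro w
    rw [← H.central_iff, Subgroup.mem_center_iff]
  have hcp : ∀ (w : S) (n : ℕ), H.c (w ^ n) = n * H.c w + (n.choose 2 : ℕ) * (H.a w * H.b w) := by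
    intro w n
    induction n with
    | zero => rw [pow_zero, hc1]; simp
    | succ n ih =>
      rw [pow_succ, H.c_mul, ih, f_pow H.a_mul, Nat.choose_succ_succ' n 1, Nat.choose_one_right]
      push_cast
      ring
  refine ⟨⟨x, y, z, ?_, ?_, ?_, ?_, ?_, card_S H⟩⟩
  · have h1 : x * y = z * (y * x) := by
      apply H.inj
      · rw [H.a_mul, H.a_mul, H.a_mul, hx1, hy1, hz1]; ring
      · rw [H.b_mul, H.b_mul, H.b_mul, hx2, hy2, hz2]; ring
      · rw [H.c_mul, H.c_mul, H.c_mul, hx1, hx3, hy1, hy2, hy3, hz1, hz3]; ring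
    calc x * y * x⁻¹ * y⁻¹ = z * (y * x) * x⁻¹ * y⁻¹ := by rw [h1]
      _ = z := by group
  · intro w
    apply H.inj
    · rw [f_pow H.a_mul, H.a_one]; simp
    · rw [f_pow H.b_mul, H.b_one]; simp
    · rw [hcp, hc1]
      have h2 : (p.choose 2 : ZMod p) = 0 := by
        rw [ZMod.natCast_eq_zero_iff]
        exact hp.out.dvd_choose_self (by norm_num) (lt_of_le_of_ne hp.out.two_le (Ne.symm hp2))
      rw [h2]; simp
  · rintro rfl
    rw [hc1] at hz3
    exact zero_ne_one hz3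
  · ext w
    rw [hcen, Subgroup.mem_zpowers_iff]
    constructor
    · rintro ⟨h1, h2⟩
      refine ⟨((H.c w).val : ℤ), ?_⟩
      rw [zpow_natCast]
      apply H.inj
      · rw [f_pow H.a_mul, hz1, h1, mul_zero]
      · rw [f_pow H.b_mul, hz2, h2, mul_zero]
      · rw [hcp, hz3, hz1]; simp
    · rintro ⟨n, rfl⟩
      have h3 : z ∈ Subgroup.center S := (hcen z).2 ⟨hz1, hz2⟩
      exact (hcen _).1 (Subgroup.zpow_mem _ h3 n)
  · intro u v
    rw [hcen]
    constructor
    · rw [H.a_mul, H.a_mul, H.a_mul, H.a_inv, H.a_inv]; ring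
    · rw [H.b_mul, H.b_mul, H.b_mul, H.b_inv, H.b_inv]; ring

section Sylow

set_option linter.unusedSectionVars false

variable {G : Type*} [Group G] [Finite G]

/-- two Sylow subgroups contained in `N` are conjugate in `N` -/
theorem conj_in (N : Subgroup G) {P Q : Sylow p G} (hP : (P : Subgroup G) ≤ N) (hQ : (Q : Subgroup G) ≤ N) :
    ∃ n ∈ N, n • P = Q := by
  obtain ⟨n, hn⟩ := MulAction.exists_smul_eq N (P.subtype hP) (Q.subtype hQ)
  refine ⟨n, n.2, ?_⟩
  rw [Sylow.smul_subtype] at hn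
  exact Sylow.subtype_injective hn

theorem le_norm_of_card {T V : Subgroup G} (hT : Nat.card T = p ^ 3) (hVT : V ≤ T) (hV : Nat.card V = p ^ 2) :
    T ≤ normalizer (V : Set G) := by
  have h1 : (V.subgroupOf T).index = p := by
    have h2 := Subgroup.card_mul_index (V.subgroupOf T)
    rw [Nat.card_congr (Subgroup.subgroupOfEquivOfLe hVT).toEquiv, hV, hT] at h2
    have h3 : p ^ 2 * (V.subgroupOf T).index = p ^ 2 * p := by rw [h2]; ring
    exact Nat.eq_of_mul_eq_mul_left (pow_pos hp.out.pos 2) h3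
  have h2 : (V.subgroupOf T).Normal := by
    apply Subgroup.normal_of_index_eq_minFac_card
    rw [h1, hT, Nat.Prime.pow_minFac hp.out (by norm_num)]
  exact (Subgroup.normal_subgroupOf_iff_le_normalizer hVT).1 h2

theorem mem_smul {g x : G} {T : Sylow p G} : x ∈ ((g • T : Sylow p G) : Subgroup G) ↔ g⁻¹ * x * g ∈ (T : Subgroup G) := by
  rw [Sylow.coe_subgroup_smul, Subgroup.mem_pointwise_smul_iff_inv_smul_mem]
  simp [MulAut.smul_def]

theorem radG_of_conj (T : Sylow p G) (hT : Nat.card T = p ^ 3) {V : Subgroup G} (hVT : V ≤ T)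
    (hVc : Nat.card V = p ^ 2) (hVab : ∀ x ∈ V, ∀ y ∈ V, x * y = y * x) {v g : G} (hv : v ∈ V)
    (hvn : ¬ InZ (T : Subgroup G) v) (hz : InZ (T : Subgroup G) (g * v * g⁻¹)) : RadG (T : Subgroup G) V := by
  have hC1 : ((g⁻¹ • T : Sylow p G) : Subgroup G) ≤ centralizer ({v} : Set G) := by
    intro x hx
    rw [mem_smul, inv_inv] at hx
    rw [Subgroup.mem_centralizer_singleton_iff]
    have h1 := hz _ hx
    have h2 : g * (x * v) * g⁻¹ = g * (v * x) * g⁻¹ := by
      calc g * (x * v) * g⁻¹ = g * x * g⁻¹ * (g * v * g⁻¹) := by group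
        _ = g * v * g⁻¹ * (g * x * g⁻¹) := h1
        _ = g * (v * x) * g⁻¹ := by group
    exact mul_left_cancel (mul_right_cancel h2)
  have hC2 : V ≤ centralizer ({v} : Set G) := by
    intro x hx
    rw [Subgroup.mem_centralizer_singleton_iff]
    exact hVab x hx v hv
  have hVp : IsPGroup p (V.subgroupOf (centralizer ({v} : Set G))) :=
    IsPGroup.of_card (n := 2) (by rw [Nat.card_congr (Subgroup.subgroupOfEquivOfLe hC2).toEquiv, hVc])
  obtain ⟨Q, hQ⟩ := hVp.exists_le_sylow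
  obtain ⟨c, hc⟩ := MulAction.exists_smul_eq (centralizer ({v} : Set G)) ((g⁻¹ • T).subtype hC1) Q
  rw [Sylow.smul_subtype] at hc
  set T2 : Sylow p G := c • (g⁻¹ • T) with hT2
  have hT2C : (T2 : Subgroup G) ≤ centralizer ({v} : Set G) := Sylow.smul_le hC1 c
  have hVT2 : V ≤ (T2 : Subgroup G) := by
    intro x hx
    have h1 : (⟨x, hC2 hx⟩ : centralizer ({v} : Set G)) ∈ V.subgroupOf (centralizer ({v} : Set G)) := hx
    have h2 := hQ h1
    rw [← hc] at h2
    exact h2
  have hT2c : Nat.card T2 = p ^ 3 := by rw [← hT]; exact Nat.card_congr (Sylow.equiv T2 T).toEquiv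
  obtain ⟨n, hn, hnT⟩ := conj_in (normalizer (V : Set G)) (le_norm_of_card hT hVT hVc) (le_norm_of_card hT2c hVT2 hVc)
  refine ⟨n, hn, n⁻¹ * v * n, ?_, fun t ht => ?_, ?_⟩
  · have h1 := (Subgroup.mem_normalizer_iff.1 (inv_mem hn) v).1 hv
    rwa [inv_inv] at h1
  · have h1 : n * t * n⁻¹ ∈ (T2 : Subgroup G) := by
      rw [← hnT, mem_smul]
      have h2 : n⁻¹ * (n * t * n⁻¹) * n = t := by group
      rw [h2]; exact ht
    have h2 := Subgroup.mem_centralizer_singleton_iff.1 (hT2C h1)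
    have h3 : n⁻¹ * (n * t * n⁻¹ * v) * n = n⁻¹ * (v * (n * t * n⁻¹)) * n := by rw [h2]
    calc t * (n⁻¹ * v * n) = n⁻¹ * (n * t * n⁻¹ * v) * n := by group
      _ = n⁻¹ * (v * (n * t * n⁻¹)) * n := h3
      _ = n⁻¹ * v * n * t := by group
  · have h1 : n * (n⁻¹ * v * n) * n⁻¹ = v := by group
    rw [h1]; exact hvn

end Sylow

section Line

variable {Ω : Type*} [Group Ω] {S : Subgroup Ω}

theorem kz_pw (D : HData p S) (v : Fin 2 → ZMod p) (k : ZMod p) :
    D.pi (pw D.x0 (v 0) * pw D.y0 (v 1) * pw D.z k) = v ∧ kz D (pw D.x0 (v 0) * pw D.y0 (v 1) * pw D.z k) = k := by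
  have h1 : D.pi (pw D.x0 (v 0) * pw D.y0 (v 1) * pw D.z k) = v := by
    rw [D.pi_mul, D.pi_lift, D.pi_pw, D.pi_eq_zero_iff.2 D.z_mem, smul_zero, add_zero]
  refine ⟨h1, ?_⟩
  have h3 := kz_spec D (pw D.x0 (v 0) * pw D.y0 (v 1) * pw D.z k)
  rw [h1] at h3
  exact (pw_z_inj D (mul_left_cancel h3)).symm

theorem card_lineOf (D : HData p S) {l : Submodule (ZMod p) (Fin 2 → ZMod p)} (hl : Module.finrank (ZMod p) l = 1) :
    Nat.card (lineOf D l) = p ^ 2 := by
  have h1 : Function.Bijective (fun x : lineOf D l => ((⟨D.pi ⟨x, x.2.1⟩, x.2.2⟩ : l), kz D ⟨x, x.2.1⟩)) := by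
    constructor
    · intro x y h
      simp only [Prod.mk.injEq, Subtype.mk.injEq] at h
      apply Subtype.ext
      have h2 : (⟨x, x.2.1⟩ : S) = ⟨y, y.2.1⟩ := by
        rw [kz_spec D ⟨x, x.2.1⟩, kz_spec D ⟨y, y.2.1⟩, h.1, h.2]
      exact congrArg (fun s : S => (s : Ω)) h2
    · rintro ⟨⟨v, hv⟩, k⟩
      obtain ⟨h2, h3⟩ := kz_pw D v k
      refine ⟨⟨_, (pw D.x0 (v 0) * pw D.y0 (v 1) * pw D.z k).2, by rw [Subtype.coe_eta, h2]; exact hv⟩, ?_⟩
      simp only [Subtype.coe_eta, h2, h3]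
  rw [Nat.card_congr (Equiv.ofBijective _ h1), Nat.card_prod, Nat.card_zmod,
    Module.natCard_eq_pow_finrank (K := ZMod p), hl, Nat.card_zmod]
  ring

theorem comm_lineOf (D : HData p S) {l : Submodule (ZMod p) (Fin 2 → ZMod p)} {v : Fin 2 → ZMod p}
    (hl : l = Submodule.span (ZMod p) {v}) : ∀ x ∈ lineOf D l, ∀ y ∈ lineOf D l, x * y = y * x := by
  rintro x ⟨hx, hxl⟩ y ⟨hy, hyl⟩
  rw [hl, Submodule.mem_span_singleton] at hxl hyl
  obtain ⟨a, ha⟩ := hxl
  obtain ⟨b, hb⟩ := hyl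
  have h1 : D.c ⟨x, hx⟩ ⟨y, hy⟩ = 0 := by
    rw [D.c_eq_det, ← ha, ← hb]
    simp only [Pi.smul_apply, smul_eq_mul]
    ring
  exact congrArg Subtype.val ((D.c_eq_zero_iff.1 h1).eq)

theorem line_eq {l : Submodule (ZMod p) (Fin 2 → ZMod p)} (hl : Module.finrank (ZMod p) l = 1)
    {v w : Fin 2 → ZMod p} (hv : v ∈ l) (hv0 : v ≠ 0) {c : ZMod p} (hw : v = c • w) :
    l = Submodule.span (ZMod p) {w} := by
  have hc : c ≠ 0 := by
    rintro rfl
    rw [zero_smul] at hw
    exact hv0 hw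
  have h1 : Submodule.span (ZMod p) {w} ≤ l := by
    rw [Submodule.span_singleton_le_iff_mem]
    have : w = c⁻¹ • v := by rw [hw, smul_smul, inv_mul_cancel₀ hc, one_smul]
    rw [this]
    exact l.smul_mem _ hv
  have hw0 : w ≠ 0 := by
    rintro rfl
    rw [smul_zero] at hw
    exact hv0 hw
  symm
  apply Submodule.eq_of_le_of_finrank_eq h1
  rw [finrank_span_singleton hw0, hl]

end Line

/-- an antidiagonal matrix is the matrix of an automorphism -/
theorem exists_rep_anti {P : Type*} [Group P] [Finite P] (D : HData p P) (l m : (ZMod p)ˣ) : ∃ β : MulAut P,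
    (D.rep β : Matrix (Fin 2) (Fin 2) (ZMod p)) = !![0, (l : ZMod p); (m : ZMod p), 0] := by
  obtain ⟨β, -, hβ⟩ := lift_gamtau (coordOf D) ![(-l) * (-m), -m, 1]
  have h1 : ∀ s, (coordOf D).a (β s) = (l : ZMod p) * (coordOf D).b s ∧
      (coordOf D).b (β s) = (m : ZMod p) * (coordOf D).a s := by
    intro s
    refine ⟨?_, ?_⟩
    · rw [(hβ s).1]; simp
    · rw [(hβ s).2]; simp
  refine ⟨β, ?_⟩
  apply D.mulVec_ext
  intro w
  rw [D.rep_mulVec]
  ext i
  fin_cases i
  · show (coordOf D).a (β w) = _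
    rw [(h1 w).1]
    simp [Matrix.mulVec, dotProduct, Fin.sum_univ_two, coordOf_b]
  · show (coordOf D).b (β w) = _
    rw [(h1 w).2]
    simp [Matrix.mulVec, dotProduct, Fin.sum_univ_two, coordOf_a]

theorem exists_rep_mono {P : Type*} [Group P] [Finite P] (D : HData p P) (w : GL (Fin 2) (ZMod p)) {a b : ZMod p}
    (h : (w : Matrix (Fin 2) (Fin 2) (ZMod p)) = !![a, 0; 0, b] ∨
      (w : Matrix (Fin 2) (Fin 2) (ZMod p)) = !![0, a; b, 0]) : ∃ β : MulAut P, D.rep β = w := by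
  have hdet : (w : Matrix (Fin 2) (Fin 2) (ZMod p)).det ≠ 0 := by
    have h1 : IsUnit (w : Matrix (Fin 2) (Fin 2) (ZMod p)) := w.isUnit
    exact ((Matrix.isUnit_iff_isUnit_det _).1 h1).ne_zero
  have hab : a ≠ 0 ∧ b ≠ 0 := by
    rcases h with h | h
    · rw [h, Matrix.det_fin_two_of] at hdet
      simpa using hdet
    · rw [h, Matrix.det_fin_two_of] at hdet
      simpa using hdet
  rcases h with h | h
  · obtain ⟨β, hβ, -⟩ := exists_rep_diag D (Units.mk0 a hab.1) (Units.mk0 b hab.2)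
    exact ⟨β, Units.ext (by rw [hβ, h]; rfl)⟩
  · obtain ⟨β, hβ⟩ := exists_rep_anti D (Units.mk0 a hab.1) (Units.mk0 b hab.2)
    exact ⟨β, Units.ext (by rw [hβ, h]; rfl)⟩

/-- **`TargetTwo`** -/
theorem targetTwo (hp2 : p ≠ 2) : TargetTwo p := by
  intro W h1 h2 h3
  have hW : WDat W := by
    refine ⟨h1, h2, fun w hw => ?_⟩
    obtain ⟨a, b, h | h⟩ := h3 w hw
    · left; rw [h]; exact ⟨rfl, rfl⟩
    · right; rw [h]; exact ⟨rfl, rfl⟩
  obtain ⟨D0⟩ := exists_hdata_of_coord (coordUpper (ZMod p)) hp2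
  obtain ⟨G, iG, iF, ι, hι, ⟨T, hT⟩, hA, hF⟩ := exists_group_W D0 hp2 hW
  let e : Cfsg.Agent.ClassicalGeometry.AutPSL.SylowU.upper 3 (ZMod p) ≃* (T : Subgroup G) :=
    (MonoidHom.ofInjective hι).trans (MulEquiv.subgroupCongr hT.symm)
  have he : ∀ s, ((e s : (T : Subgroup G)) : G) = ι s := fun s => rfl
  have hfin : Finite (Cfsg.Agent.ClassicalGeometry.AutPSL.SylowU.upper 3 (ZMod p)) := Finite.of_equiv _ e.symm.toEquiv
  have hcard : Nat.card T = p ^ 3 := by rw [← D0.card_eq]; exact (Nat.card_congr e.toEquiv).symm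
  have hcen : ∀ s, InZ (T : Subgroup G) (e s : (T : Subgroup G)) ↔ s ∈ Subgroup.center _ := by
    intro s
    rw [Subgroup.mem_center_iff]
    constructor
    · intro h t
      apply e.injective
      rw [map_mul, map_mul]
      exact Subtype.ext (h (e t) (e t).2)
    · intro h t ht
      obtain ⟨t', ht'⟩ := e.surjective ⟨t, ht⟩
      have h4 := congrArg (fun x => ((e x : (T : Subgroup G)) : G)) (h t')
      simp only [map_mul, ht'] at h4
      exact h4
  refine ⟨G, iG, iF, T, tr D0 e, ?_, ?_⟩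
  · ext M
    rw [WG, Subgroup.mem_map]
    constructor
    · rintro ⟨β, hβ, rfl⟩
      obtain ⟨g, -, hg⟩ := (Cfsg.Agent.H802.mem_autInducedBy_iff _ _ _).1 hβ
      rw [tr_rep D0 e (α := (e.trans β).trans e.symm) (fun s => (e.apply_symm_apply _).symm), hA]
      refine ⟨g, fun s => ?_⟩
      rw [← he, ← he, ← hg]
      exact congrArg Subtype.val (e.apply_symm_apply _)
    · intro hM
      obtain ⟨a, b, hab⟩ := h3 M hM
      obtain ⟨α, hα⟩ := exists_rep_mono D0 M hab
      rw [← hα, hA] at hM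
      obtain ⟨g, hg⟩ := hM
      refine ⟨(e.symm.trans α).trans e, ?_, ?_⟩
      · rw [Cfsg.Agent.H802.mem_autInducedBy_iff]
        refine ⟨g, trivial, fun x => ?_⟩
        obtain ⟨s, rfl⟩ := e.surjective x
        rw [he, ← hg, ← he]
        show ((e (α (e.symm (e s))) : (T : Subgroup G)) : G) = _
        rw [e.symm_apply_apply]
      · rw [← hα]
        apply tr_rep
        intro s
        show e (α (e.symm (e s))) = _
        rw [e.symm_apply_apply]
  · have hback : ∀ (l : Submodule (ZMod p) (Fin 2 → ZMod p)) (v : Fin 2 → ZMod p), v ≠ 0 →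
        l = Submodule.span (ZMod p) {v} → (v 0 = 0 ∨ v 1 = 0) → l ∈ LG (T : Subgroup G) (tr D0 e) := by
      intro l v hv hl hv01
      have hfr : Module.finrank (ZMod p) l = 1 := by rw [hl, finrank_span_singleton hv]
      refine ⟨hfr, ?_⟩
      obtain ⟨s, hs⟩ : ∃ s, D0.pi s = v := ⟨_, D0.pi_lift v⟩
      have hsn : s ∉ Subgroup.center _ := by
        rw [← D0.pi_eq_zero_iff, hs]; exact hv
      obtain ⟨g, z, hz, hgz⟩ := (hF s hsn).2 (by rw [hs]; exact hv01)
      refine radG_of_conj T hcard (V := lineOf (tr D0 e) l) (fun x hx => hx.1) (card_lineOf _ hfr) (comm_lineOf _ hl)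
        (v := e s) (g := g) ⟨(e s).2, ?_⟩ ?_ ?_
      · rw [Subtype.coe_eta, tr_pi, hs, hl]
        exact Submodule.mem_span_singleton_self v
      · rw [hcen]; exact hsn
      · rw [he, hgz, ← he, hcen]; exact hz
    ext l
    rw [Set.mem_insert_iff, Set.mem_singleton_iff]
    constructor
    · rintro ⟨hfr, g, hg, y, ⟨hyT, hyl⟩, hyZ, hyn⟩
      obtain ⟨hvT, hvl⟩ : g * y * g⁻¹ ∈ lineOf (tr D0 e) l := (Subgroup.mem_normalizer_iff.1 hg y).1 ⟨hyT, hyl⟩
      obtain ⟨s, hs⟩ := e.surjective ⟨_, hvT⟩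
      obtain ⟨z, hz⟩ := e.surjective ⟨_, hyT⟩
      have hs' : ((e s : (T : Subgroup G)) : G) = g * y * g⁻¹ := by rw [hs]
      have hz' : ((e z : (T : Subgroup G)) : G) = y := by rw [hz]
      have hsn : s ∉ Subgroup.center _ := by rw [← hcen, hs']; exact hyn
      have hzc : z ∈ Subgroup.center _ := by rw [← hcen, hz']; exact hyZ
      have h4 := (hF s hsn).1 ⟨g⁻¹, z, hzc, by rw [← he, ← he, hs', hz']; group⟩
      rw [← hs, tr_pi] at hvl
      have hv0 : D0.pi s ≠ 0 := by rw [Ne, D0.pi_eq_zero_iff]; exact hsn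
      rcases h4 with h4 | h4
      · right
        exact line_eq hfr hvl hv0 (c := D0.pi s 1) (by
          ext i
          fin_cases i
          · simpa using h4
          · simp)
      · left
        exact line_eq hfr hvl hv0 (c := D0.pi s 0) (by
          ext i
          fin_cases i
          · simp
          · simpa using h4)
    · rintro (rfl | rfl)
      · exact hback _ ![1, 0] (by intro h; exact one_ne_zero (congrFun h 0)) rfl (Or.inr rfl)
      · exact hback _ ![0, 1] (by intro h; exact one_ne_zero (congrFun h 1)) rfl (Or.inl rfl)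

end Cfsg.Agent.H771.RV
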